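import Cfsg.Agent.Lib.Linear.CoprimeTrans.RegClasses
import Cfsg.Agent.Lib.Solv.FixedPointFree

/-!
A nontrivial `p'`-core adds enough `p`-regular classes.
-/

set_option autoImplicit false
set_option linter.unusedSectionVars false

namespace Cfsg.Lib.Linear.CoprimeTrans

universe u

variable {p : ℕ} [Fact p.Prime] {G : Type u} [Group G] [Finite G]

theorem not_dvd_card_comap {K : Subgroup G} [K.Normal] (hK : ¬ p ∣ Nat.card K) {H : Subgroup (G ⧸ K)}
    (hH : ¬ p ∣ Nat.card H) :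
    Nat.card (H.comap (QuotientGroup.mk' K)) = Nat.card K * Nat.card H ∧
      ∀ x : G, QuotientGroup.mk' K x ∈ H → ¬ p ∣ orderOf x := by
  set M := H.comap (QuotientGroup.mk' K)
  have h1 : Nat.card M * H.index = Nat.card G := by
    rw [← Subgroup.index_comap_of_surjective H (QuotientGroup.mk'_surjective K)]
    exact Subgroup.card_mul_index M
  have h2 : Nat.card M = Nat.card K * Nat.card H := by
    refine Nat.eq_of_mul_eq_mul_right (Nat.pos_of_ne_zero H.index_ne_zero_of_finite) ?_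
    rw [h1, mul_assoc, Subgroup.card_mul_index, mul_comm]
    exact Subgroup.card_eq_card_quotient_mul_card_subgroup K
  refine ⟨h2, fun x hx hd => ?_⟩
  have := hd.trans (Subgroup.orderOf_mk x (show x ∈ M from hx) ▸ orderOf_dvd_natCard (⟨x, hx⟩ : M))
  rw [h2] at this
  exact ((Fact.out : p.Prime).dvd_mul.1 this).elim hK hH

/-- Counting the `p`-regular classes above a nontrivial `p'`-core. -/
theorem count_lifts {K : Subgroup G} [hKn : K.Normal] (hK : ¬ p ∣ Nat.card K) (hKne : K ≠ ⊥)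
    {V H : Subgroup (G ⧸ K)} [V.Normal] (hc : Subgroup.IsComplement' V H) (hH : ¬ p ∣ Nat.card H) :
    Nat.card (ConjClasses H) + 1 ≤ Nat.card (RegClass p G) ∧
      (Nat.card (RegClass p G) ≤ Nat.card (ConjClasses H) + 1 →
        (∀ a ∈ K, ∀ b ∈ K, a ≠ 1 → b ≠ 1 → IsConj a b) ∧
        ∀ x y : G, QuotientGroup.mk' K x ∈ H → QuotientGroup.mk' K x ≠ 1 →
          QuotientGroup.mk' K x = QuotientGroup.mk' K y → IsConj x y) := by
  classical
  obtain ⟨-, hreg⟩ := not_dvd_card_comap hK hH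
  obtain ⟨r, hr, -, -⟩ := exists_retraction hc
  obtain ⟨k₀, hk₀, hk₀1⟩ := K.bot_or_exists_ne_one.resolve_left hKne
  have hK1 : ∀ k ∈ K, QuotientGroup.mk' K k = 1 := fun k hk => (QuotientGroup.eq_one_iff k).2 hk
  have hKreg : ∀ k ∈ K, ¬ p ∣ orderOf k := fun k hk => hreg k (by rw [hK1 k hk]; exact H.one_mem)
  let cls : G → ConjClasses H := fun g => ConjClasses.mk (r (QuotientGroup.mk' K g))
  have hcls : ∀ g g', IsConj g g' → cls g = cls g' := fun g g' h =>
    ConjClasses.mk_eq_mk_iff_isConj.2 (MonoidHom.map_isConj (r.comp (QuotientGroup.mk' K)) h)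
  have hrep : ∀ c : ConjClasses H, ∃ x : G, QuotientGroup.mk' K x ∈ H ∧ cls x = c ∧ (c = 1 → x = 1) := by
    intro c
    by_cases hc1 : c = 1
    · refine ⟨1, by rw [map_one]; exact H.one_mem, ?_, fun _ => rfl⟩
      show ConjClasses.mk (r (QuotientGroup.mk' K 1)) = c
      rw [map_one, map_one, hc1]; rfl
    obtain ⟨h, rfl⟩ := ConjClasses.mk_surjective c
    obtain ⟨x, hx⟩ := QuotientGroup.mk'_surjective K (h : G ⧸ K)
    refine ⟨x, by rw [hx]; exact h.2, ?_, fun e => absurd e hc1⟩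
    show ConjClasses.mk (r (QuotientGroup.mk' K x)) = _
    rw [hx, hr]
  choose f hfH hfcls hf1 using hrep
  let F : Option (ConjClasses H) → RegClass p G := fun o => o.elim ⟨ConjClasses.mk k₀, k₀, rfl, hKreg k₀ hk₀⟩
    fun c => ⟨ConjClasses.mk (f c), f c, rfl, hreg _ (hfH c)⟩
  have hk0cls : cls k₀ = 1 := by
    show ConjClasses.mk (r (QuotientGroup.mk' K k₀)) = 1
    rw [hK1 k₀ hk₀, map_one]; rfl
  have hne : ∀ c, ¬ IsConj k₀ (f c) := fun c h => by
    have e := hcls _ _ h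
    rw [hk0cls, hfcls] at e
    rw [hf1 c e.symm] at h
    exact hk₀1 (isConj_one_left.1 h)
  have hF : Function.Injective F := by
    rintro (_ | a) (_ | b) e
    · rfl
    · exact absurd (ConjClasses.mk_eq_mk_iff_isConj.1 (congrArg Subtype.val e)) (hne b)
    · exact absurd (ConjClasses.mk_eq_mk_iff_isConj.1 (congrArg Subtype.val e)).symm (hne a)
    · have e' := hcls _ _ (ConjClasses.mk_eq_mk_iff_isConj.1 (congrArg Subtype.val e))
      rw [hfcls, hfcls] at e'
      rw [e']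
  have hle := Nat.card_le_card_of_injective F hF
  rw [Finite.card_option] at hle
  refine ⟨hle, fun hub => ?_⟩
  have hsurj : Function.Surjective F := ((Nat.bijective_iff_injective_and_card F).2
    ⟨hF, by rw [Finite.card_option]; omega⟩).2
  have hcase : ∀ g : G, ¬ p ∣ orderOf g → IsConj g k₀ ∨ IsConj g (f (cls g)) := by
    intro g hg
    obtain ⟨(_ | c), he⟩ := hsurj ⟨ConjClasses.mk g, g, rfl, hg⟩
    · exact Or.inl (ConjClasses.mk_eq_mk_iff_isConj.1 (congrArg Subtype.val he)).symm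
    · have h : IsConj g (f c) := (ConjClasses.mk_eq_mk_iff_isConj.1 (congrArg Subtype.val he)).symm
      have e := hcls _ _ h
      rw [hfcls] at e
      exact Or.inr (e ▸ h)
  have hKconj : ∀ a ∈ K, a ≠ 1 → IsConj a k₀ := by
    intro a ha ha1
    refine (hcase a (hKreg a ha)).resolve_right fun h => ha1 ?_
    have : cls a = 1 := by
      show ConjClasses.mk (r (QuotientGroup.mk' K a)) = 1
      rw [hK1 a ha, map_one]; rfl
    rw [this, hf1 1 rfl] at h
    exact isConj_one_left.1 h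
  refine ⟨fun a ha b hb ha1 hb1 => (hKconj a ha ha1).trans (hKconj b hb hb1).symm, fun x y hx hx1 hxy => ?_⟩
  have hnot : ∀ g, QuotientGroup.mk' K g = QuotientGroup.mk' K x → ¬ IsConj g k₀ := by
    intro g hg h
    obtain ⟨c, hc'⟩ := isConj_iff.1 h.symm
    exact hx1 (by rw [← hg, ← hc']; exact hK1 _ (hKn.conj_mem k₀ hk₀ c))
  have h1 := (hcase x (hreg x hx)).resolve_left (hnot x rfl)
  have h2 := (hcase y (hreg y (hxy ▸ hx))).resolve_left (hnot y hxy.symm)
  have e : cls x = cls y := by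
    show ConjClasses.mk (r (QuotientGroup.mk' K x)) = ConjClasses.mk (r (QuotientGroup.mk' K y))
    rw [hxy]
  rw [e] at h1
  exact h1.trans h2.symm

/-- A normal subgroup whose nontrivial elements are conjugate is elementary abelian. -/
theorem elementary_of_one_class {K : Subgroup G} [hKn : K.Normal] (hKne : K ≠ ⊥)
    (hA : ∀ a ∈ K, ∀ b ∈ K, a ≠ 1 → b ≠ 1 → IsConj a b) :
    (∀ a ∈ K, ∀ b ∈ K, a * b = b * a) ∧ ∃ r : ℕ, r.Prime ∧ IsPGroup r K ∧ ∀ a ∈ K, a ^ r = 1 := by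
  haveI : Nontrivial K := (Subgroup.nontrivial_iff_ne_bot K).2 hKne
  obtain ⟨r, hr, hrd⟩ := Nat.exists_prime_and_dvd (show Nat.card K ≠ 1 from Finite.one_lt_card.ne')
  haveI := Fact.mk hr
  obtain ⟨t, ht⟩ := exists_prime_orderOf_dvd_card' (G := K) r hrd
  have ht1 : (t : G) ≠ 1 := fun e => hr.ne_one (by rw [← ht, ← Subgroup.orderOf_coe, e, orderOf_one])
  have hexp : ∀ a ∈ K, a ^ r = 1 := by
    intro a ha
    by_cases ha1 : a = 1
    · rw [ha1, one_pow]
    obtain ⟨c, rfl⟩ := isConj_iff.1 (hA t t.2 a ha ht1 ha1)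
    rw [conj_pow, ← ht, ← Subgroup.orderOf_coe, pow_orderOf_eq_one, mul_one, mul_inv_cancel]
  have hP : IsPGroup r K := fun a => ⟨1, Subtype.ext (by simpa using hexp a a.2)⟩
  haveI := hP.center_nontrivial
  obtain ⟨⟨z, hz⟩, hz1⟩ := exists_ne (1 : Subgroup.center K)
  have hzc : ∀ b ∈ K, b * (z : G) = (z : G) * b := fun b hb =>
    congrArg Subtype.val (Subgroup.mem_center_iff.1 hz ⟨b, hb⟩)
  refine ⟨fun a ha b hb => ?_, r, hr, hP, hexp⟩
  by_cases ha1 : a = 1
  · rw [ha1, one_mul, mul_one]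
  obtain ⟨g, rfl⟩ := isConj_iff.1 (hA z z.2 a ha (fun e => hz1 (Subtype.ext (Subtype.ext e))) ha1)
  have e := hzc (g⁻¹ * b * g) (by simpa using hKn.conj_mem b hb g⁻¹)
  calc g * z * g⁻¹ * b = g * ((z : G) * (g⁻¹ * b * g)) * g⁻¹ := by group
    _ = g * (g⁻¹ * b * g * (z : G)) * g⁻¹ := by rw [e]
    _ = b * (g * z * g⁻¹) := by group

theorem card_inf_centralizer_modEq {y : G} (hy : y ^ p = 1) (N : Subgroup G)
    (hN : ∀ a ∈ N, y * a * y⁻¹ ∈ N) (hfix : ∀ a ∈ N, Commute y a → a = 1) : Nat.card N ≡ 1 [MOD p] := by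
  classical
  haveI : Fintype N := Fintype.ofFinite N
  let f : Function.End N := fun a => ⟨y * a * y⁻¹, hN a a.2⟩
  have hfi : ∀ (i : ℕ) (a : N), ((f ^ i) a : G) = y ^ i * a * (y ^ i)⁻¹ := by
    intro i
    induction i with
    | zero => intro a; simp; rfl
    | succ i ih =>
      intro a
      rw [pow_succ']
      show y * ((f ^ i) a : G) * y⁻¹ = _
      rw [ih, pow_succ']; group
  have hf : f ^ p ^ 1 = 1 := funext fun a => Subtype.ext (by rw [pow_one, hfi, hy]; simp; rfl)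
  have hmod := Equiv.Perm.card_fixedPoints_modEq hf
  rw [← Nat.card_eq_fintype_card, ← Nat.card_eq_fintype_card] at hmod
  have h1 : Nat.card (Function.fixedPoints f) = 1 := by
    refine Nat.card_eq_one_iff_unique.2 ⟨⟨fun a b => ?_⟩, ⟨⟨1, Subtype.ext (by show y * 1 * y⁻¹ = 1; group)⟩⟩⟩
    have key : ∀ a : Function.fixedPoints f, a.1 = 1 := fun a =>
      Subtype.ext (hfix _ a.1.2 (mul_inv_eq_iff_eq_mul.1 (congrArg Subtype.val a.2 : y * (a.1 : G) * y⁻¹ = a.1)))
    exact Subtype.ext ((key a).trans (key b).symm)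
  rw [h1] at hmod
  exact hmod

/-- If the nontrivial elements of the core are conjugate, a Sylow subgroup of rank two centralises it. -/
theorem centralizes_core (h : OnePClass p G) {K : Subgroup G} [hKn : K.Normal] (hK : ¬ p ∣ Nat.card K)
    (hA : ∀ a ∈ K, ∀ b ∈ K, a ≠ 1 → b ≠ 1 → IsConj a b) (hKab : ∀ a ∈ K, ∀ b ∈ K, a * b = b * a)
    {V H : Subgroup (G ⧸ K)} [hVn : V.Normal] (hc : Subgroup.IsComplement' V H) (hV : Nat.card V = p ^ 2)
    (hexp : ∀ v ∈ V, v ^ p = 1) (hVab : ∀ a ∈ V, ∀ b ∈ V, a * b = b * a) (hH : ¬ p ∣ Nat.card H) :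
    ∀ g : G, QuotientGroup.mk' K g ∈ V → ∀ k ∈ K, g * k = k * g := by
  classical
  have hp : p.Prime := Fact.out
  obtain ⟨P⟩ : Nonempty (Sylow p G) := inferInstance
  set R := (P : Subgroup G).map (QuotientGroup.mk' K) with hR
  obtain ⟨r, hr, hrV, hrm⟩ := exists_retraction hc
  have hRV : R = V := by
    let R' : Sylow p (G ⧸ K) := P.mapSurjective (QuotientGroup.mk'_surjective K)
    have hle : (R' : Subgroup (G ⧸ K)) ≤ V := fun x hx => by
      obtain ⟨m, hm⟩ := IsPGroup.iff_orderOf.1 R'.isPGroup' ⟨x, hx⟩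
      rw [Subgroup.orderOf_mk] at hm
      have h1 : r x = 1 := orderOf_eq_one_iff.1 (by
        have hd1 : orderOf (r x) ∣ p ^ m := hm ▸ orderOf_map_dvd r x
        obtain ⟨i, hi, he⟩ := (Nat.dvd_prime_pow hp).1 hd1
        rcases Nat.eq_zero_or_pos i with rfl | hi0
        · rw [he, pow_zero]
        · exact absurd ((dvd_pow_self p hi0.ne').trans (he ▸ orderOf_dvd_natCard (r x))) hH)
      simpa [h1] using hrm x
    have hVp : IsPGroup p V := IsPGroup.of_card hV
    exact (R'.is_maximal' hVp hle).symm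
  have hPK : ∀ a ∈ (P : Subgroup G), a ∈ K → a = 1 := by
    intro a ha haK
    obtain ⟨m, hm⟩ := IsPGroup.iff_orderOf.1 P.isPGroup' ⟨a, ha⟩
    rw [Subgroup.orderOf_mk] at hm
    rcases Nat.eq_zero_or_pos m with rfl | hm0
    · rw [pow_zero] at hm; exact orderOf_eq_one_iff.1 hm
    · refine absurd ((dvd_pow_self p hm0.ne').trans (hm.symm ▸ ?_)) hK
      rw [← Subgroup.orderOf_mk a haK]; exact orderOf_dvd_natCard _
  have hPV : ∀ a ∈ (P : Subgroup G), QuotientGroup.mk' K a ∈ V := fun a ha => hRV ▸ ⟨a, ha, rfl⟩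
  have hcancel : ∀ a ∈ (P : Subgroup G), ∀ b ∈ (P : Subgroup G),
      QuotientGroup.mk' K a = QuotientGroup.mk' K b → a = b := fun a ha b hb e =>
    inv_mul_eq_one.1 (hPK _ (mul_mem (inv_mem ha) hb) (QuotientGroup.eq.1 e))
  have hPab : ∀ a ∈ (P : Subgroup G), ∀ b ∈ (P : Subgroup G), a * b = b * a := fun a ha b hb =>
    hcancel _ (mul_mem ha hb) _ (mul_mem hb ha) (by rw [map_mul, map_mul, hVab _ (hPV a ha) _ (hPV b hb)])
  have hPexp : ∀ a ∈ (P : Subgroup G), a ^ p = 1 := fun a ha =>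
    hcancel _ (pow_mem ha p) _ (one_mem _) (by rw [map_pow, map_one, hexp _ (hPV a ha)])
  have hPcard : Nat.card (P : Subgroup G) = p ^ 2 := by
    rw [← hV, ← hRV]
    exact Nat.card_congr (Equiv.ofBijective
      (fun a => (⟨QuotientGroup.mk' K a, (a : G), a.2, rfl⟩ : R))
      ⟨fun a b e => Subtype.ext (hcancel _ a.2 _ b.2 (congrArg Subtype.val e)),
        fun ⟨x, a, ha, hx⟩ => ⟨⟨a, ha⟩, Subtype.ext hx⟩⟩)
  have hdecomp : ∀ g : G, QuotientGroup.mk' K g ∈ V → ∃ a ∈ (P : Subgroup G), ∃ k ∈ K, g = a * k := by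
    intro g hg
    rw [← hRV] at hg
    obtain ⟨a, ha, e⟩ := hg
    exact ⟨a, ha, a⁻¹ * g, QuotientGroup.eq.1 e, (mul_inv_cancel_left a g).symm⟩
  suffices hmain : ∀ a ∈ (P : Subgroup G), ∀ k ∈ K, a * k = k * a by
    intro g hg k hk
    obtain ⟨a, ha, b, hb, rfl⟩ := hdecomp g hg
    rw [mul_assoc, hKab b hb k hk, ← mul_assoc, hmain a ha k hk, mul_assoc]
  by_contra hno
  push Not at hno
  obtain ⟨a₀, ha₀, k₁, hk₁, hne₀⟩ := hno
  have hk₁1 : k₁ ≠ 1 := fun e => hne₀ (by rw [e, mul_one, one_mul])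
  have hNbot : ∀ k ∈ K, (∀ a ∈ (P : Subgroup G), a * k = k * a) → k = 1 := by
    intro k hk hcomm
    by_contra hk1
    obtain ⟨g, hg⟩ := isConj_iff.1 (hA k hk k₁ hk₁ hk1 hk₁1)
    obtain ⟨a, ha, b, hb, e⟩ := hdecomp (g⁻¹ * a₀ * g) (by
      rw [map_mul, map_mul, map_inv]
      have := hVn.conj_mem _ (hPV a₀ ha₀) (QuotientGroup.mk' K g)⁻¹
      rwa [inv_inv] at this)
    refine hne₀ ?_
    rw [← hg]
    have hck : g⁻¹ * a₀ * g * k = k * (g⁻¹ * a₀ * g) := by
      rw [e, mul_assoc, hKab b hb k hk, ← mul_assoc, hcomm a ha, mul_assoc]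
    calc a₀ * (g * k * g⁻¹) = g * (g⁻¹ * a₀ * g * k) * g⁻¹ := by group
      _ = g * (k * (g⁻¹ * a₀ * g)) * g⁻¹ := by rw [hck]
      _ = g * k * g⁻¹ * a₀ := by group
  have hfixed : ∀ y ∈ (P : Subgroup G), ∀ k ∈ K, y * k * y⁻¹ ∈ K := fun y _ k hk => hKn.conj_mem k hk y
  -- some nonidentity element of `P` fixes a nonidentity element of `K`
  obtain ⟨y₁, hy₁, hy₁1, k₂, hk₂, hk₂1, hy₁k⟩ : ∃ y ∈ (P : Subgroup G), y ≠ 1 ∧
      ∃ k ∈ K, k ≠ 1 ∧ Commute k y := by
    by_contra hnone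
    push Not at hnone
    haveI : IsMulCommutative K := ⟨⟨fun a b => Subtype.ext (hKab a a.2 b b.2)⟩⟩
    haveI : IsMulCommutative (P : Subgroup G) := ⟨⟨fun a b => Subtype.ext (hPab a a.2 b b.2)⟩⟩
    have hcyc : IsCyclic (P : Subgroup G) := Cfsg.Lib.Solv.isCyclic_of_fpf_abelian (V := K)
      (fun e => hk₁1 (Subgroup.mem_bot.1 (e ▸ hk₁))) (fun y hy => by
        rw [Subgroup.normalizer_eq_top]; trivial)
      fun y hy hy1 => eq_bot_iff.2 fun k hk => by
        obtain ⟨hkK, hkc⟩ := Subgroup.mem_inf.1 hk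
        by_contra hk0
        exact hnone y hy hy1 k hkK (fun e => hk0 (Subgroup.mem_bot.2 e))
          (Subgroup.mem_centralizer_singleton_iff.1 hkc)
    obtain ⟨g, hg⟩ := hcyc.exists_generator
    have h1 : orderOf g = p ^ 2 := by rw [orderOf_eq_card_of_forall_mem_zpowers hg, hPcard]
    have h2 : orderOf g ∣ p := orderOf_dvd_of_pow_eq_one (Subtype.ext (by simpa using hPexp g g.2))
    have := Nat.le_of_dvd hp.pos (h1 ▸ h2)
    have := hp.two_le
    nlinarith
  have horder : ∀ y ∈ (P : Subgroup G), ∃ k : ℕ, orderOf y = p ^ k := fun y hy => by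
    obtain ⟨m, hm⟩ := IsPGroup.iff_orderOf.1 P.isPGroup' ⟨y, hy⟩
    exact ⟨m, by rw [← hm, Subgroup.orderOf_mk]⟩
  set C : G → Subgroup G := fun y => K ⊓ Subgroup.centralizer ({y} : Set G) with hCdef
  set c := Nat.card (C y₁) with hcdef
  have hCc : ∀ y ∈ (P : Subgroup G), y ≠ 1 → Nat.card (C y) = c := by
    intro y hy hy1
    obtain ⟨g, rfl⟩ := isConj_iff.1 (h y₁ y hy₁1 hy1 (horder _ hy₁) (horder _ hy))
    rw [hcdef, hCdef]
    refine Nat.card_congr
      { toFun := fun k => ⟨g⁻¹ * (k : G) * g, ?_, Subgroup.mem_centralizer_singleton_iff.2 ?_⟩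
        invFun := fun k => ⟨g * (k : G) * g⁻¹, hKn.conj_mem _ k.2.1 g,
          Subgroup.mem_centralizer_singleton_iff.2 ?_⟩
        left_inv := fun k => Subtype.ext (by simp [mul_assoc])
        right_inv := fun k => Subtype.ext (by simp [mul_assoc]) }
    · simpa using hKn.conj_mem _ k.2.1 g⁻¹
    · have e := Subgroup.mem_centralizer_singleton_iff.1 k.2.2
      calc g⁻¹ * (k : G) * g * y₁ = g⁻¹ * ((k : G) * (g * y₁ * g⁻¹)) * g := by group
        _ = g⁻¹ * (g * y₁ * g⁻¹ * k) * g := by rw [e]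
        _ = y₁ * (g⁻¹ * (k : G) * g) := by group
    · have e := Subgroup.mem_centralizer_singleton_iff.1 k.2.2
      calc g * (k : G) * g⁻¹ * (g * y₁ * g⁻¹) = g * ((k : G) * y₁) * g⁻¹ := by group
        _ = g * (y₁ * k) * g⁻¹ := by rw [e]
        _ = g * y₁ * g⁻¹ * (g * (k : G) * g⁻¹) := by group
  have hc2 : 2 ≤ c := by
    rw [hcdef]
    exact Finite.one_lt_card_iff_nontrivial.2 ((Subgroup.nontrivial_iff_ne_bot _).2 fun e =>
      hk₂1 (Subgroup.mem_bot.1 (e ▸ (⟨hk₂, Subgroup.mem_centralizer_singleton_iff.2 hy₁k⟩ : k₂ ∈ C y₁))))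
  -- every element of `K` is fixed by a subgroup of order `p`
  have hstab : ∀ k ∈ K, k ≠ 1 →
      Nat.card ((P : Subgroup G) ⊓ Subgroup.centralizer ({k} : Set G) : Subgroup G) = p := by
    intro k hk hk1
    set S := (P : Subgroup G) ⊓ Subgroup.centralizer ({k} : Set G) with hS
    obtain ⟨i, hi, he⟩ := (Nat.dvd_prime_pow hp).1
      (hPcard ▸ Subgroup.card_dvd_of_le (inf_le_left : S ≤ (P : Subgroup G)))
    obtain ⟨g, hg⟩ := isConj_iff.1 (hA k₂ hk₂ k hk hk₂1 hk1)
    obtain ⟨a, ha, b, hb, e⟩ := hdecomp (g * y₁ * g⁻¹) (by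
      rw [map_mul, map_mul, map_inv]; exact hVn.conj_mem _ (hPV y₁ hy₁) _)
    have haS : a ∈ S := by
      refine ⟨ha, Subgroup.mem_centralizer_singleton_iff.2 ?_⟩
      have e1 : g * y₁ * g⁻¹ * k = k * (g * y₁ * g⁻¹) := by
        rw [← hg]
        calc g * y₁ * g⁻¹ * (g * k₂ * g⁻¹) = g * (y₁ * k₂) * g⁻¹ := by group
          _ = g * (k₂ * y₁) * g⁻¹ := by rw [hy₁k.eq]
          _ = g * k₂ * g⁻¹ * (g * y₁ * g⁻¹) := by group
      rw [e, mul_assoc, hKab b hb k hk, ← mul_assoc, ← mul_assoc] at e1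
      exact mul_right_cancel e1
    have ha1 : a ≠ 1 := by
      intro ha1
      rw [ha1, one_mul] at e
      refine hy₁1 (hPK y₁ hy₁ ?_)
      have e2 : y₁ = g⁻¹ * b * g := by rw [← e]; group
      rw [e2]; simpa using hKn.conj_mem b hb g⁻¹
    interval_cases i
    · exfalso
      rw [pow_zero] at he
      exact ha1 (Subgroup.mem_bot.1 (Subgroup.card_eq_one.1 he ▸ haS))
    · rw [he, pow_one]
    · exfalso
      have hSP : S = (P : Subgroup G) := Subgroup.eq_of_le_of_card_ge inf_le_left (by rw [he, hPcard])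
      exact hk1 (hNbot k hk fun a ha =>
        Subgroup.mem_centralizer_singleton_iff.1 (hSP.symm ▸ ha : a ∈ S).2)
  -- double counting
  haveI := Fintype.ofFinite (P : Subgroup G)
  haveI := Fintype.ofFinite K
  have hpairs : ∑ y : (P : Subgroup G), Nat.card (C (y : G)) =
      ∑ k : K, Nat.card ((P : Subgroup G) ⊓ Subgroup.centralizer ({(k : G)} : Set G) : Subgroup G) := by
    rw [← Nat.card_sigma, ← Nat.card_sigma]
    refine Nat.card_congr
      { toFun := fun z => ⟨⟨(z.2 : G), z.2.2.1⟩, ⟨(z.1 : G), z.1.2,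
          Subgroup.mem_centralizer_singleton_iff.2 (Subgroup.mem_centralizer_singleton_iff.1 z.2.2.2).symm⟩⟩
        invFun := fun z => ⟨⟨(z.2 : G), z.2.2.1⟩, ⟨(z.1 : G), z.1.2,
          Subgroup.mem_centralizer_singleton_iff.2 (Subgroup.mem_centralizer_singleton_iff.1 z.2.2.2).symm⟩⟩
        left_inv := fun _ => rfl
        right_inv := fun _ => rfl }
  rw [← Finset.add_sum_erase _ _ (Finset.mem_univ (1 : (P : Subgroup G))),
    ← Finset.add_sum_erase _ _ (Finset.mem_univ (1 : K)),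
    Finset.sum_congr rfl (g := fun _ => c) (fun y hy => hCc _ y.2 (fun e => Finset.ne_of_mem_erase hy (Subtype.ext e))),
    Finset.sum_congr rfl (g := fun _ => p) (fun k hk => hstab _ k.2 (fun e => Finset.ne_of_mem_erase hk (Subtype.ext e))),
    Finset.sum_const, Finset.sum_const, Finset.card_erase_of_mem (Finset.mem_univ _),
    Finset.card_erase_of_mem (Finset.mem_univ _), Finset.card_univ, Finset.card_univ, ← Nat.card_eq_fintype_card,
    ← Nat.card_eq_fintype_card, hPcard, smul_eq_mul, smul_eq_mul] at hpairs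
  have hC1 : C ((1 : (P : Subgroup G)) : G) = K := inf_eq_left.2 fun k _ =>
    Subgroup.mem_centralizer_singleton_iff.2 (by simp)
  have hP1 : ((P : Subgroup G) ⊓ Subgroup.centralizer ({((1 : K) : G)} : Set G) : Subgroup G) = P :=
    inf_eq_left.2 fun k _ => Subgroup.mem_centralizer_singleton_iff.2 (by simp)
  rw [hC1, hP1, hPcard] at hpairs
  -- an element outside the line of `y₁`
  obtain ⟨y₂, hy₂, hy₂out⟩ : ∃ y₂ ∈ (P : Subgroup G), y₂ ∉ Subgroup.zpowers y₁ := by
    by_contra hall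
    push Not at hall
    have h1 := Subgroup.card_le_of_le (show (P : Subgroup G) ≤ Subgroup.zpowers y₁ from hall)
    rw [hPcard, Nat.card_zpowers] at h1
    have := Nat.le_of_dvd hp.pos (orderOf_dvd_of_pow_eq_one (hPexp y₁ hy₁))
    have := hp.two_le
    nlinarith
  have hy₂1 : y₂ ≠ 1 := fun e => hy₂out (e ▸ one_mem _)
  have hboth : ∀ k ∈ K, Commute k y₁ → Commute k y₂ → k = 1 := by
    intro k hk e1 e2
    by_contra hk1
    have h1 := hstab k hk hk1
    set S := (P : Subgroup G) ⊓ Subgroup.centralizer ({k} : Set G) with hS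
    have hyS : y₁ ∈ S := ⟨hy₁, Subgroup.mem_centralizer_singleton_iff.2 e1.eq.symm⟩
    have hS1 : Subgroup.zpowers y₁ = S := Subgroup.eq_of_le_of_card_ge (Subgroup.zpowers_le.2 hyS) (by
      rw [Nat.card_zpowers, h1, orderOf_eq_prime (hPexp y₁ hy₁) hy₁1])
    exact hy₂out (hS1 ▸ ⟨hy₂, Subgroup.mem_centralizer_singleton_iff.2 e2.eq.symm⟩)
  have hsq : c * c ≤ Nat.card K := by
    calc c * c = Nat.card (C y₁) * Nat.card (C y₂) := by rw [hCc y₂ hy₂ hy₂1]
      _ = Nat.card (C y₁ × C y₂) := (Nat.card_prod _ _).symm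
      _ ≤ _ := Nat.card_le_card_of_injective
          (fun z => (⟨(z.1 : G) * (z.2 : G), mul_mem z.1.2.1 z.2.2.1⟩ : K)) fun a b e => by
            have e1 : (a.1 : G) * (a.2 : G) = (b.1 : G) * (b.2 : G) := congrArg Subtype.val e
            have e2 : (b.1 : G)⁻¹ * (a.1 : G) = (b.2 : G) * (a.2 : G)⁻¹ := by
              rw [inv_mul_eq_iff_eq_mul, ← mul_assoc, ← e1, mul_inv_cancel_right]
            have h1 : (b.1 : G)⁻¹ * (a.1 : G) ∈ C y₁ := mul_mem (inv_mem b.1.2) a.1.2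
            have h2 : (b.1 : G)⁻¹ * (a.1 : G) ∈ C y₂ := e2 ▸ mul_mem b.2.2 (inv_mem a.2.2)
            have h3 := hboth _ h1.1 (Subgroup.mem_centralizer_singleton_iff.1 h1.2)
              (Subgroup.mem_centralizer_singleton_iff.1 h2.2)
            refine Prod.ext (Subtype.ext (inv_mul_eq_one.1 h3).symm) (Subtype.ext ?_)
            rw [h3] at e2
            exact (mul_inv_eq_one.1 e2.symm).symm
  have hmod : c ≡ 1 [MOD p] := by
    rw [hcdef]
    refine card_inf_centralizer_modEq (y := y₂) (hPexp y₂ hy₂) (C y₁) (fun a ha => ⟨hKn.conj_mem a ha.1 y₂,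
      Subgroup.mem_centralizer_singleton_iff.2 ?_⟩) fun a ha e =>
        hboth a ha.1 (Subgroup.mem_centralizer_singleton_iff.1 ha.2) e.symm
    have e1 := Subgroup.mem_centralizer_singleton_iff.1 ha.2
    have e2 : Commute y₂ y₁ := hPab y₂ hy₂ y₁ hy₁
    calc y₂ * a * y₂⁻¹ * y₁ = y₂ * (a * y₁) * y₂⁻¹ := by
          rw [mul_assoc, e2.inv_left.eq]; group
      _ = y₂ * y₁ * a * y₂⁻¹ := by rw [e1]; group
      _ = y₁ * (y₂ * a * y₂⁻¹) := by rw [e2.eq]; group
  obtain ⟨t, ht⟩ := (Nat.modEq_iff_dvd' (by omega : 1 ≤ c)).1 hmod.symm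
  obtain ⟨B, hB⟩ : ∃ B, Nat.card K = B + 1 := ⟨Nat.card K - 1, by have := Nat.card_pos (α := K); omega⟩
  obtain ⟨m, hm⟩ : ∃ m, p = m + 2 := ⟨p - 2, by have := hp.two_le; omega⟩
  obtain ⟨A', hA'⟩ : ∃ A', p ^ 2 = A' + 1 := ⟨p ^ 2 - 1, by have := Nat.one_le_pow 2 p hp.pos; omega⟩
  rw [hB, hA', Nat.add_sub_cancel, Nat.add_sub_cancel] at hpairs
  have hcT : c = p * t + 1 := by omega
  rw [pow_two] at hA'
  have hA'' : A' = (p + 1) * (m + 1) := by rw [hm] at hA' ⊢; linarith
  have hBeq : B = (p + 1) * (p * t) := by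
    refine Nat.eq_of_mul_eq_mul_right (show 0 < m + 1 by omega) ?_
    rw [hcT, hA''] at hpairs
    rw [hm] at hpairs ⊢
    linarith
  have ht1 : 1 ≤ t := by
    rcases Nat.eq_zero_or_pos t with h0 | h0
    · rw [h0, mul_zero] at hcT; omega
    · exact h0
  rw [hB, hBeq, hcT] at hsq
  have hpt : p ≤ p * t := Nat.le_mul_of_pos_right p ht1
  nlinarith [Nat.mul_le_mul_left (p * t) hpt, hp.two_le]

/-- The group over the exceptional complement has more classes. -/
theorem no_coset_fusion {M : Type u} [Group M] [Finite M] {L : Type*} [Group L] [Finite L] (π : M →* L)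
    (hπ : Function.Surjective π) (hKne : π.ker ≠ ⊥) (hKab : ∀ a ∈ π.ker, ∀ b ∈ π.ker, a * b = b * a)
    {r : ℕ} (hr : r.Prime) (hKr : IsPGroup r π.ker) (hKexp : ∀ a ∈ π.ker, a ^ r = 1)
    (hA : ∀ a ∈ π.ker, ∀ b ∈ π.ker, a ≠ 1 → b ≠ 1 → IsConj a b)
    (hB : ∀ x y : M, π x ≠ 1 → π x = π y → IsConj x y) (hL : Nat.card L = 120)
    (hns : ¬ Group.IsSolvable L) (huniq : ∀ x y : L, orderOf x = 2 → orderOf y = 2 → x = y)
    (h121 : Nat.card π.ker ≠ 121) : False := by
  classical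
  haveI : Fact (Nat.Prime 2) := ⟨Nat.prime_two⟩
  set K := π.ker with hKdef
  have hKn : K.Normal := π.normal_ker
  obtain ⟨t, ht⟩ := exists_prime_orderOf_dvd_card' (G := L) 2 (by rw [hL]; norm_num)
  have ht1 : t ≠ 1 := fun e => by rw [e, orderOf_one] at ht; omega
  have htc : ∀ x, x * t * x⁻¹ = t := fun x => huniq _ _ (((MulAut.conj x).orderOf_eq t).trans ht) ht
  obtain ⟨z, hz⟩ := hπ t
  have hk : ∀ m : M, z⁻¹ * (m * z * m⁻¹) ∈ K := fun m => by
    rw [hKdef, MonoidHom.mem_ker]; simp [hz, htc]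
  set C := Subgroup.centralizer ({z} : Set M) with hC
  have hMcard : Nat.card M = Nat.card K * 120 := by
    rw [← Subgroup.card_mul_index K, hKdef, Subgroup.index_ker, MonoidHom.range_eq_top.2 hπ,
      Subgroup.card_top, hL]
  obtain ⟨k₀, hk₀, hk₀1⟩ := K.bot_or_exists_ne_one.resolve_left hKne
  have hK1 : 1 < Nat.card K := (Subgroup.one_lt_card_iff_ne_bot K).2 hKne
  by_cases hfix : ∃ k ∈ K, k ≠ 1 ∧ Commute k z
  · obtain ⟨k, hkK, hk1, hkz⟩ := hfix
    have hcent : ∀ a ∈ K, Commute a z := by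
      intro a ha
      by_cases ha1 : a = 1
      · rw [ha1]; exact Commute.one_left z
      obtain ⟨m, rfl⟩ := isConj_iff.1 (hA k hkK a ha hk1 ha1)
      have e1 : Commute (m * k * m⁻¹) (z * (z⁻¹ * (m * z * m⁻¹))) := by
        rw [mul_inv_cancel_left]
        show m * k * m⁻¹ * (m * z * m⁻¹) = m * z * m⁻¹ * (m * k * m⁻¹)
        calc _ = m * (k * z) * m⁻¹ := by group
          _ = m * (z * k) * m⁻¹ := by rw [hkz.eq]
          _ = _ := by group
      have e2 := e1.mul_right (Commute.inv_right (hKab _ ha _ (hk m) : Commute _ (z⁻¹ * (m * z * m⁻¹))))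
      rwa [mul_inv_cancel_right] at e2
    have hKC : K ≤ C := fun a ha => Subgroup.mem_centralizer_singleton_iff.2 (hcent a ha)
    have hidx : C.index = Nat.card K := by
      have hex : ∀ a : K, ∃ m : M, m * z * m⁻¹ = z * (a : M) := fun a =>
        isConj_iff.1 (hB z (z * a) (by rw [hz]; exact ht1) (by rw [map_mul, MonoidHom.mem_ker.1 a.2, mul_one]))
      choose m hm using hex
      refine (Nat.card_congr (Equiv.ofBijective (fun a : K => (QuotientGroup.mk (m a) : M ⧸ C))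
        ⟨fun a b e => ?_, fun x => ?_⟩)).symm
      · have e1 := Subgroup.mem_centralizer_singleton_iff.1 (QuotientGroup.eq.1 e)
        refine Subtype.ext (mul_left_cancel (a := z) ?_)
        rw [← hm a, ← hm b]
        calc m a * z * (m a)⁻¹ = m a * (z * ((m a)⁻¹ * m b)) * (m b)⁻¹ := by group
          _ = m a * ((m a)⁻¹ * m b * z) * (m b)⁻¹ := by rw [e1]
          _ = m b * z * (m b)⁻¹ := by group
      · obtain ⟨n, rfl⟩ := QuotientGroup.mk_surjective x
        refine ⟨⟨_, hk n⟩, QuotientGroup.eq.2 (Subgroup.mem_centralizer_singleton_iff.2 ?_)⟩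
        have e := hm ⟨_, hk n⟩
        rw [Subgroup.coe_mk, mul_inv_cancel_left] at e
        calc (m ⟨_, hk n⟩)⁻¹ * n * z = (m ⟨_, hk n⟩)⁻¹ * (n * z * n⁻¹) * n := by group
          _ = (m ⟨_, hk n⟩)⁻¹ * (m ⟨_, hk n⟩ * z * (m ⟨_, hk n⟩)⁻¹) * n := by rw [e]
          _ = z * ((m ⟨_, hk n⟩)⁻¹ * n) := by group
    have hC120 : Nat.card C = 120 := by
      have e := Subgroup.card_mul_index C
      rw [hidx, hMcard, mul_comm (Nat.card K) 120] at e
      exact Nat.eq_of_mul_eq_mul_right (by omega) e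
    set Cb := C.map π with hCb
    have hCbidx : Cb.index = Nat.card K := by
      rw [hCb, Subgroup.index_map, sup_eq_left.2 hKC, MonoidHom.range_eq_top.2 hπ, Subgroup.index_top, mul_one, hidx]
    have h60 : Nat.card K ∣ 60 := by
      have e := Subgroup.card_mul_index Cb
      rw [hCbidx, hL] at e
      have h2 : 2 ∣ Nat.card Cb := by
        have htCb : t ∈ Cb := Subgroup.mem_map.2 ⟨z, Subgroup.mem_centralizer_singleton_iff.2 rfl, hz⟩
        rw [← ht, ← Subgroup.orderOf_mk t htCb]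
        exact orderOf_dvd_natCard _
      obtain ⟨j, hj⟩ := h2
      rw [hj] at e
      exact ⟨j, by linarith⟩
    -- the kernel is a two-group
    have hr2 : r = 2 := by
      by_contra hr2
      obtain ⟨n, hn⟩ := (haveI := Fact.mk hr; IsPGroup.iff_card.1 hKr)
      have hodd : ¬ 2 ∣ Nat.card K := fun h => hr2 ((Nat.prime_dvd_prime_iff_eq Nat.prime_two hr).1
        (Nat.prime_two.dvd_of_dvd_pow (hn ▸ h))).symm
      have hzz : z ^ 2 ∈ K := by
        rw [hKdef, MonoidHom.mem_ker, map_pow, hz, ← ht, pow_orderOf_eq_one]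
      set x := z ^ Nat.card K with hx
      have hx2 : x * x = 1 := by
        rw [← pow_two, hx, ← pow_mul, mul_comm, pow_mul]
        exact congrArg Subtype.val (pow_card_eq_one' (x := (⟨z ^ 2, hzz⟩ : K)))
      have hxt : π x = t := by
        rw [hx, map_pow, hz, ← Nat.mod_add_div (Nat.card K) 2, pow_add, pow_mul, ← ht, pow_orderOf_eq_one,
          one_pow, mul_one, show Nat.card K % orderOf t = 1 by rw [ht]; omega, pow_one]
      obtain ⟨m, hm⟩ := isConj_iff.1 (hB x (x * k₀) (by rw [hxt]; exact ht1)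
        (by rw [map_mul, MonoidHom.mem_ker.1 hk₀, mul_one]))
      have e1 : x * k₀ * (x * k₀) = 1 := by
        rw [← hm]
        calc m * x * m⁻¹ * (m * x * m⁻¹) = m * (x * x) * m⁻¹ := by group
          _ = 1 := by rw [hx2, mul_one, mul_inv_cancel]
      have hkx : Commute k₀ x := (hcent k₀ hk₀).pow_right _
      rw [mul_assoc, ← mul_assoc k₀, hkx.eq, mul_assoc x, ← mul_assoc, hx2, one_mul] at e1
      have ho : orderOf k₀ = 2 := orderOf_eq_prime (by rw [pow_two]; exact e1) hk₀1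
      exact hodd (ho ▸ Subgroup.orderOf_mk k₀ hk₀ ▸ orderOf_dvd_natCard (⟨k₀, hk₀⟩ : K))
    subst hr2
    obtain ⟨n, hn⟩ := IsPGroup.iff_card.1 hKr
    have hn2 : n ≤ 2 := by
      by_contra h
      have := ((pow_dvd_pow 2 (show 3 ≤ n by omega)).trans (hn ▸ dvd_rfl)).trans h60
      norm_num at this
    have hK4 : Nat.card K ≤ 4 := by
      rw [hn]
      exact (Nat.pow_le_pow_right (by norm_num) hn2).trans (by norm_num)
    -- the insoluble group has no subgroup of so small an index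
    set N := (MulAction.toPermHom L (L ⧸ Cb)).ker with hN
    have hQ : Nat.card (L ⧸ N) < 60 := by
      rw [← Subgroup.index_eq_card, hN, Subgroup.index_ker]
      refine (Nat.card_le_card_of_injective _ Subtype.val_injective).trans_lt ?_
      rw [Nat.card_perm, ← Subgroup.index_eq_card, hCbidx]
      exact (Nat.factorial_le hK4).trans_lt (by decide)
    haveI := Cfsg.Lib.Recog.Icosa.solvable_of_lt_sixty _ (L ⧸ N) rfl hQ
    have hNns : ¬ Group.IsSolvable N := fun h => hns (by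
      haveI := h
      exact Group.isSolvable_of_ker_le_range N.subtype (QuotientGroup.mk' N)
        (by rw [QuotientGroup.ker_mk', Subgroup.range_subtype]))
    have hN60 : 60 ≤ Nat.card N := by
      by_contra h
      exact hNns (Cfsg.Lib.Recog.Icosa.solvable_of_lt_sixty _ N rfl (by omega))
    have hNd : Nat.card N * N.index = 120 := (Subgroup.card_mul_index N).trans hL
    have hNC : N ≤ Cb := fun x hx => by
      have e : x • ((1 : L) : L ⧸ Cb) = ((1 : L) : L ⧸ Cb) := by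
        have e1 : MulAction.toPermHom L (L ⧸ Cb) x = 1 := MonoidHom.mem_ker.1 hx
        simpa using DFunLike.congr_fun e1 ((1 : L) : L ⧸ Cb)
      simpa [QuotientGroup.eq] using e
    have hidx2 : N.index = 1 ∨ N.index = 2 := by
      have hpos := Nat.pos_of_ne_zero N.index_ne_zero_of_finite
      have : N.index ≤ 2 := by nlinarith
      omega
    rcases hidx2 with h1 | h1
    · have := Subgroup.index_dvd_of_le hNC
      rw [h1, hCbidx, Nat.dvd_one] at this
      omega
    · rw [h1] at hNd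
      have hN60' : Nat.card N = 60 := by omega
      haveI := Cfsg.Lib.Recog.Icosa.simple_of_sixty hN60' hNns
      obtain ⟨w, hw⟩ := exists_prime_orderOf_dvd_card' (G := N) 2 (by rw [hN60']; norm_num)
      have hwt : (w : L) = t := huniq _ _ (by rw [Subgroup.orderOf_coe, hw]) ht
      have hwc : w ∈ Subgroup.center N := Subgroup.mem_center_iff.2 fun y => Subtype.ext (by
        show (y : L) * w = w * y
        rw [hwt]; exact mul_inv_eq_iff_eq_mul.1 (htc y))
      rcases (Subgroup.center N).normal_of_characteristic.eq_bot_or_eq_top with h | h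
      · rw [h, Subgroup.mem_bot] at hwc
        rw [hwc, orderOf_one] at hw; omega
      · exact hNns (_root_.isSolvable_of_comm fun a b => (Subgroup.mem_center_iff.1 (h ▸ Subgroup.mem_top b) a))
  · push Not at hfix
    have hinj : ∀ a ∈ K, ∀ b ∈ K, a * z * a⁻¹ = b * z * b⁻¹ → a = b := by
      intro a ha b hb e
      by_contra hne
      refine hfix (b⁻¹ * a) (mul_mem (inv_mem hb) ha) (fun e1 => hne (inv_mul_eq_one.1 e1).symm) ?_
      show b⁻¹ * a * z = z * (b⁻¹ * a)
      calc b⁻¹ * a * z = b⁻¹ * (a * z * a⁻¹) * a := by group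
        _ = b⁻¹ * (b * z * b⁻¹) * a := by rw [e]
        _ = z * (b⁻¹ * a) := by group
    have hdec : ∀ m : M, ∃ a ∈ K, a⁻¹ * m ∈ C := by
      intro m
      let f : K → K := fun a => ⟨z⁻¹ * ((a : M) * z * (a : M)⁻¹), hk a⟩
      have hf : Function.Injective f := fun a b e =>
        Subtype.ext (hinj a a.2 b b.2 (mul_left_cancel (congrArg Subtype.val e)))
      obtain ⟨a, ha⟩ := Finite.injective_iff_surjective.1 hf ⟨_, hk m⟩
      have e : (a : M) * z * (a : M)⁻¹ = m * z * m⁻¹ := mul_left_cancel (congrArg Subtype.val ha)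
      refine ⟨a, a.2, Subgroup.mem_centralizer_singleton_iff.2 ?_⟩
      calc (a : M)⁻¹ * m * z = (a : M)⁻¹ * (m * z * m⁻¹) * m := by group
        _ = (a : M)⁻¹ * ((a : M) * z * (a : M)⁻¹) * m := by rw [e]
        _ = z * ((a : M)⁻¹ * m) := by group
    have hCK : ∀ x ∈ C, x ∈ K → x = 1 := fun x hx hxK => by
      by_contra h
      exact hfix x hxK h (Subgroup.mem_centralizer_singleton_iff.1 hx)
    have hCinj : ∀ x ∈ C, ∀ y ∈ C, π x = π y → x = y := fun x hx y hy e =>
      inv_mul_eq_one.1 (hCK _ (mul_mem (inv_mem hx) hy) (by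
        rw [hKdef, MonoidHom.mem_ker, map_mul, map_inv, e, inv_mul_cancel]))
    by_cases hs : ∃ g ∈ C, g ≠ 1 ∧ Commute g k₀
    · obtain ⟨g, hg, hg1, hgk⟩ := hs
      have hπg : π g ≠ 1 := fun e => hg1 (hCK g hg e)
      let f : K → K := fun a => ⟨g⁻¹ * ((a : M) * g * (a : M)⁻¹), by
        have e := hKn.conj_mem _ a.2 g⁻¹
        rw [inv_inv] at e
        rw [show g⁻¹ * ((a : M) * g * (a : M)⁻¹) = g⁻¹ * (a : M) * g * (a : M)⁻¹ by group]
        exact mul_mem e (inv_mem a.2)⟩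
      have hf : Function.Surjective f := by
        intro b
        obtain ⟨m, hm⟩ := isConj_iff.1 (hB g (g * b) hπg (by rw [map_mul, MonoidHom.mem_ker.1 b.2, mul_one]))
        obtain ⟨a, ha, hm'⟩ := hdec m
        refine ⟨⟨a, ha⟩, Subtype.ext ?_⟩
        set h := a⁻¹ * m with hh
        have hhg : h * g * h⁻¹ = g := hCinj _ (mul_mem (mul_mem hm' hg) (inv_mem hm')) _ hg (by
          have e := congrArg π hm
          rw [map_mul, map_mul, map_inv, map_mul, MonoidHom.mem_ker.1 b.2, mul_one] at e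
          rw [map_mul, map_mul, map_inv, hh, map_mul, map_inv, MonoidHom.mem_ker.1 ha, inv_one, one_mul, e])
        show g⁻¹ * (a * g * a⁻¹) = b
        calc g⁻¹ * (a * g * a⁻¹) = g⁻¹ * (a * (h * g * h⁻¹) * a⁻¹) := by rw [hhg]
          _ = g⁻¹ * (m * g * m⁻¹) := by rw [hh]; group
          _ = b := by rw [hm, inv_mul_cancel_left]
      have e := Finite.injective_iff_surjective.2 hf (a₁ := ⟨k₀, hk₀⟩) (a₂ := 1) (Subtype.ext (by
        show g⁻¹ * (k₀ * g * k₀⁻¹) = g⁻¹ * ((1 : M) * g * (1 : M)⁻¹)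
        rw [← hgk.eq]; group))
      exact hk₀1 (congrArg Subtype.val e)
    · push Not at hs
      refine h121 ?_
      have hC120 : Nat.card C = 120 := by
        rw [← hL]
        refine Nat.card_congr (Equiv.ofBijective (fun x : C => π x)
          ⟨fun x y e => Subtype.ext (hCinj x x.2 y y.2 e), fun l => ?_⟩)
        obtain ⟨m, rfl⟩ := hπ l
        obtain ⟨a, ha, hm⟩ := hdec m
        exact ⟨⟨_, hm⟩, by show π (a⁻¹ * m) = π m; rw [map_mul, map_inv, MonoidHom.mem_ker.1 ha, inv_one, one_mul]⟩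
      have hbij : Nat.card C = Nat.card {a : K // a ≠ 1} := by
        refine Nat.card_congr (Equiv.ofBijective (fun x : C => (⟨⟨(x : M) * k₀ * (x : M)⁻¹, hKn.conj_mem _ hk₀ _⟩,
          fun e => hk₀1 (conj_eq_one_iff.1 (congrArg Subtype.val e))⟩ : {a : K // a ≠ 1})) ⟨fun x y e => ?_, fun b => ?_⟩)
        · have e1 : (x : M) * k₀ * (x : M)⁻¹ = (y : M) * k₀ * (y : M)⁻¹ :=
            congrArg (fun w : {a : K // a ≠ 1} => ((w.1 : K) : M)) e
          by_contra hne
          refine hs ((y : M)⁻¹ * x) (mul_mem (inv_mem y.2) x.2)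
            (fun e2 => hne (Subtype.ext (inv_mul_eq_one.1 e2).symm)) ?_
          show (y : M)⁻¹ * x * k₀ = k₀ * ((y : M)⁻¹ * x)
          calc (y : M)⁻¹ * x * k₀ = (y : M)⁻¹ * ((x : M) * k₀ * (x : M)⁻¹) * x := by group
            _ = (y : M)⁻¹ * ((y : M) * k₀ * (y : M)⁻¹) * x := by rw [e1]
            _ = k₀ * ((y : M)⁻¹ * x) := by group
        · obtain ⟨m, hm⟩ := isConj_iff.1 (hA k₀ hk₀ b.1 b.1.2 hk₀1 (fun e => b.2 (Subtype.ext e)))
          obtain ⟨a, ha, hm'⟩ := hdec m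
          refine ⟨⟨_, hm'⟩, Subtype.ext (Subtype.ext ?_)⟩
          show a⁻¹ * m * k₀ * (a⁻¹ * m)⁻¹ = ((b.1 : K) : M)
          calc a⁻¹ * m * k₀ * (a⁻¹ * m)⁻¹ = a⁻¹ * (m * k₀ * m⁻¹) * a := by group
            _ = a⁻¹ * (b.1 : M) * a := by rw [hm]
            _ = (b.1 : M) := by rw [mul_assoc, hKab _ b.1.2 a ha, inv_mul_cancel_left]
      haveI := Fintype.ofFinite K
      rw [Nat.card_eq_fintype_card (α := {a : K // a ≠ 1}), Fintype.card_subtype_compl, Fintype.card_subtype_eq,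
        ← Nat.card_eq_fintype_card] at hbij
      omega

end Cfsg.Lib.Linear.CoprimeTrans
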