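import Cfsg.Agent.Lib.Linear.CoprimeTrans.Large

/-!
The exceptional solvable transitive groups on `81` points of order prime to three.
-/

set_option autoImplicit false
set_option linter.unusedSectionVars false
open Cfsg.Lib.Recog.SolvTrans

namespace Cfsg.Lib.Linear.CoprimeTrans

universe u

theorem card_conjClasses_mul {G : Type u} [Group G] [Finite G] [Fintype G] :
    Nat.card (ConjClasses G) * Nat.card G = ∑ g : G, Nat.card (Subgroup.centralizer ({g} : Set G)) := by
  rw [← card_comm_eq_card_conjClasses_mul_card,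
    Nat.card_congr (Equiv.subtypeProdEquivSigmaSubtype fun a b : G => Commute a b), Nat.card_sigma]
  refine Finset.sum_congr rfl fun a _ => Nat.card_congr (Equiv.subtypeEquivRight fun b => ?_)
  rw [Subgroup.mem_centralizer_singleton_iff]
  exact ⟨Eq.symm, Eq.symm⟩

theorem commute_of_pow {T : Type*} [Group T] {y t : T} (hy : orderOf y = 5) {i : ℕ} (hi : ¬ 5 ∣ i)
    (h : Commute (y ^ i) t) : Commute y t := by
  obtain ⟨m, hm⟩ := exists_pow_eq_self_of_coprime (x := y) (n := i)
    (by rw [hy]; exact ((Nat.prime_five.coprime_iff_not_dvd).2 hi).symm)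
  rw [← hm]
  exact h.pow_left m

/-- A conjugation fixing a subgroup of order `2 ^ 5` has fixed subgroup of order `2` or `32`. -/
theorem card_fixed {T : Type*} [Group T] [Finite T] {y : T} (hy : orderOf y = 5) (N : Subgroup T) [hN : N.Normal]
    {k : ℕ} (hk : Nat.card N = 2 ^ k) :
    ∃ j ≤ k, Nat.card (N ⊓ Subgroup.centralizer ({y} : Set T) : Subgroup T) = 2 ^ j ∧ 2 ^ j ≡ 2 ^ k [MOD 5] := by
  classical
  haveI : Fintype N := Fintype.ofFinite N
  haveI : Fact (Nat.Prime 5) := ⟨Nat.prime_five⟩
  let f : Function.End N := fun a => ⟨y * a * y⁻¹, hN.conj_mem a a.2 y⟩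
  have hfi : ∀ (i : ℕ) (a : N), ((f ^ i) a : T) = y ^ i * a * (y ^ i)⁻¹ := by
    intro i
    induction i with
    | zero => intro a; simp; rfl
    | succ i ih =>
      intro a
      rw [pow_succ']
      show y * ((f ^ i) a : T) * y⁻¹ = _
      rw [ih, pow_succ']; group
  have hf : f ^ 5 ^ 1 = 1 := funext fun a => Subtype.ext (by
    rw [pow_one, hfi, ← hy, pow_orderOf_eq_one]; simp; rfl)
  have hmod := Equiv.Perm.card_fixedPoints_modEq hf
  rw [← Nat.card_eq_fintype_card, ← Nat.card_eq_fintype_card] at hmod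
  have hfix : Nat.card (Function.fixedPoints f) =
      Nat.card (N ⊓ Subgroup.centralizer ({y} : Set T) : Subgroup T) := Nat.card_congr
    { toFun := fun a => ⟨(a.1 : T), a.1.2, Subgroup.mem_centralizer_singleton_iff.2
        (mul_inv_eq_iff_eq_mul.1 (congrArg Subtype.val a.2)).symm⟩
      invFun := fun a => ⟨⟨a.1, a.2.1⟩, Subtype.ext
        (mul_inv_eq_iff_eq_mul.2 (Subgroup.mem_centralizer_singleton_iff.1 a.2.2).symm)⟩
      left_inv := fun _ => rfl
      right_inv := fun _ => rfl }
  obtain ⟨j, hj, hj'⟩ := (Nat.dvd_prime_pow Nat.prime_two).1 (hk ▸ Subgroup.card_dvd_of_le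
    (inf_le_left : N ⊓ Subgroup.centralizer ({y} : Set T) ≤ N))
  exact ⟨j, hj, hj', by rw [hfix, hj', hk] at hmod; exact hmod.symm⟩

variable {V : Type*} [AddCommGroup V] [Module (ZMod 3) V] [Finite V] [Nontrivial V]
  {G : Type u} [Group G] [Finite G] [Fact (Nat.Prime 3)] {ι : G →* Module.End (ZMod 3) V}
  (hι : Function.Injective ι) (htrans : Trans ι) (hcop : ¬ 3 ∣ Nat.card G)
  (hd : Module.finrank (ZMod 3) V = 4)

include hι htrans hcop hd

theorem card_dvd_81 : Nat.card G ∣ 2 ^ 9 * 5 := by
  classical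
  obtain ⟨σ, hσ⟩ := exists_rep hι htrans hcop
  haveI : Fact (Nat.Prime 13) := ⟨by norm_num⟩
  have h13 : ¬ 13 ∣ Nat.card G := by
    intro h13
    obtain ⟨P⟩ := (inferInstance : Nonempty (Sylow 13 G))
    haveI := sylow_normal σ hσ (r := 13) (by norm_num) (Or.inl (by omega)) P
    obtain ⟨hab, hf, hrm⟩ := sylow_field hι htrans hcop (r := 13) (by omega) P h13
    haveI : Finite (Module.End (ZMod 3) V) := Finite.of_injective _ DFunLike.coe_injective
    letI : Field (alg ι (P : Subgroup G)) := (exists_field hab hf).toField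
    have htower := Module.finrank_mul_finrank (ZMod 3) (alg ι (P : Subgroup G)) V
    obtain ⟨m, hm⟩ : ∃ m, Module.finrank (ZMod 3) (alg ι (P : Subgroup G)) = m := ⟨_, rfl⟩
    rw [hd, hm] at htower
    rw [hm] at hrm
    have hdvd : m ∣ 4 := ⟨_, htower.symm⟩
    have := Nat.le_of_dvd (by norm_num) hdvd
    interval_cases m <;> first | omega | norm_num at hrm | norm_num at hdvd
  have hgl := card_dvd_gl hι (n := 4) hd
  norm_num [Fin.prod_univ_four] at hgl
  exact (Nat.Coprime.mul_right (((Nat.prime_three.coprime_iff_not_dvd).2 hcop).symm.pow_right 6)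
      ((Nat.Prime.coprime_iff_not_dvd (by norm_num : Nat.Prime 13)).2 h13).symm).dvd_of_dvd_mul_right
    (by norm_num; exact hgl)

theorem irred_five {x : G} (hx : orderOf x = 5) : IrredElem ι x :=
  irred_of_ppd hι Nat.prime_five hx (by rw [hd]; norm_num) fun k hk0 hk => by
    rw [hd] at hk; interval_cases k <;> norm_num

variable (hns : NotSL ι)

include hns

theorem not_normal_five (A : Subgroup G) [hA : A.Normal] (hAc : ∀ a ∈ A, ∀ b ∈ A, a * b = b * a) {x : G}
    (hx : orderOf x = 5) : x ∉ A :=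
  hns.irred_not_mem A hAc (irred_five hι htrans hcop hd hx)

/-- Normal abelian subgroups are scalar. -/
theorem scalar_of_abelian (A : Subgroup G) [hA : A.Normal] (hAc : ∀ a ∈ A, ∀ b ∈ A, a * b = b * a) :
    ∀ a ∈ A, ∃ c, algebraMap (ZMod 3) (Module.End (ZMod 3) V) c = ι a := by
  classical
  haveI : Fact (Nat.Prime 5) := ⟨Nat.prime_five⟩
  haveI : Finite (Module.End (ZMod 3) V) := Finite.of_injective _ DFunLike.coe_injective
  obtain ⟨hf, hlt⟩ := hns.finrank_lt hι htrans A hAc
  letI : Field (alg ι A) := (exists_field hAc hf).toField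
  have htower := Module.finrank_mul_finrank (ZMod 3) (alg ι A) V
  rw [hd] at htower hlt
  obtain ⟨m, hm⟩ : ∃ m, Module.finrank (ZMod 3) (alg ι A) = m := ⟨_, rfl⟩
  rw [hm] at htower hlt
  have hm12 : m = 1 ∨ m = 2 := by
    interval_cases m <;> omega
  rcases hm12 with rfl | rfl
  · intro a ha
    exact Algebra.mem_bot.1 ((Subalgebra.eq_bot_of_finrank_one hm : alg ι A = ⊥) ▸ mem_alg ha)
  exfalso
  have h2 : Module.finrank (alg ι A) V = 2 := by omega
  have h5G : 5 ∣ Nat.card G := by
    have h80 := dvd_card htrans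
    rw [hd] at h80
    exact Dvd.dvd.trans (by norm_num) h80
  obtain ⟨x, hx⟩ := exists_prime_orderOf_dvd_card' 5 h5G
  set C := Subgroup.centralizer (A : Set G)
  have hCn : C.Normal := inferInstance
  have hxC : ∀ y : G, orderOf y = 5 → y ∈ C := fun y hy a ha =>
    (centralised_of_prime hι Nat.prime_five (by omega) hy (irred_five hι htrans hcop hd hy)
      (fun b hb => hA.conj_mem b hb y) hAc (fun h => hcop (h.trans (Subgroup.card_subgroup_dvd_card _))) a ha).symm
  have hcomm : ∀ (c : C) (k : alg ι A), Commute (ι c) (k : Module.End (ZMod 3) V) := fun c k =>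
    commute_alg (fun a ha => (show Commute (c : G) a from (c.2 a ha).symm).map ι) k.2
  let ρ : C →* Module.End (alg ι A) V :=
    { toFun := fun c =>
        { toFun := fun v => ι (c : G) v
          map_add' := map_add _
          map_smul' := fun k v => congrArg (fun f : Module.End (ZMod 3) V => f v) (hcomm c k).eq }
      map_one' := LinearMap.ext fun v => congrArg (fun f : Module.End (ZMod 3) V => f v) (map_one ι)
      map_mul' := fun a b => LinearMap.ext fun v => congrArg (fun f : Module.End (ZMod 3) V => f v)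
        (map_mul ι (a : G) b) }
  have hρ : Function.Injective ρ := fun a b h => Subtype.ext (hι (LinearMap.ext fun v =>
    congrArg (fun f : Module.End (alg ι A) V => f v) h))
  haveI : CharP (alg ι A) 3 := charP_of_injective_algebraMap (algebraMap (ZMod 3) (alg ι A)).injective 3
  have hCG : Nat.card C ∣ Nat.card G := Subgroup.card_subgroup_dvd_card _
  have hchar : (Nat.card C : alg ι A) ≠ 0 := fun h =>
    hcop (((CharP.cast_eq_zero_iff (alg ι A) 3 _).1 h).trans hCG)
  by_cases hna : Subgroup.center C = ⊤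
  · exact not_normal_five hι htrans hcop hd hns C (fun a ha b hb => by
      have h := Subgroup.mem_center_iff.1 (hna.symm ▸ trivial : (⟨b, hb⟩ : C) ∈ Subgroup.center C) ⟨a, ha⟩
      exact congrArg Subtype.val h) hx (hxC x hx)
  rcases configurations ρ hρ h2 hchar hna with ⟨g, hg, hgA, -⟩ | ⟨n, c, hnc, hC, -⟩
  · set B := Subgroup.centralizer ({g} : Set C)
    have hi : B.index = 2 := by
      have h := B.index_mul_card
      rw [← hgA] at h
      exact Nat.eq_of_mul_eq_mul_right Nat.card_pos h
    haveI := Subgroup.normal_of_index_eq_two hi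
    set D : Subgroup G := Subgroup.closure {y | orderOf y = 5}
    have hDn : D.Normal := ⟨fun a ha g => by
      have hle' : D.map (MulAut.conj g).toMonoidHom ≤ D := by
        rw [MonoidHom.map_closure]
        refine Subgroup.closure_mono ?_
        rintro _ ⟨y, hy, rfl⟩
        show orderOf (MulAut.conj g y) = 5
        rw [MulEquiv.orderOf_eq]; exact hy
      exact hle' ⟨a, ha, rfl⟩⟩
    have hle : D ≤ B.map C.subtype := by
      refine (Subgroup.closure_le _).2 fun y (hy : orderOf y = 5) => ?_
      refine ⟨⟨y, hxC y hy⟩, ?_, rfl⟩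
      have hq : ((⟨y, hxC y hy⟩ : C) : C ⧸ B) = 1 := by
        rw [← orderOf_eq_one_iff]
        have h1 : orderOf ((⟨y, hxC y hy⟩ : C) : C ⧸ B) ∣ 5 := by
          rw [← hy, ← Subgroup.orderOf_mk y (hxC y hy)]; exact orderOf_map_dvd (QuotientGroup.mk' B) _
        have h2' : orderOf ((⟨y, hxC y hy⟩ : C) : C ⧸ B) ∣ 2 := by
          rw [← hi, Subgroup.index_eq_card]; exact orderOf_dvd_natCard _
        exact Nat.dvd_one.1 ((Nat.dvd_gcd h1 h2').trans (by norm_num))
      exact (QuotientGroup.eq_one_iff _).1 hq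
    refine not_normal_five hι htrans hcop hd hns D (hA := hDn) (fun a ha b hb => ?_) hx (Subgroup.subset_closure hx)
    obtain ⟨a', ha', rfl⟩ := hle ha
    obtain ⟨b', hb', rfl⟩ := hle hb
    exact congrArg Subtype.val (centralizer_comm ρ hρ h2 g hg a' b'
      (Eq.symm (Subgroup.mem_centralizer_singleton_iff.1 ha'))
      (Eq.symm (Subgroup.mem_centralizer_singleton_iff.1 hb'))).eq
  · have h3n : 3 ∣ n := by rcases hnc with h | h | h <;> rw [h.1] <;> norm_num
    exact hcop ((hC ▸ h3n.mul_left _).trans hCG)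

theorem eighty_one_bound [Group.IsSolvable G] {s : ℕ} (hcard : Nat.card G = s * 80) :
    Nat.card (ConjClasses G) + s < 81 := by
  classical
  haveI := Fintype.ofFinite G
  haveI : Fact (Nat.Prime 5) := ⟨Nat.prime_five⟩
  haveI : Fact (Nat.Prime 2) := ⟨Nat.prime_two⟩
  haveI : Finite (Module.End (ZMod 3) V) := Finite.of_injective _ DFunLike.coe_injective
  obtain ⟨x, hx⟩ := exists_prime_orderOf_dvd_card' 5 (show 5 ∣ Nat.card G from hcard ▸ dvd_mul_of_dvd_right (by norm_num) s)
  have hxi := irred_five hι htrans hcop hd hx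
  set Z := Subgroup.center G with hZ
  have hZc : ∀ z ∈ Z, ∀ g : G, z * g = g * z := fun z hz g => (Subgroup.mem_center_iff.1 hz g).symm
  have hcent : ∀ A : Subgroup G, A.Normal → (∀ a ∈ A, ∀ b ∈ A, a * b = b * a) → A ≤ Z := by
    intro A hA hAc a ha
    obtain ⟨c, hc⟩ := scalar_of_abelian hι htrans hcop hd hns A (hA := hA) hAc a ha
    refine Subgroup.mem_center_iff.2 fun g => hι ?_
    rw [map_mul, map_mul, ← hc, Algebra.commutes]
  have hZtop : Z < ⊤ := lt_top_iff_ne_top.2 fun h => not_normal_five hι htrans hcop hd hns ⊤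
    (fun a _ b _ => hZc a (h ▸ Subgroup.mem_top a) b) hx (Subgroup.mem_top x)
  have hZab : ∀ a ∈ Z, ∀ b ∈ Z, a * b = b * a := fun a ha b _ => hZc a ha b
  have halg : Function.Injective (algebraMap (ZMod 3) (Module.End (ZMod 3) V)) := FaithfulSMul.algebraMap_injective _ _
  choose c hc using fun z : Z => scalar_of_abelian hι htrans hcop hd hns Z hZab z.1 z.2
  have hcinj : Function.Injective c := fun a b e => Subtype.ext (hι (by rw [← hc a, ← hc b, e]))
  have hc0 : ∀ z, c z ≠ 0 := fun z e => by
    have h2 : ι ((z : G) * (z : G)⁻¹) = 1 := by rw [mul_inv_cancel, map_one]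
    rw [map_mul, ← hc, e, map_zero, zero_mul] at h2
    exact zero_ne_one h2
  have hZ2 : Nat.card Z ≤ 2 := by
    refine (Nat.card_le_card_of_injective (fun z => (⟨c z, hc0 z⟩ : {a : ZMod 3 // a ≠ 0}))
      fun a b e => hcinj (congrArg Subtype.val e)).trans ?_
    rw [Nat.card_eq_fintype_card, Fintype.card_subtype_compl, ZMod.card, Fintype.card_subtype_eq]
  obtain ⟨N, q', m, hNn, hq', hZN, -, hqZ, hctr, hpow, hcl, hm, hidx, hle⟩ :=
    class_two (L := ⊤) hι hZtop (fun z hz g _ => hZc z hz g) (hns.finrank_lt hι htrans Z hZab).1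
      (fun B hB _ _ hBc => hcent B hB hBc)
  haveI := hNn
  obtain rfl : q' = 2 := by
    have := Nat.le_of_dvd Nat.card_pos hqZ
    have := hq'.two_le
    omega
  have hZcard : Nat.card Z = 2 := by
    have := Nat.le_of_dvd Nat.card_pos hqZ
    omega
  rw [hd] at hle
  have hm2 : m ≤ 2 := (Nat.pow_le_pow_iff_right one_lt_two).1 (by simpa using hle)
  have hNcard : Nat.card N = 2 ^ (2 * m + 1) := by
    have h1 : Nat.card (Subgroup.center N) = 2 := by
      rw [← hZcard, ← hctr, ctr_eq_map, Subgroup.card_map_of_injective N.subtype_injective]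
    rw [← Subgroup.index_mul_card (Subgroup.center N), hidx, h1, pow_succ]
  have hNna : ¬ ∀ a ∈ N, ∀ b ∈ N, a * b = b * a := fun h => hZN.not_ge (hcent N hNn h)
  obtain ⟨j, hjle, hj, hjmod⟩ := card_fixed hx N hNcard
  have hnotall : N ⊓ Subgroup.centralizer ({x} : Set G) ≠ N := fun e => hNna fun a ha b hb =>
    (commute_of_irred hι hxi (Subgroup.mem_centralizer_singleton_iff.1 (e.ge ha).2).symm
      (Subgroup.mem_centralizer_singleton_iff.1 (e.ge hb).2).symm).eq
  have hZle : Z ≤ N ⊓ Subgroup.centralizer ({x} : Set G) := fun z hz =>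
    ⟨hZN.le hz, Subgroup.mem_centralizer_singleton_iff.2 (hZc z hz x)⟩
  have hjlt : j < 2 * m + 1 := lt_of_le_of_ne hjle fun e => hnotall
    (Subgroup.eq_of_le_of_card_ge inf_le_left (by rw [hj, e, hNcard]))
  have hj1 : 1 ≤ j := by
    by_contra h
    have := Subgroup.card_le_of_le hZle
    rw [hj, show j = 0 by omega, hZcard] at this
    norm_num at this
  obtain ⟨hm', hj'⟩ : m = 2 ∧ j = 1 := by
    interval_cases m <;> interval_cases j <;> first | exact ⟨rfl, rfl⟩ | (exfalso; revert hjmod; decide)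
  subst hm' hj'
  replace hNcard : Nat.card N = 2 ^ 5 := hNcard
  have hfixZ : N ⊓ Subgroup.centralizer ({x} : Set G) = Z :=
    (Subgroup.eq_of_le_of_card_ge hZle (by rw [hj, hZcard]; norm_num)).symm
  -- the element acts without fixed points on the cosets of the centre
  have hfpf : ∀ a ∈ N, x * a * x⁻¹ * a⁻¹ ∈ Z → a ∈ Z := by
    intro a ha hz
    set z := x * a * x⁻¹ * a⁻¹ with hzdef
    have hz2 : z * z = 1 := by
      have h : (⟨z, hz⟩ : Z) ^ 2 = 1 := hZcard ▸ pow_card_eq_one'
      rw [sq] at h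
      exact congrArg Subtype.val h
    have h1 : x * a * x⁻¹ = z * a := by rw [hzdef]; group
    have h2 : Commute (x ^ 2) a := by
      have hxz : x * z = z * x := (hZc z hz x).symm
      show x ^ 2 * a = a * x ^ 2
      calc x ^ 2 * a = x * (x * a * x⁻¹) * x⁻¹ * x ^ 2 := by rw [sq]; group
        _ = x * z * a * x⁻¹ * x ^ 2 := by rw [h1]; group
        _ = z * (x * a * x⁻¹) * x ^ 2 := by rw [hxz]; group
        _ = z * z * a * x ^ 2 := by rw [h1]; group
        _ = a * x ^ 2 := by rw [hz2, one_mul]
    rw [← hfixZ]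
    exact ⟨ha, Subgroup.mem_centralizer_singleton_iff.2 (commute_of_pow hx (by norm_num) h2).eq.symm⟩
  -- the centraliser of `N`
  have hCN : ∀ g : G, (∀ a ∈ N, a * g = g * a) → g ∈ Z := by
    intro g hg
    haveI : Fintype (N ⧸ Subgroup.center N) := Fintype.ofFinite _
    have hcard : Fintype.card (N ⧸ Subgroup.center N) = Module.finrank (ZMod 3) (Module.End (ZMod 3) V) := by
      rw [Module.finrank_linearMap, hd, ← Nat.card_eq_fintype_card, ← Subgroup.index_eq_card, hidx]
      norm_num
    have hspan := (indep_cosets (ι := ι) hι (hctr.symm ▸ (hns.finrank_lt hι htrans Z hZab).1)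
      (fun a ha b hb => hctr.symm ▸ hcl a ha b hb)).span_eq_top_of_card_eq_finrank hcard
    refine Subgroup.mem_center_iff.2 fun h => hι ?_
    suffices hall : ∀ φ : Module.End (ZMod 3) V, Commute (ι g) φ by rw [map_mul, map_mul]; exact (hall (ι h)).eq.symm
    intro φ
    have hφ : φ ∈ Submodule.span (ZMod 3)
        (Set.range fun x : N ⧸ Subgroup.center N => ι (x.out : N).1) := hspan ▸ Submodule.mem_top
    induction hφ using Submodule.span_induction with
    | mem y hy =>
      obtain ⟨y, rfl⟩ := hy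
      rw [commute_iff_eq, ← map_mul, ← map_mul, hg _ (y.out : N).2]
    | zero => exact Commute.zero_right _
    | add a b _ _ ha hb => exact ha.add_right hb
    | smul a b _ hb => exact hb.smul_right a
  -- the action on the cosets
  set π := QuotientGroup.mk' Z with hπ
  set M := N.map π with hM
  haveI : M.Normal := Subgroup.Normal.map hNn _ (QuotientGroup.mk'_surjective Z)
  have hMcard : Nat.card M = 16 := by
    have h1 : Nat.card (π.comp N.subtype).range = (π.comp N.subtype).ker.index :=
      (Subgroup.index_ker _).symm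
    rw [MonoidHom.range_comp, Subgroup.range_subtype] at h1
    rw [hM, h1, show (π.comp N.subtype).ker = Subgroup.center N from ?_, hidx]
    · norm_num
    ext a
    rw [MonoidHom.mem_ker, MonoidHom.comp_apply, QuotientGroup.mk'_apply, QuotientGroup.eq_one_iff, ← hctr,
      ctr_eq_map, Subgroup.mem_map]
    exact ⟨fun ⟨b, hb, e⟩ => N.subtype_injective e ▸ hb, fun h => ⟨a, h, rfl⟩⟩
  let φ : G →* MulAut M := (MulAut.conjNormal : G ⧸ Z →* MulAut M).comp π
  have hker : ∀ g : G, g ∈ φ.ker ↔ ∀ a ∈ N, g * a * g⁻¹ * a⁻¹ ∈ Z := by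
    intro g
    rw [MonoidHom.mem_ker, MulEquiv.ext_iff]
    constructor
    · intro h a ha
      have h1 := congrArg Subtype.val (h ⟨π a, ⟨a, ha, rfl⟩⟩)
      simp only [φ, MonoidHom.comp_apply, MulAut.conjNormal_apply, MulAut.one_apply] at h1
      rw [← QuotientGroup.eq_one_iff]
      show π (g * a * g⁻¹ * a⁻¹) = 1
      rw [map_mul, map_mul, map_mul, map_inv, map_inv, h1, mul_inv_cancel]
    · rintro h ⟨_, a, ha, rfl⟩
      refine Subtype.ext ?_
      simp only [φ, MonoidHom.comp_apply, MulAut.conjNormal_apply, MulAut.one_apply]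
      rw [← mul_inv_eq_one, ← map_inv, ← map_inv, ← map_mul, ← map_mul, ← map_mul]
      exact (QuotientGroup.eq_one_iff _).2 (h a ha)
  have hNker : φ.ker = N := by
    refine (Subgroup.eq_of_le_of_card_ge (fun g hg => (hker g).2 fun a ha => hcl g hg a ha) ?_).symm
    set K₁ := φ.ker
    let sgn : K₁ → (N ⧸ Subgroup.center N →* ZMod 3) := fun g =>
      QuotientGroup.lift (Subgroup.center N)
        { toFun := fun a => c ⟨(g : G) * a * (g : G)⁻¹ * (a : G)⁻¹, (hker g).1 g.2 a a.2⟩
          map_one' := halg (by rw [hc]; simp)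
          map_mul' := fun a b => halg (by
            rw [map_mul, hc, hc, hc, ← map_mul]
            congr 1
            push_cast
            have hzb := hZc _ ((hker g).1 g.2 b b.2) (a : G)⁻¹
            calc (g : G) * ((a : G) * b) * (g : G)⁻¹ * ((a : G) * b)⁻¹
                = (g : G) * a * (g : G)⁻¹ * ((g : G) * b * (g : G)⁻¹ * (b : G)⁻¹ * (a : G)⁻¹) := by group
              _ = _ := by rw [hzb]; group) }
        (fun a ha => halg (by
          show algebraMap _ _ (c ⟨_, _⟩) = algebraMap _ _ 1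
          have haZ : (a : G) ∈ Z := hctr ▸ (ctr_eq_map N ▸ ⟨a, ha, rfl⟩ : (a : G) ∈ ctr N)
          rw [hc, map_one]
          show ι ((g : G) * a * (g : G)⁻¹ * (a : G)⁻¹) = 1
          rw [← hZc _ haZ (g : G)]
          simp))
    have hfib : ∀ g h : K₁, sgn g = sgn h → (h : G)⁻¹ * (g : G) ∈ Z := by
      intro g h e
      refine hCN _ fun a ha => ?_
      have e1 : ι ((g : G) * a * (g : G)⁻¹ * a⁻¹) = ι ((h : G) * a * (h : G)⁻¹ * a⁻¹) := by
        have e0 : c ⟨_, (hker g).1 g.2 a ha⟩ = c ⟨_, (hker h).1 h.2 a ha⟩ :=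
          DFunLike.congr_fun e ((⟨a, ha⟩ : N) : N ⧸ Subgroup.center N)
        exact (hc ⟨_, (hker g).1 g.2 a ha⟩).symm.trans ((congrArg _ e0).trans (hc _))
      have e2 := mul_right_cancel (hι e1)
      calc a * ((h : G)⁻¹ * g) = (h : G)⁻¹ * ((h : G) * a * (h : G)⁻¹) * g := by group
        _ = (h : G)⁻¹ * ((g : G) * a * (g : G)⁻¹) * g := by rw [e2]
        _ = (h : G)⁻¹ * g * a := by group
    obtain ⟨hfin, hcardhom⟩ := card_hom_le (L := ZMod 3) (N ⧸ Subgroup.center N)
    rw [← Subgroup.index_eq_card, hidx] at hcardhom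
    norm_num at hcardhom
    haveI := hfin
    haveI : Fintype (N ⧸ Subgroup.center N →* ZMod 3) := Fintype.ofFinite _
    haveI : Fintype K₁ := Fintype.ofFinite _
    have hb := Finset.card_le_mul_card_image_of_maps_to (f := sgn) (s := (Finset.univ : Finset K₁))
      (t := Finset.univ) (fun _ _ => Finset.mem_univ _) 2 fun b _ => ?_
    · rw [Finset.card_univ, Finset.card_univ, ← Nat.card_eq_fintype_card, ← Nat.card_eq_fintype_card] at hb
      omega
    rcases Finset.eq_empty_or_nonempty ((Finset.univ : Finset K₁).filter fun g : K₁ => sgn g = b) with h0 | ⟨g₀, hg₀⟩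
    · rw [h0]; simp
    rw [← Fintype.card_coe, ← Nat.card_eq_fintype_card, ← hZcard]
    refine Nat.card_le_card_of_injective (fun g => (⟨(g₀ : G)⁻¹ * ((g : K₁) : G),
      hfib _ _ ((Finset.mem_filter.1 g.2).2.trans (Finset.mem_filter.1 hg₀).2.symm)⟩ : Z)) fun g g' e => ?_
    exact Subtype.ext (Subtype.ext (mul_left_cancel (congrArg Subtype.val e)))
  -- the quotient by `N`
  set T := G ⧸ N
  set μ := QuotientGroup.mk' N
  have hμ : ∀ g, μ g = 1 ↔ g ∈ N := fun g => QuotientGroup.eq_one_iff g
  have hMfix : ∀ (R : Subgroup T), R.Normal → IsPGroup 2 R → R = ⊥ := by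
    intro R hR hR2
    rw [Subgroup.eq_bot_iff_forall]
    intro t ht
    obtain ⟨g, rfl⟩ := QuotientGroup.mk'_surjective N t
    set R' := R.comap μ
    haveI : R'.Normal := hR.comap μ
    have hR'2 : IsPGroup 2 R' := hR2.comap_of_ker_isPGroup μ (by
      rw [QuotientGroup.ker_mk']; exact IsPGroup.of_card hNcard)
    have himg : IsPGroup 2 (R'.map φ) := hR'2.map φ
    letI : MulAction (R'.map φ) M := MulAction.compHom M (R'.map φ).subtype
    haveI : Fintype M := Fintype.ofFinite M
    have hdiv : 2 ∣ Nat.card M := by rw [hMcard]; norm_num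
    obtain ⟨w, hw, hw1⟩ := himg.exists_fixed_point_of_prime_dvd_card_of_fixed_point M hdiv (a := (1 : M))
      (fun f => map_one (f : MulAut M))
    have hw' : ∀ h : R', φ (h : G) w = w := fun h => hw ⟨φ h, h, h.2, rfl⟩
    -- the fixed subgroup
    let W : Subgroup G :=
      { carrier := {a | a ∈ N ∧ ∀ h : R', (h : G) * a * (h : G)⁻¹ * a⁻¹ ∈ Z}
        one_mem' := ⟨one_mem _, fun h => by simp⟩
        mul_mem' := fun {a b} ha hb => ⟨mul_mem ha.1 hb.1, fun h => by
          have hzb := hZc _ (hb.2 h) a⁻¹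
          rw [show (h : G) * (a * b) * (h : G)⁻¹ * (a * b)⁻¹ =
            (h : G) * a * (h : G)⁻¹ * ((h : G) * b * (h : G)⁻¹ * b⁻¹ * a⁻¹) by group, hzb, ← mul_assoc]
          exact mul_mem (ha.2 h) (hb.2 h)⟩
        inv_mem' := fun {a} ha => ⟨inv_mem ha.1, fun h => by
          have hza := hZc _ (inv_mem (ha.2 h)) a
          rw [show (h : G) * a⁻¹ * (h : G)⁻¹ * a⁻¹⁻¹ =
            a⁻¹ * (((h : G) * a * (h : G)⁻¹ * a⁻¹)⁻¹ * a) by group, hza, inv_mul_cancel_left]
          exact inv_mem (ha.2 h)⟩ }
    have hWn : W.Normal := ⟨fun a ha k => ⟨hNn.conj_mem a ha.1 k, fun h => by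
      have h1 := (inferInstance : Z.Normal).conj_mem _
        (ha.2 ⟨k⁻¹ * (h : G) * k, by simpa using (inferInstance : R'.Normal).conj_mem _ h.2 k⁻¹⟩) k
      rw [show (h : G) * (k * a * k⁻¹) * (h : G)⁻¹ * (k * a * k⁻¹)⁻¹ =
        k * (k⁻¹ * (h : G) * k * a * (k⁻¹ * (h : G) * k)⁻¹ * a⁻¹) * k⁻¹ by group]
      exact h1⟩⟩
    obtain ⟨_, a, ha, rfl⟩ := w
    have haW : a ∈ W := ⟨ha, fun h => by
      have h1 := congrArg Subtype.val (hw' h)
      simp only [φ, MonoidHom.comp_apply, MulAut.conjNormal_apply] at h1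
      rw [← QuotientGroup.eq_one_iff]
      show π ((h : G) * a * (h : G)⁻¹ * a⁻¹) = 1
      rw [map_mul, map_mul, map_mul, map_inv, map_inv, h1, mul_inv_cancel]⟩
    have haZ : a ∉ Z := fun h => hw1 (Subtype.ext ((QuotientGroup.eq_one_iff a).2 h).symm)
    have hWN : W ≤ N := fun b hb => hb.1
    obtain ⟨kW, hkW, hWc⟩ := (Nat.dvd_prime_pow Nat.prime_two).1 (hNcard ▸ Subgroup.card_dvd_of_le hWN :
      Nat.card W ∣ 2 ^ 5)
    obtain ⟨jW, hjW, hjWc, hjWmod⟩ := card_fixed hx W (hN := hWn) hWc
    have hZW : Z ≤ W := fun z hz => ⟨hZN.le hz, fun h => by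
      rw [← hZc z hz (h : G)]; simp⟩
    have hjW1 : jW = 1 := by
      have e : W ⊓ Subgroup.centralizer ({x} : Set G) = Z := le_antisymm
        ((inf_le_inf_right _ hWN).trans hfixZ.le) fun z hz => ⟨hZW hz, (hZle hz).2⟩
      rw [e, hZcard] at hjWc
      exact Nat.pow_right_injective le_rfl (show (2 : ℕ) ^ jW = 2 ^ 1 by rw [← hjWc, pow_one])
    have hkW2 : 2 ≤ kW := by
      by_contra h
      have h1 := Subgroup.eq_of_le_of_card_ge hZW (by
        rw [hWc, hZcard]; exact Nat.pow_le_pow_right (by norm_num) (show kW ≤ 1 by omega))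
      exact haZ (h1 ▸ haW)
    have hWeq : W = N := by
      refine Subgroup.eq_of_le_of_card_ge hWN ?_
      rw [hjW1] at hjWmod
      rw [hWc, hNcard]
      interval_cases kW <;> first | (norm_num; done) | (exfalso; revert hjWmod; decide)
    refine (hμ g).2 (hNker ▸ (hker g).2 fun b hb => ?_)
    exact (hWeq.ge hb : b ∈ W).2 ⟨g, ht⟩
  have hGdvd := card_dvd_81 hι htrans hcop hd
  have hTdvd : Nat.card T ∣ 2 ^ 4 * 5 := by
    have h1 : N.index * 2 ^ 5 = Nat.card G := by rw [← hNcard, Subgroup.index_mul_card]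
    rw [← h1, Subgroup.index_eq_card, show (2 : ℕ) ^ 9 * 5 = 2 ^ 4 * 5 * 2 ^ 5 from rfl] at hGdvd
    exact Nat.dvd_of_mul_dvd_mul_right (pow_pos (by norm_num) 5) hGdvd
  set y := μ x
  have hxN : x ∉ N := fun h => by
    have := Subgroup.orderOf_dvd_natCard N h
    rw [hx, hNcard] at this
    norm_num at this
  have hy : orderOf y = 5 := orderOf_eq_prime (by rw [← map_pow, ← hx, pow_orderOf_eq_one, map_one])
    fun h => hxN ((hμ x).1 h)
  set Y := Subgroup.zpowers y
  have hYc : Nat.card Y = 5 := by rw [Nat.card_zpowers, hy]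
  haveI : Group.IsSolvable T := Group.isSolvable_of_surjective (f := μ) (QuotientGroup.mk'_surjective N)
  haveI : Nontrivial T := ⟨⟨y, 1, fun h => by rw [h, orderOf_one] at hy; norm_num at hy⟩⟩
  obtain ⟨E, q₁, hEn, hq₁, -, hEne, hEc, hEexp⟩ := exists_elem_abelian (⊤ : Subgroup T) top_ne_bot
  have hE2 : q₁ = 5 := by
    obtain ⟨e, he, he1⟩ := E.bot_or_exists_ne_one.resolve_left hEne
    haveI := Fact.mk hq₁
    have hoe : orderOf e = q₁ := orderOf_eq_prime (hEexp e he) he1
    have hdvd : q₁ ∣ 2 ^ 4 * 5 := hoe ▸ (orderOf_dvd_natCard e).trans hTdvd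
    rcases hq₁.dvd_mul.1 hdvd with h | h
    · exfalso
      have := (Nat.prime_dvd_prime_iff_eq hq₁ Nat.prime_two).1 (hq₁.dvd_of_dvd_pow h)
      subst this
      exact hEne (hMfix E hEn fun a => ⟨1, Subtype.ext (by simpa using hEexp a a.2)⟩)
    · exact (Nat.prime_dvd_prime_iff_eq hq₁ Nat.prime_five).1 h
  subst hE2
  have hE5 : IsPGroup 5 E := fun a => ⟨1, Subtype.ext (by simpa using hEexp a a.2)⟩
  obtain ⟨P, hP⟩ := hE5.exists_le_sylow
  have hPc : Nat.card P ≤ 5 := by
    obtain ⟨k, hk⟩ := P.2.exists_card_eq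
    have hd5 : 5 ^ k ∣ 2 ^ 4 * 5 := hk ▸ (Subgroup.card_subgroup_dvd_card _).trans hTdvd
    rw [hk]
    exact Nat.le_of_dvd (by norm_num) ((Nat.Coprime.pow_left k (by norm_num : Nat.Coprime 5 (2 ^ 4))).dvd_of_dvd_mul_left hd5)
  have hEP : E = (P : Subgroup T) := by
    obtain ⟨k, hk⟩ := hE5.exists_card_eq
    refine Subgroup.eq_of_le_of_card_ge hP ?_
    rcases k with _ | k
    · exact absurd (Subgroup.card_eq_one.1 (by simpa using hk)) hEne
    · rw [hk, pow_succ]; exact hPc.trans (Nat.le_mul_of_pos_left 5 (pow_pos (by norm_num) k))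
  have hYE : Y = E := by
    haveI : (P : Subgroup T).Normal := hEP ▸ hEn
    haveI := P.unique_of_normal inferInstance
    obtain ⟨P', hP'⟩ := (IsPGroup.of_card (n := 1) (by rw [hYc]; norm_num) : IsPGroup 5 Y).exists_le_sylow
    rw [Subsingleton.elim P' P] at hP'
    rw [hEP]
    exact Subgroup.eq_of_le_of_card_ge hP' (by rw [hYc]; exact hPc)
  haveI hYn : Y.Normal := hYE ▸ hEn
  -- `Y` is its own centraliser
  have hself : ∀ t : T, Commute y t → t ∈ Y := by
    set D := Subgroup.centralizer (Y : Set T)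
    have hYD : Y ≤ D := fun a ha b hb => by
      obtain ⟨i, rfl⟩ := Subgroup.mem_zpowers_iff.1 ha
      obtain ⟨l, rfl⟩ := Subgroup.mem_zpowers_iff.1 hb
      exact (Commute.zpow_zpow_self y l i).eq
    let S : Sylow 2 D := default
    have hScent : ∀ a ∈ (S : Subgroup D), ∀ b : D, (b : T) ∈ Y → a * b = b * a := fun a _ b hb =>
      Subtype.ext (a.2 _ hb).symm
    have hSn : (S : Subgroup D).Normal := by
      refine Subgroup.normalizer_eq_top_iff.1 (top_le_iff.1 ?_)
      have hsup : (S : Subgroup D) ⊔ Y.subgroupOf D = ⊤ := by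
        refine Subgroup.eq_top_of_card_eq _ (Nat.dvd_antisymm (Subgroup.card_subgroup_dvd_card _) ?_)
        obtain ⟨i, hi⟩ := S.2.exists_card_eq
        have hY' : Nat.card (Y.subgroupOf D) = 5 := by
          rw [Nat.card_congr (Subgroup.subgroupOfEquivOfLe hYD).toEquiv, hYc]
        have h5 : 5 ∣ Nat.card ((S : Subgroup D) ⊔ Y.subgroupOf D : Subgroup D) :=
          hY' ▸ Subgroup.card_dvd_of_le le_sup_right
        have hDdvd : Nat.card D ∣ 2 ^ 4 * 5 := (Subgroup.card_subgroup_dvd_card _).trans hTdvd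
        have h2 : Nat.card D ∣ Nat.card (S : Subgroup D) * 5 := by
          obtain ⟨a₁, b₁, ha₁, hb₁, hab₁⟩ := Nat.dvd_mul.1 hDdvd
          obtain ⟨i₁, -, rfl⟩ := (Nat.dvd_prime_pow Nat.prime_two).1 ha₁
          rw [← hab₁]
          exact Nat.mul_dvd_mul (S.pow_dvd_card_of_pow_dvd_card (hab₁ ▸ dvd_mul_right _ _)) hb₁
        refine h2.trans (Nat.Coprime.mul_dvd_of_dvd_of_dvd ?_ (Subgroup.card_dvd_of_le le_sup_left) h5)
        rw [hi]; exact Nat.Coprime.pow_left i (by norm_num)
      rw [← hsup]
      refine sup_le Subgroup.le_normalizer fun b hb => ?_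
      rw [Subgroup.mem_normalizer_iff]
      intro a
      constructor
      · intro ha; rw [← hScent a ha b hb, mul_inv_cancel_right]; exact ha
      · intro ha
        have h1 := hScent _ ha b hb
        rw [inv_mul_cancel_right] at h1
        have : b * a * b⁻¹ = a := mul_left_cancel h1.symm
        rwa [this] at ha
    haveI : (S : Subgroup D).Characteristic := S.characteristic_of_normal hSn
    have hbot := hMfix _ (inferInstance : ((S : Subgroup D).map D.subtype).Normal) (S.2.map D.subtype)
    intro t ht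
    have htD : t ∈ D := fun a ha => by
      obtain ⟨i, rfl⟩ := Subgroup.mem_zpowers_iff.1 ha
      exact (ht.zpow_left i).eq
    have hDY : D = Y := by
      refine (Subgroup.eq_of_le_of_card_ge hYD ?_).symm
      rw [hYc]
      obtain ⟨a₁, b₁, ha₁, hb₁, hab₁⟩ := Nat.dvd_mul.1 ((Subgroup.card_subgroup_dvd_card D).trans hTdvd)
      obtain ⟨i₁, -, rfl⟩ := (Nat.dvd_prime_pow Nat.prime_two).1 ha₁
      have h1 := S.pow_dvd_card_of_pow_dvd_card (hab₁ ▸ dvd_mul_right _ _ : 2 ^ i₁ ∣ Nat.card D)
      have h2 : Nat.card (S : Subgroup D) = 1 := by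
        rw [← Subgroup.card_map_of_injective D.subtype_injective, hbot, Subgroup.card_bot]
      rw [h2, Nat.dvd_one] at h1
      rw [← hab₁, h1, one_mul]
      exact Nat.le_of_dvd (by norm_num) hb₁
    exact hDY ▸ htD
  -- `[T : Y]` divides four
  have hYdvd : Y.index ∣ 4 := by
    have h1 : (MulAut.conjNormal : T →* MulAut Y).ker = Y := by
      ext t
      rw [MonoidHom.mem_ker]
      constructor
      · intro h
        have h2 := congrArg Subtype.val (DFunLike.congr_fun h ⟨y, Subgroup.mem_zpowers y⟩)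
        simp only [MulAut.conjNormal_apply, MulAut.one_apply] at h2
        exact hself t (mul_inv_eq_iff_eq_mul.1 h2).symm
      · intro h
        refine MulEquiv.ext fun ⟨a, ha⟩ => Subtype.ext ?_
        simp only [MulAut.conjNormal_apply, MulAut.one_apply]
        obtain ⟨i, rfl⟩ := Subgroup.mem_zpowers_iff.1 ha
        obtain ⟨l, rfl⟩ := Subgroup.mem_zpowers_iff.1 h
        rw [(Commute.zpow_zpow_self y l i).eq, mul_inv_cancel_right]
    have h2 : Nat.card (MulAut Y) = 4 := by
      rw [IsCyclic.card_mulAut, hYc]; decide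
    rw [← h1, Subgroup.index_ker, ← h2]
    exact Subgroup.card_subgroup_dvd_card _
  obtain ⟨e, he⟩ : ∃ e, Y.index = e := ⟨_, rfl⟩
  rw [he] at hYdvd
  have he4 : e ≤ 4 := Nat.le_of_dvd (by norm_num) hYdvd
  have hTcard : Nat.card T = 5 * e := by rw [← hYc, ← he, Subgroup.card_mul_index]
  have hGcard : Nat.card G = 160 * e := by
    rw [← Subgroup.index_mul_card N, Subgroup.index_eq_card, hTcard, hNcard]; ring
  have he0 : 1 ≤ e := Nat.one_le_iff_ne_zero.2 fun h => Nat.card_pos.ne' (hGcard.trans (by rw [h, mul_zero]))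
  have hse : s = 2 * e := by omega
  -- centralisers
  have hsplit : ∀ g : G, Nat.card (Subgroup.centralizer ({g} : Set G)) ≤
      Nat.card (N ⊓ Subgroup.centralizer ({g} : Set G) : Subgroup G) *
        Nat.card (Subgroup.centralizer ({μ g} : Set T)) := by
    intro g
    set C := Subgroup.centralizer ({g} : Set G)
    have h1 := Subgroup.card_mul_index ((μ.comp C.subtype).ker)
    rw [Subgroup.index_ker] at h1
    rw [← h1]
    refine Nat.mul_le_mul ?_ ?_
    · exact Nat.card_le_card_of_injective
        (fun a => (⟨((a.1 : C) : G), (hμ _).1 a.2, (a.1 : C).2⟩ : (N ⊓ C : Subgroup G)))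
        fun a b h => Subtype.ext (Subtype.ext (congrArg (fun z : (N ⊓ C : Subgroup G) => (z : G)) h))
    · refine Subgroup.card_le_of_le ?_
      rintro _ ⟨a, rfl⟩
      refine Subgroup.mem_centralizer_singleton_iff.2 ?_
      show μ (a : G) * μ g = μ g * μ (a : G)
      rw [← map_mul, ← map_mul, Subgroup.mem_centralizer_singleton_iff.1 a.2]
  let w : G → ℕ := fun g => if g ∈ Z then 160 * e else if g ∈ N then 16 * e else if μ g ∈ Y then 10 else 16 * e
  have hw : ∀ g, Nat.card (Subgroup.centralizer ({g} : Set G)) ≤ w g := by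
    intro g
    simp only [w]
    split_ifs with h1 h2 h3
    · exact (Subgroup.card_le_card_group _).trans_eq hGcard
    · -- the class has at least ten elements
      set C := Subgroup.centralizer ({g} : Set G)
      have hidxC : 10 ≤ C.index := by
        obtain ⟨b, hb, hbg⟩ : ∃ b ∈ N, b * g * b⁻¹ ≠ g := by
          by_contra h
          push Not at h
          exact h1 (hCN g fun b hb => mul_inv_eq_iff_eq_mul.1 (h b hb))
        let F : Fin 5 × Bool → G ⧸ C := fun k => ((x ^ (k.1 : ℕ) * if k.2 then b else 1 : G) : G ⧸ C)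
        have hF : Function.Injective F := by
          rintro ⟨i, bi⟩ ⟨l, bl⟩ h
          have hconj : ∀ u v : G, ((u : G ⧸ C) = (v : G ⧸ C)) → u * g * u⁻¹ = v * g * v⁻¹ := by
            intro u v huv
            have hm := Subgroup.mem_centralizer_singleton_iff.1 (QuotientGroup.eq.1 huv)
            calc u * g * u⁻¹ = u * (g * (u⁻¹ * v)) * v⁻¹ := by group
              _ = u * ((u⁻¹ * v) * g) * v⁻¹ := by rw [hm]
              _ = _ := by group
          have hc1 := hconj _ _ h
          have hzmem : ∀ bb : Bool, (if bb then b else 1) * g * (if bb then b else 1)⁻¹ * g⁻¹ ∈ Z := by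
            rintro (_ | _)
            · simp
            · exact hcl b hb g h2
          by_cases hil : i = l
          · subst hil
            have hc2 : (if bi then b else 1) * g * (if bi then b else 1)⁻¹ =
                (if bl then b else 1) * g * (if bl then b else 1)⁻¹ := by
              refine mul_left_cancel (a := x ^ (i : ℕ)) (mul_right_cancel (b := (x ^ (i : ℕ))⁻¹) ?_)
              calc _ = (x ^ (i : ℕ) * if bi then b else 1) * g * (x ^ (i : ℕ) * if bi then b else 1)⁻¹ := by group
                _ = _ := hc1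
                _ = _ := by group
            cases bi <;> cases bl <;> simp at hc2 <;> first | rfl | exact absurd hc2 hbg | exact absurd hc2.symm hbg
          exfalso
          -- modulo the centre the powers of `x` fix the coset of `g`
          have hπbb : ∀ bb : Bool, π ((if bb then b else 1) * g * (if bb then b else 1)⁻¹) = π g := fun bb => by
            rw [← mul_inv_eq_one, ← map_inv, ← map_mul]
            exact (QuotientGroup.eq_one_iff _).2 (hzmem bb)
          have hc3 : π (x ^ (i : ℕ)) * π g * (π (x ^ (i : ℕ)))⁻¹ = π (x ^ (l : ℕ)) * π g * (π (x ^ (l : ℕ)))⁻¹ := by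
            have hc4 : ∀ (n : ℕ) (bb : Bool), π ((x ^ n * if bb then b else 1) * g * (x ^ n * if bb then b else 1)⁻¹) =
                π (x ^ n) * π g * (π (x ^ n))⁻¹ := fun n bb => by
              rw [show (x ^ n * if bb then b else 1) * g * (x ^ n * if bb then b else 1)⁻¹ =
                x ^ n * ((if bb then b else 1) * g * (if bb then b else 1)⁻¹) * (x ^ n)⁻¹ by group,
                map_mul, map_mul, hπbb, map_inv]
            rw [← hc4 i bi, ← hc4 l bl, hc1]
          have hpx : orderOf (π x) = 5 := orderOf_eq_prime (by rw [← map_pow, ← hx, pow_orderOf_eq_one, map_one])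
            fun h0 => hxN (hZN.le ((QuotientGroup.eq_one_iff x).1 h0))
          have key : ∀ i l : ℕ, i < l → l < 5 →
              π (x ^ i) * π g * (π (x ^ i))⁻¹ = π (x ^ l) * π g * (π (x ^ l))⁻¹ → False := by
            intro i l hil hl5 h'
            obtain ⟨n, rfl⟩ := Nat.exists_eq_add_of_le hil.le
            have h5 : Commute (π x ^ n) (π g) := by
              show π x ^ n * π g = π g * π x ^ n
              rw [map_pow, map_pow, pow_add] at h'
              have := congrArg (fun u => (π x ^ i)⁻¹ * u * (π x ^ i * π x ^ n)) h'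
              simp only [mul_assoc, inv_mul_cancel_left, inv_mul_cancel, mul_one] at this
              simpa [mul_assoc] using this.symm
            have h6 := commute_of_pow hpx (by omega) h5
            refine h1 (hfpf g h2 ?_)
            rw [← QuotientGroup.eq_one_iff]
            show π (x * g * x⁻¹ * g⁻¹) = 1
            rw [map_mul, map_mul, map_mul, map_inv, map_inv, h6.eq, mul_inv_cancel_right, mul_inv_cancel]
          rcases lt_or_gt_of_ne (fun h' => hil (Fin.ext h') : (i : ℕ) ≠ l) with hh | hh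
          · exact key i l hh l.2 hc3
          · exact key l i hh i.2 hc3.symm
        have := Nat.card_le_card_of_injective F hF
        rw [← Subgroup.index_eq_card, Nat.card_prod, Nat.card_eq_fintype_card, Nat.card_eq_fintype_card] at this
        simpa using this
      have := C.index_mul_card
      rw [hGcard] at this
      have h10 := Nat.mul_le_mul_right (Nat.card C) hidxC
      omega
    · -- image of order five
      refine (hsplit g).trans ((Nat.mul_le_mul ?_ ?_).trans_eq (show 2 * 5 = 10 from rfl))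
      · rw [← hZcard]
        refine Subgroup.card_le_of_le ?_
        rintro a ⟨ha, hag⟩
        obtain ⟨i, hi5, hi⟩ : ∃ i < 5, y ^ i = μ g := by
          obtain ⟨l, hl⟩ := Subgroup.mem_zpowers_iff.1 h3
          refine ⟨(l % 5).toNat, by omega, ?_⟩
          rw [← zpow_natCast, Int.toNat_of_nonneg (by omega), ← hl]
          conv_rhs => rw [← zpow_mod_orderOf, hy]
          rfl
        have hi0 : ¬ 5 ∣ i := fun h => by
          obtain rfl : i = 0 := by omega
          exact h2 ((hμ g).1 (by rw [← hi, pow_zero]))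
        have hn : (x ^ i)⁻¹ * g ∈ N := (hμ _).1 (by rw [map_mul, map_inv, map_pow, hi, inv_mul_cancel])
        have hg : π g = π (x ^ i) * π ((x ^ i)⁻¹ * g) := by rw [← map_mul, mul_inv_cancel_left]
        have hga : π g * π a = π a * π g := by
          rw [← map_mul, ← map_mul, (Subgroup.mem_centralizer_singleton_iff.1 hag)]
        have hna : π ((x ^ i)⁻¹ * g) * π a = π a * π ((x ^ i)⁻¹ * g) := by
          rw [← map_mul, ← map_mul, ← mul_inv_eq_one, ← map_inv, ← map_mul]
          refine (QuotientGroup.eq_one_iff _).2 ?_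
          rw [mul_inv_rev, ← mul_assoc]
          exact hcl _ hn a ha
        have h5 : Commute (π (x ^ i)) (π a) := by
          rw [hg, mul_assoc, hna, ← mul_assoc, ← mul_assoc] at hga
          exact mul_right_cancel hga
        have hpx : orderOf (π x) = 5 := orderOf_eq_prime (by rw [← map_pow, ← hx, pow_orderOf_eq_one, map_one])
          fun h0 => hxN (hZN.le ((QuotientGroup.eq_one_iff x).1 h0))
        rw [map_pow] at h5
        have h6 := commute_of_pow hpx hi0 h5
        refine hfpf a ha ?_
        rw [← QuotientGroup.eq_one_iff]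
        show π (x * a * x⁻¹ * a⁻¹) = 1
        rw [map_mul, map_mul, map_mul, map_inv, map_inv, h6.eq, mul_inv_cancel_right, mul_inv_cancel]
      · rw [← hYc]
        refine Subgroup.card_le_of_le fun t ht => hself t ?_
        obtain ⟨i, hi⟩ := Subgroup.mem_zpowers_iff.1 h3
        have hne : μ g ≠ 1 := fun h => h2 ((hμ g).1 h)
        have htop : Subgroup.zpowers (μ g) = Y := Subgroup.eq_of_le_of_card_ge
          (by rw [Subgroup.zpowers_le]; exact h3) (by
            rw [hYc, Nat.card_zpowers]
            have hd5 : orderOf (μ g) ∣ 5 := hYc ▸ Subgroup.orderOf_dvd_natCard Y h3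
            rcases (Nat.dvd_prime Nat.prime_five).1 hd5 with h | h
            · exact absurd (orderOf_eq_one_iff.1 h) hne
            · omega)
        obtain ⟨l, hl⟩ := Subgroup.mem_zpowers_iff.1 (htop.symm ▸ Subgroup.mem_zpowers y : y ∈ Subgroup.zpowers (μ g))
        rw [← hl]
        exact (show Commute (μ g) t from (Subgroup.mem_centralizer_singleton_iff.1 ht).symm).zpow_left l
    · refine (hsplit g).trans (Nat.mul_le_mul ?_ ?_)
      · obtain ⟨i, hi, hiN⟩ := (Nat.dvd_prime_pow Nat.prime_two).1 (hNcard ▸ Subgroup.card_dvd_of_le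
          (inf_le_left : N ⊓ Subgroup.centralizer ({g} : Set G) ≤ N) :
            Nat.card (N ⊓ Subgroup.centralizer ({g} : Set G) : Subgroup G) ∣ 2 ^ 5)
        rw [hiN]
        suffices h4 : i ≤ 4 from (Nat.pow_le_pow_right (show 0 < 2 by norm_num) h4).trans_eq (show 2 ^ 4 = 16 from rfl)
        by_contra h
        have heq : N ⊓ Subgroup.centralizer ({g} : Set G) = N := Subgroup.eq_of_le_of_card_ge inf_le_left (by
          rw [hiN, hNcard, show i = 5 by omega])
        exact h2 (hZN.le (hCN g fun a ha => Subgroup.mem_centralizer_singleton_iff.1 (heq.ge ha).2))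
      · set C := Subgroup.centralizer ({μ g} : Set T)
        rw [← he, Subgroup.index_eq_card]
        refine Nat.card_le_card_of_injective (fun a : C => ((a : T) : T ⧸ Y)) fun a b h => ?_
        have hm := QuotientGroup.eq.1 h
        refine Subtype.ext (inv_mul_eq_one.1 ?_)
        by_contra hne
        have hmC : (a : T)⁻¹ * (b : T) ∈ C := mul_mem (inv_mem a.2) b.2
        have htop : Subgroup.zpowers ((a : T)⁻¹ * (b : T)) = Y := Subgroup.eq_of_le_of_card_ge
          (by rw [Subgroup.zpowers_le]; exact hm) (by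
            rw [hYc, Nat.card_zpowers]
            have hd5 : orderOf ((a : T)⁻¹ * (b : T)) ∣ 5 := hYc ▸ Subgroup.orderOf_dvd_natCard Y hm
            rcases (Nat.dvd_prime Nat.prime_five).1 hd5 with h | h
            · exact absurd (orderOf_eq_one_iff.1 h) hne
            · omega)
        obtain ⟨l, hl⟩ := Subgroup.mem_zpowers_iff.1
          (htop.symm ▸ Subgroup.mem_zpowers y : y ∈ Subgroup.zpowers ((a : T)⁻¹ * (b : T)))
        refine h3 (hself _ ?_)
        rw [← hl]
        exact (show Commute ((a : T)⁻¹ * (b : T)) (μ g) from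
          Subgroup.mem_centralizer_singleton_iff.1 hmC).zpow_left l
  -- totals
  have hsum : Nat.card (ConjClasses G) * (160 * e) ≤ ∑ g : G, w g := by
    rw [← hGcard, card_conjClasses_mul]
    exact Finset.sum_le_sum fun g _ => hw g
  have hcnt : ∀ K : Subgroup G, (Finset.univ.filter fun g => g ∈ K).card = Nat.card K := fun K => by
    rw [Nat.card_eq_fintype_card, Fintype.card_subtype]
  have hY' : Nat.card (Y.comap μ : Subgroup G) ≤ 160 := by
    have h1 := Subgroup.card_mul_index (Y.comap μ)
    rw [Subgroup.index_comap_of_surjective _ (QuotientGroup.mk'_surjective N), he, hGcard] at h1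
    have := Nat.eq_of_mul_eq_mul_right (show 0 < e by omega) h1
    omega
  have hbound : ∑ g : G, w g ≤ 2 * (160 * e) + 32 * (16 * e) + 160 * 10 + (160 * e - 160) * (16 * e) := by
    have hind : ∀ (p : G → Prop) [DecidablePred p] (c b : ℕ), Nat.card {g // p g} ≤ b →
        ∑ g : G, (if p g then c else 0) ≤ b * c := by
      intro p _ c b hb
      rw [← Finset.sum_filter, Finset.sum_const, smul_eq_mul]
      exact Nat.mul_le_mul_right c (by rwa [Nat.card_eq_fintype_card, Fintype.card_subtype] at hb)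
    have hD : Nat.card {g : G // g ∉ Y.comap μ} ≤ 160 * e - 160 := by
      have h2 := Subgroup.card_mul_index (Y.comap μ)
      rw [Subgroup.index_comap_of_surjective _ (QuotientGroup.mk'_surjective N), he, hGcard] at h2
      have h3 := Nat.eq_of_mul_eq_mul_right (show 0 < e by omega) h2
      have h4 : Nat.card {g : G // g ∈ Y.comap μ} = 160 := h3
      rw [Nat.card_eq_fintype_card] at h4
      rw [Nat.card_eq_fintype_card, Fintype.card_subtype_compl, h4, ← Nat.card_eq_fintype_card, hGcard]
    calc ∑ g : G, w g ≤ ∑ g : G, ((if g ∈ Z then 160 * e else 0) + (if g ∈ N then 16 * e else 0) +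
          (if g ∈ Y.comap μ then 10 else 0) + (if g ∉ Y.comap μ then 16 * e else 0)) := by
            refine Finset.sum_le_sum fun g _ => ?_
            simp only [w, Subgroup.mem_comap]
            split_ifs <;> omega
      _ = (∑ g : G, if g ∈ Z then 160 * e else 0) + (∑ g : G, if g ∈ N then 16 * e else 0) +
          (∑ g : G, if g ∈ Y.comap μ then 10 else 0) + (∑ g : G, if g ∉ Y.comap μ then 16 * e else 0) := by
            rw [Finset.sum_add_distrib, Finset.sum_add_distrib, Finset.sum_add_distrib]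
      _ ≤ _ := add_le_add (add_le_add (add_le_add (hind _ _ _ hZ2) (hind _ _ _ hNcard.le)) (hind _ _ _ hY'))
            (hind _ _ _ hD)
  have hfin := hsum.trans hbound
  subst hse
  interval_cases e <;> norm_num at hfin ⊢ <;> omega

end Cfsg.Lib.Linear.CoprimeTrans
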