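import Cfsg.Agent.S0899

/-!
A large Sylow subgroup with abelian centralisers is normal in small degree.
-/

set_option autoImplicit false
set_option linter.unusedSectionVars false
open Cfsg Cfsg.Lib.Char
open scoped Pointwise

namespace Cfsg.Lib.Linear.CoprimeTrans

universe u

variable {G : Type u} [Group G] [Finite G] {r : ℕ} [Fact r.Prime]

theorem sylow_centralizes
    (hC : ∀ x : G, orderOf x = r → ∀ a b : G, Commute x a → Commute x b → Commute a b) (Q : Sylow r G) :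
    ∀ x ∈ (Q : Subgroup G), x ≠ 1 → ∀ g, Commute g x → ∀ a ∈ (Q : Subgroup G), Commute g a := by
  have hr : r.Prime := Fact.out
  intro x hx hx1 g hg a ha
  haveI : Nontrivial (Q : Subgroup G) := ⟨⟨⟨x, hx⟩, 1, fun e => hx1 (congrArg Subtype.val e)⟩⟩
  haveI := Q.2.center_nontrivial
  have hab : ∀ a ∈ (Q : Subgroup G), ∀ b ∈ (Q : Subgroup G), Commute a b := by
    obtain ⟨z, hz⟩ := exists_prime_orderOf_dvd_card' r
      (show r ∣ Nat.card (Subgroup.center (Q : Subgroup G)) by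
        obtain ⟨k, hk⟩ := (Q.2.to_subgroup (Subgroup.center (Q : Subgroup G))).exists_card_eq
        rcases k with _ | k
        · rw [pow_zero] at hk
          exact absurd hk (Finite.one_lt_card (α := Subgroup.center (Q : Subgroup G))).ne'
        · rw [hk]; exact dvd_pow_self r k.succ_ne_zero)
    intro a ha b hb
    refine hC ((z : (Q : Subgroup G)) : G) (by rw [Subgroup.orderOf_coe, Subgroup.orderOf_coe]; exact hz) a b ?_ ?_
    · exact (congrArg Subtype.val (Subgroup.mem_center_iff.1 z.2 ⟨a, ha⟩)).symm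
    · exact (congrArg Subtype.val (Subgroup.mem_center_iff.1 z.2 ⟨b, hb⟩)).symm
  obtain ⟨k, hk⟩ := Q.2 ⟨x, hx⟩
  have hk' : x ^ r ^ k = 1 := congrArg Subtype.val hk
  obtain ⟨j, -, hj⟩ := (Nat.dvd_prime_pow hr).1 (orderOf_dvd_of_pow_eq_one hk')
  obtain ⟨i, rfl⟩ : ∃ i, j = i + 1 := ⟨j - 1, by
    rcases j with _ | j
    · exact absurd (orderOf_eq_one_iff.1 (by simpa using hj)) hx1
    · omega⟩
  have hy : orderOf (x ^ r ^ i) = r := by
    rw [orderOf_pow' x (pow_ne_zero i hr.ne_zero), hj, Nat.gcd_eq_right (pow_dvd_pow r (Nat.le_succ i)),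
      pow_succ, Nat.mul_div_cancel_left _ (pow_pos hr.pos i)]
  exact hC _ hy g a (hg.pow_right _).symm ((hab x hx a ha).pow_left _)

theorem sylow_normal_of_TI {n : ℕ} (ρ : Representation ℂ G (Fin n → ℂ)) (hρ : Function.Injective ρ)
    (P : Sylow r G) (hbig : (n + 1) ^ 2 ≤ Nat.card (P : Subgroup G))
    (hC : ∀ x : G, orderOf x = r → ∀ a b : G, Commute x a → Commute x b → Commute a b) :
    (P : Subgroup G).Normal := by
  classical
  have hr : r.Prime := Fact.out
  suffices key : ∀ (N : ℕ) (M : Subgroup G), Nat.card M = N → ∀ Q : Sylow r G, (Q : Subgroup G) ≤ M →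
      ∀ m ∈ M, ∀ a ∈ (Q : Subgroup G), m * a * m⁻¹ ∈ (Q : Subgroup G) from
    ⟨fun a ha g => key _ ⊤ rfl P le_top g trivial a ha⟩
  intro N
  induction N using Nat.strong_induction_on with
  | _ N ih =>
  intro M hM Q hQM
  have heq : ∀ (M' : Subgroup G), M' < M → ∀ Q₁ Q₂ : Sylow r G, (Q₁ : Subgroup G) ≤ M' →
      (Q₂ : Subgroup G) ≤ M' → Q₁ = Q₂ := by
    intro M' hlt Q₁ Q₂ h1 h2
    have hnorm : (Q₂ : Subgroup G) ≤ Subgroup.normalizer ((Q₁ : Subgroup G) : Set G) := by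
      intro y hy
      have hm := ih _ (hM ▸ Set.Finite.card_lt_card (Set.toFinite _) hlt) M' rfl Q₁ h1
      rw [Subgroup.mem_normalizer_iff]
      refine fun a => ⟨hm y (h2 hy) a, fun ha => ?_⟩
      have := hm y⁻¹ (inv_mem (h2 hy)) _ ha
      rwa [show y⁻¹ * (y * a * y⁻¹) * y⁻¹⁻¹ = a by group] at this
    exact Sylow.ext (((Q₁.3 (IsPGroup.to_sup_of_normal_right' Q₂.2 Q₁.2 hnorm) le_sup_right).symm ▸
      le_sup_left : (Q₂ : Subgroup G) ≤ Q₁).antisymm' (le_of_eq (by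
        have := Q₂.3 Q₁.2 ((Q₁.3 (IsPGroup.to_sup_of_normal_right' Q₂.2 Q₁.2 hnorm) le_sup_right).symm ▸
          le_sup_left : (Q₂ : Subgroup G) ≤ Q₁)
        exact this)))
  have hTI := sylow_centralizes hC
  by_cases hz : ∃ z ∈ (Q : Subgroup G), z ≠ 1 ∧ ∀ m ∈ M, Commute m z
  · obtain ⟨z, hzQ, hz1, hzM⟩ := hz
    intro m hm a ha
    rw [(hTI Q z hzQ hz1 m (hzM m hm) a ha).eq, mul_inv_cancel_right]
    exact ha
  push Not at hz
  haveI := Fintype.ofFinite M
  set H : Subgroup M := (Q : Subgroup G).subgroupOf M with hH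
  haveI := Fintype.ofFinite H
  have hab : ∀ a ∈ H, ∀ b ∈ H, a * b = b * a := fun a ha b hb => Subtype.ext (by
    by_cases h1 : (a : G) = 1
    · simp [h1]
    · exact (hTI Q a ha h1 a (Commute.refl _) b hb).eq)
  have hZ : H ⊓ Subgroup.center M = ⊥ := (Subgroup.eq_bot_iff_forall _).2 fun z hzm => by
    by_contra h
    obtain ⟨m, hm, hnc⟩ := hz z hzm.1 (fun e => h (Subtype.ext e))
    exact hnc (congrArg Subtype.val (Subgroup.mem_center_iff.1 hzm.2 ⟨m, hm⟩))
  have hconjM : ∀ a : M, (((a : G) • Q : Sylow r G) : Subgroup G) ≤ M := by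
    intro a y hy
    rw [Sylow.coe_subgroup_smul] at hy
    obtain ⟨x, hx, rfl⟩ := hy
    exact M.mul_mem (M.mul_mem a.2 (hQM hx)) (inv_mem a.2)
  have hmap : ∀ (a : M) (y : M), y ∈ H.map (MulAut.conj a).toMonoidHom →
      (y : G) ∈ (((a : G) • Q : Sylow r G) : Subgroup G) := by
    rintro a _ ⟨x, hx, rfl⟩
    rw [Sylow.coe_subgroup_smul]
    exact ⟨x, hx, rfl⟩
  have hmap' : ∀ (a : M) (y : M), (y : G) ∈ (((a : G) • Q : Sylow r G) : Subgroup G) →
      y ∈ H.map (MulAut.conj a).toMonoidHom := by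
    intro a y hy
    rw [Sylow.coe_subgroup_smul] at hy
    obtain ⟨x, hx, hxy⟩ := hy
    exact ⟨⟨x, hQM hx⟩, hx, Subtype.ext hxy⟩
  have hone : ∀ g : M, g ∉ Subgroup.center M → ∀ a b : M,
      Subgroup.centralizer ({g} : Set M) ⊓ H.map (MulAut.conj a).toMonoidHom ≠ ⊥ →
      Subgroup.centralizer ({g} : Set M) ⊓ H.map (MulAut.conj b).toMonoidHom ≠ ⊥ →
      H.map (MulAut.conj a).toMonoidHom = H.map (MulAut.conj b).toMonoidHom := by
    intro g hg a b ha hb
    set M' := M ⊓ Subgroup.centralizer ({(g : G)} : Set G) with hM'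
    have hle : ∀ c : M, Subgroup.centralizer ({g} : Set M) ⊓ H.map (MulAut.conj c).toMonoidHom ≠ ⊥ →
        (((c : G) • Q : Sylow r G) : Subgroup G) ≤ M' := by
      intro c hc y hy
      obtain ⟨⟨x, hxC, hxP⟩, hx1⟩ := Subgroup.ne_bot_iff_exists_ne_one.1 hc
      refine ⟨hconjM c hy, Subgroup.mem_centralizer_singleton_iff.2 ?_⟩
      exact (hTI _ (x : G) (hmap c x hxP) (fun e => hx1 (Subtype.ext (Subtype.ext e))) g
        (congrArg Subtype.val (Subgroup.mem_centralizer_singleton_iff.1 hxC)).symm y hy).eq.symm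
    have hlt : M' < M := lt_of_le_of_ne inf_le_left fun e => hg (Subgroup.mem_center_iff.2 fun m => Subtype.ext
      (Subgroup.mem_centralizer_singleton_iff.1 (e.symm.le m.2).2))
    have := heq M' hlt _ _ (hle a ha) (hle b hb)
    ext y
    exact ⟨fun h => hmap' b y (this ▸ hmap a y h), fun h => hmap' a y (this ▸ hmap b y h)⟩
  by_cases hcl : ∀ M₁ : Subgroup M, M₁.Normal → H ≤ M₁ → M₁ = ⊤
  swap
  · push Not at hcl
    obtain ⟨M₁, hn, hHM, hne⟩ := hcl
    intro m hm a ha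
    have hlt : M₁.map M.subtype < M := lt_of_le_of_ne (Subgroup.map_subtype_le _) fun e => hne (by
      refine Subgroup.map_injective M.subtype_injective (e.trans ?_)
      rw [← MonoidHom.range_eq_map, Subgroup.range_subtype])
    have h1 : (Q : Subgroup G) ≤ M₁.map M.subtype := fun y hy => ⟨⟨y, hQM hy⟩, hHM hy, rfl⟩
    have h2 : ((m • Q : Sylow r G) : Subgroup G) ≤ M₁.map M.subtype := by
      intro y hy
      rw [Sylow.coe_subgroup_smul] at hy
      obtain ⟨x, hx, rfl⟩ := hy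
      exact ⟨⟨m, hm⟩ * ⟨x, hQM hx⟩ * ⟨m, hm⟩⁻¹, hn.conj_mem _ (hHM hx) _, rfl⟩
    have e := heq _ hlt _ _ h1 h2
    rw [e, Sylow.coe_subgroup_smul]
    exact ⟨a, ha, rfl⟩
  have hχ : IsCharacter M (Representation.character (ρ.comp M.subtype : Representation ℂ M (Fin n → ℂ))) :=
    isCharacter_character _
  intro m hm a ha
  have hcomm : (⟨m, hm⟩ : M) * ⟨a, hQM ha⟩ * (⟨m, hm⟩ : M)⁻¹ * (⟨a, hQM ha⟩ : M)⁻¹ = 1 := by
    refine Subtype.ext (hρ ?_)
    have h0 := Cfsg.Agent.S0899.eq_degree hχ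
      (g := (⟨m, hm⟩ : M) * ⟨a, hQM ha⟩ * (⟨m, hm⟩ : M)⁻¹ * (⟨a, hQM ha⟩ : M)⁻¹) fun τ hτ => ?_
    · rw [Representation.char_one, character_eq_finrank_iff] at h0
      exact h0.trans (map_one ρ).symm
    by_cases hlin : (τ : M → ℂ) 1 = 1
    · obtain ⟨φ, hφ⟩ := exists_hom_of_degree_one τ.2.isCharacter hlin
      rw [hφ]
      show ((φ _ : ℂˣ) : ℂ) = (φ 1 : ℂ)
      simp only [map_mul, map_inv, map_one, mul_inv_cancel_comm, mul_inv_cancel]
    by_cases hker : ∃ h ∈ H, (τ : M → ℂ) h ≠ (τ : M → ℂ) 1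
    · exfalso
      have h2 := (Cfsg.Agent.S0898.result H hab hZ hone _ τ.2 hker).2 hlin hcl
      obtain ⟨d, hd0, hd⟩ := τ.2.exists_degree
      have hdn := Cfsg.Agent.S0899.constituent_le hχ (by rw [Representation.char_one, Module.finrank_fin_fun]) τ hτ hd
      rw [hd, Complex.natCast_re] at h2
      have h3 : Nat.card H < (1 + d) ^ 2 := by exact_mod_cast h2
      have h4 : Nat.card H = Nat.card (P : Subgroup G) := by
        rw [hH, Nat.card_congr (Subgroup.subgroupOfEquivOfLe hQM).toEquiv, Q.card_eq_multiplicity,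
          P.card_eq_multiplicity]
      have h5 := Nat.pow_le_pow_left (show 1 + d ≤ n + 1 by omega) 2
      omega
    · push Not at hker
      haveI := charKer_normal τ.2.isCharacter
      have haK : (⟨a, hQM ha⟩ : M) ∈ charKer τ.2.isCharacter := hker _ ha
      exact (charKer τ.2.isCharacter).mul_mem ((charKer_normal τ.2.isCharacter).conj_mem _ haK _) (inv_mem haK)
  have h1 : m * a * m⁻¹ * a⁻¹ = 1 := congrArg Subtype.val hcomm
  rw [mul_inv_eq_one.1 h1]
  exact ha

end Cfsg.Lib.Linear.CoprimeTrans
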