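import Cfsg.Agent.Lib.Char.LiftTrace
import Mathlib.NumberTheory.Padics.ProperSpace
import Mathlib.NumberTheory.Padics.RingHoms
import Mathlib.FieldTheory.IsAlgClosed.Classification
import Mathlib.Analysis.Complex.Polynomial.Basic
import Mathlib.Analysis.Complex.Cardinality

/-!
Groups of invertible order in `GL(d, p)` have faithful complex representations of degree `d`.
-/

set_option autoImplicit false
set_option linter.unusedSectionVars false

namespace Cfsg.Lib.Linear.CoprimeTrans

open Cardinal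

theorem exists_hom_complex (K : Type) [Field K] [CharZero K] (hK : #K ≤ 𝔠) : Nonempty (K →+* ℂ) := by
  obtain ⟨s, hs⟩ := exists_isTranscendenceBasis ℤ K
  obtain ⟨t, ht⟩ := exists_isTranscendenceBasis ℤ ℂ
  have hC : #ℂ = #t := IsAlgClosed.cardinal_eq_cardinal_transcendence_basis_of_aleph0_lt' _ ht mk_int.le
    (by rw [Cardinal.mk_complex]; exact Cardinal.aleph0_lt_continuum)
  obtain ⟨e⟩ : Nonempty (s ↪ t) := by
    rw [← Cardinal.le_def, ← hC, Cardinal.mk_complex]
    exact (mk_set_le s).trans hK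
  set A := Algebra.adjoin ℤ (Set.range (Subtype.val : s → K))
  let j : A →ₐ[ℤ] ℂ :=
    (MvPolynomial.aeval fun i : s => ((e i : t) : ℂ)).comp hs.1.aevalEquiv.symm.toAlgHom
  have hti : AlgebraicIndependent ℤ fun i : s => ((e i : t) : ℂ) := ht.1.comp e e.injective
  have hj : Function.Injective j := fun a b h => hs.1.aevalEquiv.symm.injective (hti h)
  letI : Algebra A ℂ := j.toRingHom.toAlgebra
  haveI : FaithfulSMul A ℂ := (faithfulSMul_iff_algebraMap_injective A ℂ).2 hj
  haveI : Algebra.IsAlgebraic A K := hs.isAlgebraic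
  exact ⟨(IsAlgClosed.lift : K →ₐ[A] ℂ).toRingHom⟩

theorem card_padic_le (p : ℕ) [Fact p.Prime] : #ℚ_[p] ≤ 𝔠 :=
  ((Cardinal.mk_le_of_surjective
    (f := fun s : CauSeq ℚ (padicNorm p) => (CauSeq.Completion.mk s : ℚ_[p])) fun x => by
      induction x using Quotient.inductionOn with
      | _ a => exact ⟨a, rfl⟩).trans (Cardinal.mk_subtype_le _)).trans
    (by rw [Cardinal.mk_arrow, Cardinal.lift_id, Cardinal.lift_id, Cardinal.mkRat, Cardinal.mk_nat,
      Cardinal.aleph0_power_aleph0])

variable {p : ℕ} [Fact p.Prime] {G : Type*} [Group G] [Finite G] {d : ℕ}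

theorem exists_padic_lift (hcop : ¬ p ∣ Nat.card G) (ρ : G →* GL (Fin d) (ZMod p)) :
    ∃ φ : G →* Matrix (Fin d) (Fin d) ℤ_[p],
      ∀ g, (φ g).map (PadicInt.toZMod (p := p)) = (ρ g : Matrix (Fin d) (Fin d) (ZMod p)) := by
  classical
  have hc : (Nat.card G).Coprime p := ((Fact.out : p.Prime).coprime_iff_not_dvd.2 hcop).symm
  let T := fun m : ℕ => {f : G → Matrix (Fin d) (Fin d) ℤ_[p] |
    (∀ i j, (f 1 - 1 : Matrix (Fin d) (Fin d) ℤ_[p]) i j ∈ Ideal.span {(p : ℤ_[p]) ^ (m + 1)}) ∧
    (∀ g h i j, (f (g * h) - f g * f h) i j ∈ Ideal.span {(p : ℤ_[p]) ^ (m + 1)}) ∧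
    ∀ g i j, PadicInt.toZMod (f g i j) = (ρ g : Matrix (Fin d) (Fin d) (ZMod p)) i j}
  have hclosed : ∀ m, IsClosed (T m) := by
    intro m
    have hid : IsClosed {x : ℤ_[p] | x ∈ Ideal.span {(p : ℤ_[p]) ^ (m + 1)}} := by
      simp only [← PadicInt.norm_le_pow_iff_mem_span_pow]
      exact isClosed_le continuous_norm continuous_const
    have hz : ∀ c : ZMod p, IsClosed {x : ℤ_[p] | PadicInt.toZMod x = c} := by
      intro c
      obtain ⟨y, hy⟩ := ZMod.ringHom_surjective (PadicInt.toZMod (p := p)) c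
      have : {x : ℤ_[p] | PadicInt.toZMod x = c} = {x | ‖x - y‖ < 1} := by
        ext x
        rw [Set.mem_setOf_eq, Set.mem_setOf_eq, ← hy, ← sub_eq_zero, ← map_sub, ← RingHom.mem_ker,
          PadicInt.ker_toZMod, PadicInt.maximalIdeal_eq_span_p, Ideal.mem_span_singleton, PadicInt.norm_lt_one_iff_dvd]
      rw [this]
      have h2 : {x : ℤ_[p] | ‖x - y‖ < 1} = {x | ‖x - y‖ ≤ (p : ℝ) ^ (-((1 : ℕ) : ℤ))} := by
        ext x
        rw [Set.mem_setOf_eq, Set.mem_setOf_eq, PadicInt.norm_lt_one_iff_dvd, PadicInt.norm_le_pow_iff_mem_span_pow,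
          Ideal.mem_span_singleton, pow_one]
      rw [h2]
      exact isClosed_le (continuous_id.sub continuous_const).norm continuous_const
    simp only [T, Set.setOf_and, Set.setOf_forall]
    refine IsClosed.inter ?_ (IsClosed.inter ?_ ?_)
    · exact isClosed_iInter fun i => isClosed_iInter fun j => hid.preimage (by fun_prop)
    · exact isClosed_iInter fun g => isClosed_iInter fun h => isClosed_iInter fun i => isClosed_iInter fun j =>
        hid.preimage (by fun_prop)
    · exact isClosed_iInter fun g => isClosed_iInter fun i => isClosed_iInter fun j =>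
        (hz _).preimage (by fun_prop)
  have hmono : ∀ m, T (m + 1) ⊆ T m := by
    intro m f hf
    have hle : Ideal.span {(p : ℤ_[p]) ^ (m + 1 + 1)} ≤ Ideal.span {(p : ℤ_[p]) ^ (m + 1)} :=
      Ideal.span_singleton_le_span_singleton.2 (pow_dvd_pow _ (Nat.le_succ _))
    exact ⟨fun i j => hle (hf.1 i j), fun g h i j => hle (hf.2.1 g h i j), hf.2.2⟩
  have hne : ∀ m, (T m).Nonempty := by
    intro m
    obtain ⟨φ, hφ⟩ := Cfsg.Lib.Char.LiftTrace.exists_lift p m hc ρ
    choose s hs using fun x : ZMod (p ^ (m + 1)) => ZMod.ringHom_surjective (PadicInt.toZModPow (p := p) (m + 1)) x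
    refine ⟨fun g => (φ g : Matrix (Fin d) (Fin d) (ZMod (p ^ (m + 1)))).map s, ?_, ?_, ?_⟩
    · intro i j
      dsimp only
      rw [← PadicInt.ker_toZModPow, RingHom.mem_ker, Matrix.sub_apply, map_sub, Matrix.map_apply, hs, map_one,
        Units.val_one]
      by_cases hij : i = j
      · subst hij; simp
      · simp [Matrix.one_apply_ne hij]
    · intro g h i j
      dsimp only
      rw [← PadicInt.ker_toZModPow, RingHom.mem_ker, Matrix.sub_apply, map_sub, Matrix.map_apply, hs,
        Matrix.mul_apply, map_sum, map_mul, Units.val_mul, Matrix.mul_apply, ← Finset.sum_sub_distrib]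
      refine Finset.sum_eq_zero fun l _ => ?_
      rw [map_mul, Matrix.map_apply, Matrix.map_apply, hs, hs, sub_self]
    · intro g i j
      dsimp only
      rw [Matrix.map_apply, ← hφ g, RingHom.mapMatrix_apply, Matrix.map_apply]
      conv_rhs => rw [← hs ((φ g : Matrix (Fin d) (Fin d) (ZMod (p ^ (m + 1)))) i j)]
      rw [← RingHom.comp_apply (Cfsg.Lib.Char.LiftTrace.red p m)]
      have key : ∀ x, (Cfsg.Lib.Char.LiftTrace.red p m).comp (PadicInt.toZModPow (m + 1)) x = PadicInt.toZMod x := fun x => by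
        set c := x.appr (m + 1) with hc'
        have h1 : x - (c : ℤ_[p]) ∈ Ideal.span {(p : ℤ_[p]) ^ (m + 1)} := PadicInt.appr_spec _ _
        have h2 : PadicInt.toZMod x = (c : ZMod p) := by
          rw [← sub_eq_zero, ← map_natCast (PadicInt.toZMod (p := p)), ← map_sub, ← RingHom.mem_ker,
            PadicInt.ker_toZMod, PadicInt.maximalIdeal_eq_span_p]
          exact Ideal.span_singleton_le_span_singleton.2 (dvd_pow_self _ m.succ_ne_zero) h1
        have h3 : PadicInt.toZModPow (m + 1) x = (c : ZMod (p ^ (m + 1))) := by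
          rw [← sub_eq_zero, ← map_natCast (PadicInt.toZModPow (p := p) (m + 1)), ← map_sub, ← RingHom.mem_ker,
            PadicInt.ker_toZModPow]
          exact h1
        rw [RingHom.comp_apply, h3, map_natCast, h2]
      exact (key _).symm
  haveI : CompactSpace (Matrix (Fin d) (Fin d) ℤ_[p]) :=
    inferInstanceAs (CompactSpace (Fin d → Fin d → ℤ_[p]))
  obtain ⟨f, hf⟩ := IsCompact.nonempty_iInter_of_sequence_nonempty_isCompact_isClosed T hmono hne
    (hclosed 0).isCompact hclosed
  rw [Set.mem_iInter] at hf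
  have hzero : ∀ x : ℤ_[p], (∀ m, x ∈ Ideal.span {(p : ℤ_[p]) ^ (m + 1)}) → x = 0 := by
    intro x hx
    by_contra hne0
    have hx2 := hx x.valuation
    rw [PadicInt.mem_span_pow_iff_le_valuation x hne0] at hx2
    omega
  have h1 : f 1 = 1 := Matrix.ext fun i j => sub_eq_zero.1 (hzero _ fun m => (hf m).1 i j)
  have hmul : ∀ g h, f (g * h) = f g * f h := fun g h =>
    Matrix.ext fun i j => sub_eq_zero.1 (hzero _ fun m => (hf m).2.1 g h i j)
  exact ⟨{ toFun := f, map_one' := h1, map_mul' := hmul }, fun g => Matrix.ext fun i j => (hf 0).2.2 g i j⟩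

/-- The complex representation. -/
theorem exists_complex_rep (hcop : ¬ p ∣ Nat.card G) (ρ : G →* GL (Fin d) (ZMod p))
    (hρ : Function.Injective ρ) :
    ∃ σ : Representation ℂ G (Fin d → ℂ), Function.Injective σ := by
  obtain ⟨φ, hφ⟩ := exists_padic_lift hcop ρ
  obtain ⟨τ⟩ := exists_hom_complex ℚ_[p] (card_padic_le p)
  let u : ℤ_[p] →+* ℂ := τ.comp PadicInt.Coe.ringHom
  have hu : Function.Injective u := τ.injective.comp Subtype.coe_injective
  let σ : Representation ℂ G (Fin d → ℂ) :=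
    ((Matrix.toLinAlgEquiv' (R := ℂ) (n := Fin d)).toAlgHom.toRingHom.toMonoidHom.comp
      (u.mapMatrix.toMonoidHom.comp φ))
  refine ⟨σ, fun g h e => hρ (Units.ext ?_)⟩
  have e1 : u.mapMatrix (φ g) = u.mapMatrix (φ h) := (Matrix.toLinAlgEquiv' (R := ℂ) (n := Fin d)).injective e
  have e2 : φ g = φ h := Matrix.map_injective hu e1
  rw [← hφ, ← hφ, e2]

end Cfsg.Lib.Linear.CoprimeTrans
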