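import Cfsg.Agent.S4230
import Mathlib.NumberTheory.Multiplicity
import Mathlib.RingTheory.Polynomial.Cyclotomic.Eval
import Mathlib.RingTheory.Polynomial.Cyclotomic.Expand

/-!
Prime powers whose primitive part is built from `d + 1` and `2d + 1`.
-/

set_option autoImplicit false
set_option linter.unusedSectionVars false

namespace Cfsg.Lib.Linear.CoprimeTrans

open Finset

def wNum (n : ℕ) : ℕ := if 3 ∣ n then 16 else 1
def wDen (n : ℕ) : ℕ := (if 2 ∣ n then 8 else 1) * if 3 ∣ n then 27 else 1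

theorem wNum_mul {a b : ℕ} (h : Nat.Coprime a b) : wNum (a * b) = wNum a * wNum b := by
  unfold wNum
  simp only [Nat.prime_three.dvd_mul]
  by_cases ha : 3 ∣ a <;> by_cases hb : 3 ∣ b <;> simp [ha, hb]
  exact absurd (Nat.dvd_gcd ha hb) (by rw [h.gcd_eq_one]; norm_num)

theorem wDen_mul {a b : ℕ} (h : Nat.Coprime a b) : wDen (a * b) = wDen a * wDen b := by
  unfold wDen
  have h2 : ¬ (2 ∣ a ∧ 2 ∣ b) := fun hc => absurd (Nat.dvd_gcd hc.1 hc.2) (by rw [h.gcd_eq_one]; norm_num)
  have h3 : ¬ (3 ∣ a ∧ 3 ∣ b) := fun hc => absurd (Nat.dvd_gcd hc.1 hc.2) (by rw [h.gcd_eq_one]; norm_num)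
  simp only [Nat.prime_three.dvd_mul, Nat.prime_two.dvd_mul]
  by_cases ha : 2 ∣ a <;> by_cases hb : 2 ∣ b <;> by_cases hc : 3 ∣ a <;> by_cases hd : 3 ∣ b <;>
    first
      | exact (h2 (And.intro ha hb)).elim
      | exact (h3 (And.intro hc hd)).elim
      | simp [ha, hb, hc, hd]

theorem totient_bound (n : ℕ) : wNum n * n ^ 3 ≤ wDen n * n.totient ^ 4 := by
  induction n using Nat.recOnPrimeCoprime with
  | zero => simp
  | prime_pow p k hp =>
    rcases Nat.eq_zero_or_pos k with rfl | hk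
    · simp [wNum, wDen]
    rw [Nat.totient_prime_pow hp hk]
    obtain ⟨j, rfl⟩ : ∃ j, k = j + 1 := ⟨k - 1, by omega⟩
    rw [Nat.add_sub_cancel]
    have hdvd : ∀ {r : ℕ}, r.Prime → (r ∣ p ^ (j + 1) ↔ r = p) := fun {r} hr =>
      ⟨fun h => (Nat.prime_dvd_prime_iff_eq hr hp).1 (hr.dvd_of_dvd_pow h), fun h => h ▸ dvd_pow_self _ j.succ_ne_zero⟩
    unfold wNum wDen
    simp only [hdvd Nat.prime_two, hdvd Nat.prime_three]
    have hj : (p ^ j) ^ 3 ≤ (p ^ j) ^ 4 := Nat.pow_le_pow_right (pow_pos hp.pos j) (by norm_num)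
    rw [pow_succ p j, mul_pow, mul_pow]
    by_cases h2 : 2 = p
    · subst h2
      simp only [if_true, if_neg (show ¬ (3 = 2) by norm_num)]
      omega
    by_cases h3 : 3 = p
    · subst h3
      simp only [if_true, if_neg (show ¬ (2 = 3) by norm_num)]
      omega
    simp only [if_neg h2, if_neg h3, mul_one, one_mul]
    refine Nat.mul_le_mul hj ?_
    have : 5 ≤ p := by
      have := hp.two_le
      by_contra h
      interval_cases p <;> first | omega | (norm_num at hp)
    obtain ⟨q, rfl⟩ : ∃ q, p = q + 5 := ⟨p - 5, by omega⟩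
    rw [show q + 5 - 1 = q + 4 by omega]
    nlinarith [sq_nonneg q, Nat.zero_le (q ^ 3), Nat.zero_le (q ^ 4)]
  | coprime a b _ _ hab iha ihb =>
    rw [Nat.totient_mul hab, wNum_mul hab, wDen_mul hab]
    calc wNum a * wNum b * (a * b) ^ 3 = (wNum a * a ^ 3) * (wNum b * b ^ 3) := by ring
      _ ≤ (wDen a * a.totient ^ 4) * (wDen b * b.totient ^ 4) := Nat.mul_le_mul iha ihb
      _ = _ := by ring

theorem cube_le_totient (n : ℕ) : 2 * n ^ 3 ≤ 27 * n.totient ^ 4 := by
  have h := totient_bound n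
  unfold wNum wDen at h
  split_ifs at h <;> omega

/-- The excess allowed for the cyclotomic value. -/
def cycBound (d : ℕ) : ℕ := d * (d + 1) * (2 * d + 1)

theorem table₁ : ∀ d < 165, 3 ≤ d → 2 ^ d.totient < cycBound d → cycBound d ≤ 24 ^ d.totient := by
  unfold cycBound
  decide +kernel

/-- The small pairs left by the search. -/
def leftover : List (ℕ × ℕ) := [(3, 4), (3, 6), (5, 6), (17, 6), (3, 18)]

/-- The test run on a pair. -/
def pairTest (p d : ℕ) : Bool :=
  !(decide ((p - 1) ^ d.totient < cycBound d) &&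
    decide (p ^ d - 1 ∣ cycBound d * ∏ e ∈ d.properDivisors, (p ^ e - 1))) || leftover.contains (p, d)

theorem table₂ : ((List.range 165).filter fun d => decide (3 ≤ d) && decide (2 ^ d.totient < cycBound d)).all
    (fun d => [3, 5, 7, 11, 13, 17, 19, 23].all fun p => pairTest p d) = true := by
  decide +kernel

theorem numeric {p d : ℕ} (hp : p.Prime) (hp2 : p ≠ 2) (hd : 3 ≤ d)
    (h : ∀ r : ℕ, r.Prime → r ∣ p ^ d - 1 → (∀ k, 0 < k → k < d → ¬ r ∣ p ^ k - 1) →
      (r = d + 1 ∨ r = 2 * d + 1) ∧ ¬ r ^ 2 ∣ p ^ d - 1) :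
    (p = 3 ∧ d = 4) ∨ (p = 3 ∧ d = 6) ∨ (p = 5 ∧ d = 6) ∨ (p = 17 ∧ d = 6) ∨ (p = 3 ∧ d = 18) := by
  classical
  have hp3 : 3 ≤ p := by have := hp.two_le; omega
  have hodd : p % 2 = 1 := hp.eq_two_or_odd.resolve_left hp2
  set Φ := ((Polynomial.cyclotomic d ℤ).eval (p : ℤ)).natAbs with hΦ
  have hlow : (p - 1) ^ d.totient < Φ :=
    Polynomial.sub_one_pow_totient_lt_natAbs_cyclotomic_eval (n := d) (q := p) (by omega) (by omega)
  have hcast : ∀ e : ℕ, ((p ^ e - 1 : ℕ) : ℤ) = (p : ℤ) ^ e - 1 := fun e => by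
    rw [Nat.cast_sub (Nat.one_le_pow _ _ hp.pos)]; simp
  have hΦdvd : Φ ∣ p ^ d - 1 := by
    rw [hΦ, ← Int.ofNat_dvd, Int.natAbs_dvd, hcast]
    simpa using Polynomial.eval_dvd (x := (p : ℤ)) (Polynomial.cyclotomic.dvd_X_pow_sub_one d ℤ)
  -- multiples of a non-primitive prime
  have hgeom : ∀ e ∈ d.properDivisors, (Φ : ℤ) ∣ ∑ i ∈ range (d / e), ((p : ℤ) ^ e) ^ i := by
    intro e he
    obtain ⟨hed, hlt⟩ := Nat.mem_properDivisors.1 he
    have h1 := Polynomial.eval_dvd (x := (p : ℤ))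
      (Polynomial.X_pow_sub_one_mul_cyclotomic_dvd_X_pow_sub_one_of_dvd ℤ he)
    simp only [Polynomial.eval_mul, Polynomial.eval_sub, Polynomial.eval_pow, Polynomial.eval_X,
      Polynomial.eval_one] at h1
    rw [show (p : ℤ) ^ d = ((p : ℤ) ^ e) ^ (d / e) by rw [← pow_mul, Nat.mul_div_cancel' hed],
      ← geom_sum_mul ((p : ℤ) ^ e) (d / e), mul_comm _ ((p : ℤ) ^ e - 1)] at h1
    have he0 : e ≠ 0 := fun h0 => by rw [h0, Nat.zero_dvd] at hed; omega
    have hne : (p : ℤ) ^ e - 1 ≠ 0 := by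
      have : 1 < (p : ℤ) ^ e := one_lt_pow₀ (by exact_mod_cast hp.one_lt) he0
      omega
    rw [hΦ, Int.natAbs_dvd]
    exact (mul_dvd_mul_iff_left hne).1 h1
  have hnp : ∀ r : ℕ, r.Prime → r ∣ Φ → (∃ k, 0 < k ∧ k < d ∧ r ∣ p ^ k - 1) → r ∣ d ∧ ¬ r ^ 2 ∣ Φ := by
    intro r hr hrΦ ⟨k, hk0, hkd, hk⟩
    haveI := Fact.mk hr
    have hrp : ¬ r ∣ p := fun h' => by
      have h1 : r ∣ p ^ k := dvd_pow h' hk0.ne'
      have h2 := Nat.dvd_sub h1 hk
      rw [Nat.sub_sub_self (Nat.one_le_pow _ _ hp.pos)] at h2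
      exact hr.ne_one (Nat.dvd_one.1 h2)
    have hone : ∀ m, r ∣ p ^ m - 1 ↔ (p : ZMod r) ^ m = 1 := fun m => by
      rw [← ZMod.natCast_eq_zero_iff, Nat.cast_sub (Nat.one_le_pow _ _ hp.pos), sub_eq_zero, Nat.cast_pow,
        Nat.cast_one]
    set e := orderOf (p : ZMod r) with he
    have hed : e ∣ d := orderOf_dvd_of_pow_eq_one ((hone d).1 (hrΦ.trans hΦdvd))
    have hek : e ≤ k := Nat.le_of_dvd hk0 (orderOf_dvd_of_pow_eq_one ((hone k).1 hk))
    have hmem : e ∈ d.properDivisors := Nat.mem_properDivisors.2 ⟨hed, by omega⟩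
    have hsum := (Int.natCast_dvd_natCast.2 hrΦ).trans (hgeom e hmem)
    rw [← ZMod.intCast_zmod_eq_zero_iff_dvd] at hsum
    push_cast at hsum
    rw [he, pow_orderOf_eq_one] at hsum
    simp only [one_pow, Finset.sum_const, Finset.card_range, nsmul_eq_mul, mul_one] at hsum
    rw [← he, ZMod.natCast_eq_zero_iff] at hsum
    have hrd : r ∣ d := hsum.trans (Nat.div_dvd_of_dvd hed)
    refine ⟨hrd, fun hsq => ?_⟩
    rcases hr.eq_two_or_odd' with rfl | hrodd
    · -- `r = 2`
      by_cases h4 : 4 ∣ d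
      · have hmem' : d / 2 ∈ d.properDivisors :=
          Nat.mem_properDivisors.2 ⟨Nat.div_dvd_of_dvd hrd, Nat.div_lt_self (by omega) one_lt_two⟩
        have h1 := (Int.natCast_dvd_natCast.2 hsq).trans (hgeom _ hmem')
        rw [Nat.div_div_self hrd (by omega), Finset.sum_range_succ, Finset.sum_range_one, pow_zero, pow_one] at h1
        obtain ⟨m, hm⟩ := h4
        rw [show d / 2 = 2 * m by omega] at h1
        have h2 : ((p : ℤ) ^ m) ^ 2 % 4 = 1 := Int.sq_mod_four_eq_one_of_odd (Odd.pow (by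
          exact_mod_cast Nat.odd_iff.2 hodd))
        rw [← pow_mul, mul_comm m 2] at h2
        norm_num at h1
        omega
      · have hmem' : 2 ∈ d.properDivisors := Nat.mem_properDivisors.2 ⟨hrd, by omega⟩
        have h1 := (Int.natCast_dvd_natCast.2 hrΦ).trans (hgeom _ hmem')
        rw [← ZMod.intCast_zmod_eq_zero_iff_dvd] at h1
        push_cast at h1
        have hp1 : (p : ZMod 2) = 1 := by rw [← ZMod.natCast_mod, hodd, Nat.cast_one]
        rw [hp1] at h1
        simp only [one_pow, Finset.sum_const, Finset.card_range, nsmul_eq_mul, mul_one] at h1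
        rw [ZMod.natCast_eq_zero_iff] at h1
        exact h4 (by
          have h3 := Nat.mul_dvd_mul_left 2 h1
          rwa [Nat.mul_div_cancel' hrd] at h3)
    · have hr2 : r ≠ 2 := fun h' => by rw [h'] at hrodd; exact absurd hrodd (by decide)
      obtain ⟨j, hj⟩ := (Cfsg.Agent.S4230.result r p d hr hr2 hrp).1 (by
        rw [← Int.dvd_natAbs]; exact_mod_cast hrΦ)
      rw [← he] at hj
      obtain ⟨i, rfl⟩ : ∃ i, j = i + 1 := ⟨j - 1, by
        rcases j with _ | j
        · rw [pow_zero, mul_one] at hj; omega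
        · omega⟩
      set x : ℤ := (p : ℤ) ^ (e * r ^ i) with hx
      have hmem' : e * r ^ i ∈ d.properDivisors := by
        rw [Nat.mem_properDivisors]
        refine ⟨⟨r, by rw [hj, pow_succ, mul_assoc]⟩, ?_⟩
        have h0 : 0 < e * r ^ i := Nat.pos_of_ne_zero fun h0 => by
          rw [pow_succ, ← mul_assoc, h0, zero_mul] at hj; omega
        rw [hj, pow_succ, ← mul_assoc]
        exact lt_mul_of_one_lt_right h0 hr.one_lt
      have h2 := (Int.natCast_dvd_natCast.2 hsq).trans (hgeom _ hmem')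
      have hdiv : d / (e * r ^ i) = r := by
        refine Nat.div_eq_of_eq_mul_left (Nat.pos_of_ne_zero fun h0 => ?_) (by rw [hj, pow_succ]; ring)
        rw [pow_succ, ← mul_assoc, h0, zero_mul] at hj; omega
      rw [hdiv, ← hx] at h2
      obtain ⟨t, ht⟩ : (r : ℤ) ∣ x - 1 := by
        rw [← ZMod.intCast_zmod_eq_zero_iff_dvd]
        push_cast
        rw [hx, sub_eq_zero]
        push_cast
        rw [pow_mul, he, pow_orderOf_eq_one, one_pow]
      have h4 := odd_sq_dvd_geom_sum₂_sub (a := (1 : ℤ)) (b := t) (p := r) hrodd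
      rw [show (1 : ℤ) + r * t = x by rw [← ht]; ring] at h4
      simp only [one_pow, mul_one] at h4
      push_cast at h2
      have h5 := Int.dvd_sub h2 h4
      rw [sub_sub_cancel] at h5
      have h6 : r ^ 2 ∣ r := by exact_mod_cast h5
      have := Nat.le_of_dvd hr.pos h6
      nlinarith [hr.two_le]
  have hloc : ∀ r : ℕ, r.Prime → r ∣ Φ → r ∣ cycBound d ∧ ¬ r ^ 2 ∣ Φ := by
    intro r hr hrΦ
    by_cases hnpr : ∃ k, 0 < k ∧ k < d ∧ r ∣ p ^ k - 1
    · obtain ⟨h1, h2⟩ := hnp r hr hrΦ hnpr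
      exact ⟨(h1.mul_right _).mul_right _, h2⟩
    · obtain ⟨h1, h2⟩ := h r hr (hrΦ.trans hΦdvd) fun k hk0 hkd hk => hnpr ⟨k, hk0, hkd, hk⟩
      refine ⟨?_, fun hs => h2 (hs.trans hΦdvd)⟩
      rcases h1 with e | e <;> rw [e, cycBound]
      · exact (dvd_mul_left _ _).mul_right _
      · exact dvd_mul_left _ _
  have hΦ0 : Φ ≠ 0 := fun h0 => by rw [h0] at hlow; exact Nat.not_lt_zero _ hlow
  have hΦK : Φ ∣ cycBound d := by
    have hsqf : Squarefree Φ := Nat.squarefree_iff_prime_squarefree.2 fun r hr hd' =>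
      (hloc r hr ((dvd_mul_right r r).trans hd')).2 (by rwa [sq])
    rw [← Nat.prod_primeFactors_of_squarefree hsqf]
    exact Finset.prod_primes_dvd _ (fun r hr => (Nat.prime_of_mem_primeFactors hr).prime)
      fun r hr => (hloc r (Nat.prime_of_mem_primeFactors hr) (Nat.dvd_of_mem_primeFactors hr)).1
  have hK0 : 0 < cycBound d := Nat.mul_pos (Nat.mul_pos (by omega) (by omega)) (by omega)
  have hpK : (p - 1) ^ d.totient < cycBound d := hlow.trans_le (Nat.le_of_dvd hK0 hΦK)
  have h2K : 2 ^ d.totient < cycBound d := (Nat.pow_le_pow_left (by omega) _).trans_lt hpK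
  have hd165 : d < 165 := by
    have hB : cycBound d ≤ 4 * d ^ 3 := by unfold cycBound; nlinarith [Nat.mul_le_mul_left (d * d) hd, Nat.mul_le_mul_left d hd]
    have hc := cube_le_totient d
    set φ := d.totient
    have hφ : φ ≤ 24 := by
      by_contra hlt
      obtain ⟨m, hm⟩ : ∃ m, φ = 25 + m := ⟨φ - 25, by omega⟩
      have key : ∀ m : ℕ, 54 * (25 + m) ^ 4 ≤ 2 ^ (25 + m) := by
        intro m
        induction m with
        | zero => norm_num
        | succ i ih =>
          rw [show 25 + (i + 1) = (25 + i) + 1 by omega, pow_succ 2 (25 + i)]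
          nlinarith [sq_nonneg i, Nat.zero_le (i ^ 3), Nat.zero_le (i ^ 4)]
      have := key m
      rw [← hm] at this
      omega
    have := Nat.pow_le_pow_left hφ 4
    by_contra hlt
    have := Nat.pow_le_pow_left (show 165 ≤ d by omega) 3
    omega
  have h24 := table₁ d hd165 hd h2K
  have hp25 : p < 25 := by
    by_contra hge
    have := Nat.pow_le_pow_left (show 24 ≤ p - 1 by omega) d.totient
    omega
  have hdiv : p ^ d - 1 ∣ cycBound d * ∏ e ∈ d.properDivisors, (p ^ e - 1) := by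
    rw [← Int.natCast_dvd_natCast, Nat.cast_mul, Nat.cast_prod, hcast]
    simp only [hcast]
    have h1 := congrArg (Polynomial.eval (p : ℤ))
      (Polynomial.prod_cyclotomic_eq_X_pow_sub_one (show 0 < d by omega) ℤ)
    rw [← Nat.cons_self_properDivisors (by omega), Finset.prod_cons, Polynomial.eval_mul, Polynomial.eval_prod] at h1
    simp only [Polynomial.eval_sub, Polynomial.eval_pow, Polynomial.eval_X, Polynomial.eval_one] at h1
    rw [← h1]
    refine mul_dvd_mul ?_ (Finset.prod_dvd_prod_of_dvd _ _ fun e he => ?_)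
    · rw [← Int.natAbs_dvd]; exact Int.natCast_dvd_natCast.2 hΦK
    · simpa using Polynomial.eval_dvd (x := (p : ℤ)) (Polynomial.cyclotomic.dvd_X_pow_sub_one e ℤ)
  have hmem : p ∈ [3, 5, 7, 11, 13, 17, 19, 23] := by
    interval_cases p <;> first | (norm_num; done) | (exfalso; omega) | (exfalso; norm_num at hp; done)
  have htest := List.all_eq_true.1 (List.all_eq_true.1 table₂ d (List.mem_filter.2
    ⟨List.mem_range.2 hd165, by simp [hd, h2K]⟩)) p hmem
  simp only [pairTest, hpK, hdiv, decide_true, Bool.and_self, Bool.not_true, Bool.false_or,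
    List.contains_iff_mem] at htest
  simpa [leftover] using htest

end Cfsg.Lib.Linear.CoprimeTrans
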