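import Cfsg.Agent.Lib.Linear.CoprimeTrans.Partition
import Cfsg.Agent.Lib.Recog.Icosahedral

/-!
Finite subgroups of `GL(2, F)` of order invertible in the finite field `F`.
-/

set_option autoImplicit false
set_option linter.unusedSectionVars false

namespace Cfsg.Lib.Linear.CoprimeTrans

universe u

theorem solvable_ext {H : Type u} [Group H] (A : Subgroup H) [A.Normal] (h1 : Group.IsSolvable A)
    (h2 : Group.IsSolvable (H ⧸ A)) : Group.IsSolvable H :=
  Group.isSolvable_of_ker_le_range A.subtype (QuotientGroup.mk' A)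
    (by rw [QuotientGroup.ker_mk', Subgroup.range_subtype])

theorem solvable_quot_center {H : Type u} [Group H] [Finite H] {n : ℕ}
    (h : Nat.card H = Nat.card (Subgroup.center H) * n) (hn : n < 60) : Group.IsSolvable H :=
  solvable_ext _ (Group.isSolvable_of_comm fun a b => Subtype.ext (Subgroup.mem_center_iff.1 b.2 a))
    (Cfsg.Lib.Recog.Icosa.solvable_of_lt_sixty n _ (Nat.eq_of_mul_eq_mul_left Nat.card_pos (by
      rw [← h, ← Subgroup.index_eq_card, mul_comm, Subgroup.index_mul_card])) hn)

variable {F : Type*} [Field F] [Finite F] {V : Type*} [AddCommGroup V] [Module F V] [FiniteDimensional F V]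
  {G : Type u} [Group G] [Finite G] (ρ : G →* Module.End F V)
  (hρ : Function.Injective ρ) (hd : Module.finrank F V = 2) (hchar : (Nat.card G : F) ≠ 0)

theorem exists_pair {φ : Module.End F V} (h : ∀ c : F, φ ≠ c • (1 : Module.End F V)) :
    ∃ v : V, LinearIndependent F ![v, φ v] := by
  by_contra hcon
  push Not at hcon
  have h1 : ∀ v : V, ∃ c : F, φ v = c • v := fun v => by
    by_cases hv : v = 0
    · exact ⟨0, by rw [hv, map_zero, smul_zero]⟩
    have h2 := hcon v
    rw [LinearIndependent.pair_iff' hv] at h2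
    push Not at h2
    obtain ⟨c, hc⟩ := h2
    exact ⟨c, hc.symm⟩
  obtain ⟨c, hc⟩ := LinearMap.exists_eq_smul_id_of_forall_notLinearIndependent fun v => hcon v
  exact h c hc

include hd in
theorem eq_of_pair {φ : Module.End F V} {v : V} (hli : LinearIndependent F ![v, φ v]) {X Y : Module.End F V}
    (h1 : X v = Y v) (h2 : X (φ v) = Y (φ v)) : X = Y := by
  refine LinearMap.ext_on (hli.span_eq_top_of_card_eq_finrank (by rw [Fintype.card_fin, hd])) ?_
  rintro _ ⟨i, rfl⟩
  fin_cases i
  · exact h1
  · exact h2

include hd in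
theorem commutant_eq {φ : Module.End F V} {v : V} (hli : LinearIndependent F ![v, φ v]) {ψ : Module.End F V}
    (hc : Commute φ ψ) : ∃ a b : F, ψ = a • (1 : Module.End F V) + b • φ := by
  have hs : Submodule.span F (Set.range ![v, φ v]) = ⊤ :=
    hli.span_eq_top_of_card_eq_finrank (by rw [Fintype.card_fin, hd])
  obtain ⟨c, hcv⟩ := Submodule.mem_span_range_iff_exists_fun F |>.1 (hs.symm ▸ Submodule.mem_top (x := ψ v))
  simp only [Fin.sum_univ_two, Matrix.cons_val_zero, Matrix.cons_val_one] at hcv
  refine ⟨c 0, c 1, eq_of_pair hd hli ?_ ?_⟩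
  · simp [← hcv]
  · have := congrArg (fun f : Module.End F V => f v) hc.eq
    simp only [Module.End.mul_apply] at this
    rw [← this, ← hcv]
    simp

include hd in
theorem exists_quadratic {φ : Module.End F V} {v : V} (hli : LinearIndependent F ![v, φ v]) :
    ∃ t d : F, φ * φ = t • φ - d • (1 : Module.End F V) := by
  obtain ⟨a, b, hab⟩ := commutant_eq hd hli ((Commute.refl φ).mul_right (Commute.refl φ))
  exact ⟨b, -a, by rw [hab]; module⟩

include hρ hd

theorem nonscalar {g : G} (hg : g ∉ Subgroup.center G) (c : F) : ρ g ≠ c • (1 : Module.End F V) := fun h =>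
  hg (Subgroup.mem_center_iff.2 fun x => hρ (by rw [map_mul, map_mul, h]; simp [mul_smul_comm]))

theorem centralizer_comm : ∀ g : G, g ∉ Subgroup.center G → ∀ a b : G, Commute g a → Commute g b → Commute a b := by
  intro g hg a b ha hb
  obtain ⟨v, hv⟩ := exists_pair (nonscalar ρ hρ hd hg)
  obtain ⟨a0, a1, ea⟩ := commutant_eq hd hv (ha.map ρ)
  obtain ⟨b0, b1, eb⟩ := commutant_eq hd hv (hb.map ρ)
  refine hρ ?_
  rw [map_mul, map_mul, ea, eb]
  simp only [add_mul, mul_add, smul_mul_smul_comm, one_mul, mul_one]
  module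

/-- Scalar central elements. -/
theorem center_scalar (hna : Subgroup.center G ≠ ⊤) {z : G} (hz : z ∈ Subgroup.center G) :
    ∃ c : F, ρ z = c • (1 : Module.End F V) := by
  by_contra hcon
  push Not at hcon
  obtain ⟨v, hv⟩ := exists_pair hcon
  refine hna ((Subgroup.eq_top_iff' _).2 fun x => Subgroup.mem_center_iff.2 fun y => hρ ?_)
  obtain ⟨a0, a1, ea⟩ := commutant_eq hd hv ((show Commute z x from (Subgroup.mem_center_iff.1 hz x).symm).map ρ)
  obtain ⟨b0, b1, eb⟩ := commutant_eq hd hv ((show Commute z y from (Subgroup.mem_center_iff.1 hz y).symm).map ρ)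
  rw [map_mul, map_mul, ea, eb]
  simp only [add_mul, mul_add, smul_mul_smul_comm, one_mul, mul_one]
  module

theorem card_center_lt (hna : Subgroup.center G ≠ ⊤) : Nat.card (Subgroup.center G) + 1 ≤ Nat.card F := by
  classical
  haveI := Fintype.ofFinite F
  haveI : Nontrivial V := Module.nontrivial_of_finrank_pos (R := F) (by rw [hd]; norm_num)
  choose c hc using fun z : Subgroup.center G => center_scalar ρ hρ hd hna z.2
  have hinj : Function.Injective c := fun x y h => Subtype.ext (hρ (by rw [hc, hc, h]))
  have h0 : ∀ z, c z ≠ 0 := fun z h => by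
    have h1 : ρ ((z : G) * (z : G)⁻¹) = 1 := by rw [mul_inv_cancel, map_one]
    rw [map_mul, hc, h, zero_smul, zero_mul] at h1
    exact zero_ne_one h1
  have := Nat.card_le_card_of_injective (fun z => (⟨c z, h0 z⟩ : {x : F // x ≠ 0}))
    (fun x y h => hinj (congrArg Subtype.val h))
  rw [Nat.card_eq_fintype_card (α := {x : F // x ≠ 0}), Fintype.card_subtype_compl, Fintype.card_subtype_eq,
    ← Nat.card_eq_fintype_card] at this
  have := Nat.card_pos (α := Subgroup.center G)
  omega

include hchar

/-- A non-central element is semisimple. -/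
theorem semisimple {g : G} (hg : g ∉ Subgroup.center G) (r : F) :
    (ρ g - r • (1 : Module.End F V)) * (ρ g - r • (1 : Module.End F V)) ≠ 0 := by
  intro hN
  set N := ρ g - r • (1 : Module.End F V) with hNdef
  have hg' : ρ g = r • (1 : Module.End F V) + N := by rw [hNdef]; abel
  have hpow : ∀ m : ℕ, ρ g ^ (m + 1) = r ^ (m + 1) • (1 : Module.End F V) + (((m + 1 : ℕ) : F) * r ^ m) • N := by
    intro m
    induction m with
    | zero => simp [hg']
    | succ m ih =>
      rw [pow_succ, ih, hg']
      simp only [add_mul, mul_add, smul_mul_assoc, mul_smul_comm, one_mul, mul_one, hN, smul_zero, add_zero]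
      push_cast
      module
  have hN0 : N ≠ 0 := fun h => nonscalar ρ hρ hd hg r (by rw [hg', h, add_zero])
  obtain ⟨m, hm⟩ : ∃ m, Nat.card G = m + 1 := ⟨Nat.card G - 1, by have := Nat.card_pos (α := G); omega⟩
  have h1 := hpow m
  rw [← hm, ← map_pow, pow_card_eq_one', map_one] at h1
  have h2 : (((Nat.card G : ℕ) : F) * r ^ m) • N = 0 := by
    have h3 := congrArg (fun X => X * N) h1
    simp only [add_mul, one_mul, smul_mul_assoc, hN, smul_zero, add_zero] at h3
    have h5 : r ^ Nat.card G = 1 := by
      refine smul_left_injective F hN0 ?_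
      simpa using h3.symm
    rw [h5, one_smul] at h1
    exact left_eq_add.1 h1
  have hr : r = 0 := by
    rcases smul_eq_zero.1 h2 with h | h
    · rcases mul_eq_zero.1 h with h | h
      · exact absurd h hchar
      · exact eq_zero_of_pow_eq_zero h
    · exact absurd h hN0
  subst hr
  rw [zero_smul, zero_add] at hg'
  refine hN0 ?_
  have h4 : ρ g * ρ g⁻¹ = 1 := by rw [← map_mul, mul_inv_cancel, map_one]
  calc N = N * (ρ g * ρ g⁻¹) := by rw [h4, mul_one]
    _ = (N * N) * ρ g⁻¹ := by rw [hg', mul_assoc]
    _ = 0 := by rw [hN, zero_mul]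

theorem normalizer_le (g : G) (hg : g ∉ Subgroup.center G) :
    Nat.card (Subgroup.normalizer ((Subgroup.centralizer ({g} : Set G) : Subgroup G) : Set G)) ≤
      2 * Nat.card (Subgroup.centralizer ({g} : Set G)) := by
  classical
  haveI := Fintype.ofFinite F
  obtain ⟨v, hv⟩ := exists_pair (nonscalar ρ hρ hd hg)
  obtain ⟨t, d, hq⟩ := exists_quadratic hd hv
  set φ := ρ g with hφ
  have hdisc : (2 : F) = 0 → t ≠ 0 := by
    intro h2 ht
    haveI : CharP F 2 := CharTwo.of_one_ne_zero_of_two_eq_zero one_ne_zero h2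
    obtain ⟨r, hr⟩ := FiniteField.isSquare_of_char_two (ringChar.eq F 2) (-d)
    refine semisimple ρ hρ hd hchar hg r ?_
    rw [← hφ]
    have : (φ - r • (1 : Module.End F V)) * (φ - r • 1) = φ * φ - (2 * r) • φ + (r * r) • (1 : Module.End F V) := by
      simp only [sub_mul, mul_sub, smul_mul_assoc, mul_smul_comm, one_mul, mul_one]
      module
    rw [this, hq, ht, h2, show r * r = d by linear_combination -hr - d * h2]
    module
  set N := Subgroup.normalizer ((Subgroup.centralizer ({g} : Set G) : Subgroup G) : Set G)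
  have himg : ∀ x : N, ρ ((x : G) * g * (x : G)⁻¹) = φ ∨
      ρ ((x : G) * g * (x : G)⁻¹) = t • (1 : Module.End F V) - φ := by
    intro x
    have hmem : (x : G) * g * (x : G)⁻¹ ∈ Subgroup.centralizer ({g} : Set G) :=
      (Subgroup.mem_normalizer_iff.1 x.2 g).1 (Subgroup.mem_centralizer_singleton_iff.2 rfl)
    obtain ⟨a, b, hy⟩ := commutant_eq hd hv
      ((show Commute g _ from (Subgroup.mem_centralizer_singleton_iff.1 hmem).symm).map ρ)
    have hb : b ≠ 0 := fun h => by
      rw [h, zero_smul, add_zero] at hy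
      refine nonscalar ρ hρ hd (not_mem_center_conj (x := (x : G)) hg) a hy
    have hqy : ρ ((x : G) * g * (x : G)⁻¹) * ρ ((x : G) * g * (x : G)⁻¹) =
        t • ρ ((x : G) * g * (x : G)⁻¹) - d • (1 : Module.End F V) := by
      have hxx : ρ (x : G) * ρ (x : G)⁻¹ = 1 := by rw [← map_mul, mul_inv_cancel, map_one]
      calc _ = ρ (x : G) * (φ * φ) * ρ (x : G)⁻¹ := by
            rw [← map_mul, hφ, ← map_mul, ← map_mul, ← map_mul]; congr 1; group
        _ = _ := by
            rw [hq, mul_sub, sub_mul, mul_smul_comm, smul_mul_assoc, mul_smul_comm, smul_mul_assoc, mul_one, hxx,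
              hφ, ← map_mul, ← map_mul]
    have he1 : (b * (2 * a + b * t - t)) • φ + (a * a - b * b * d - t * a + d) • (1 : Module.End F V) = 0 := by
      rw [hy] at hqy
      simp only [add_mul, mul_add, smul_mul_smul_comm, one_mul, mul_one, hq] at hqy
      rw [← sub_eq_zero] at hqy
      rw [← hqy]
      module
    have he2 := congrArg (fun X : Module.End F V => X v) he1
    simp only [LinearMap.add_apply, LinearMap.smul_apply, Module.End.one_apply, LinearMap.zero_apply] at he2
    obtain ⟨h0, h1⟩ := (LinearIndependent.pair_iff.1 hv) (a * a - b * b * d - t * a + d)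
      (b * (2 * a + b * t - t)) (by rw [add_comm]; exact he2)
    have h1' : 2 * a + b * t - t = 0 := (mul_eq_zero.1 h1).resolve_left hb
    have key : (1 - b * b) * (4 * d - t * t) = 0 := by linear_combination 4 * h0 - (2 * a - t - b * t) * h1'
    rw [hy]
    by_cases h2 : (2 : F) = 0
    · have hb1 : b = 1 := by
        refine mul_right_cancel₀ (hdisc h2) ?_
        linear_combination h1' - a * h2
      have ha : a * (a - t) = 0 := by rw [hb1] at h0; linear_combination h0
      rcases mul_eq_zero.1 ha with ha | ha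
      · left; rw [ha, hb1]; module
      · right
        rw [sub_eq_zero.1 ha, hb1]
        have : (-1 : F) = 1 := by linear_combination -h2
        rw [sub_eq_add_neg, ← neg_one_smul F φ, this]
    · have hne : 4 * d - t * t ≠ 0 := by
        intro h
        refine semisimple ρ hρ hd hchar hg (t / 2) ?_
        rw [← hφ]
        have e : (φ - (t / 2) • (1 : Module.End F V)) * (φ - (t / 2) • 1) =
            φ * φ - (2 * (t / 2)) • φ + ((t / 2) * (t / 2)) • (1 : Module.End F V) := by
          simp only [sub_mul, mul_sub, smul_mul_assoc, mul_smul_comm, one_mul, mul_one]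
          module
        rw [e, hq, mul_div_cancel₀ t h2, show t / 2 * (t / 2) = d by field_simp; linear_combination -h]
        module
      rcases mul_self_eq_one_iff.1 (show b * b = 1 by
        linear_combination -((mul_eq_zero.1 key).resolve_right hne)) with hb1 | hb1
      · left
        have ha : a = 0 := by
          have : 2 * a = 0 := by rw [hb1] at h1'; linear_combination h1'
          exact (mul_eq_zero.1 this).resolve_left h2
        rw [ha, hb1]; module
      · right
        have ha : a = t := by
          refine mul_left_cancel₀ h2 ?_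
          rw [hb1] at h1'; linear_combination h1'
        rw [ha, hb1]; module
  haveI : Fintype N := Fintype.ofFinite _
  let T : Finset G := Set.toFinite {y : G | ρ y = φ ∨ ρ y = t • (1 : Module.End F V) - φ} |>.toFinset
  have hT : T.card ≤ 2 := by
    refine (Finset.card_le_card_of_injOn ρ (t := {φ, t • (1 : Module.End F V) - φ}) ?_ hρ.injOn).trans
      Finset.card_le_two
    intro y hy
    simpa [T] using hy
  have hmap := Finset.card_le_mul_card_image_of_maps_to (f := fun x : N => (x : G) * g * (x : G)⁻¹)
    (s := (Finset.univ : Finset N)) (t := T) (fun x _ => by simpa [T] using himg x)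
    (Nat.card (Subgroup.centralizer ({g} : Set G))) fun y _ => ?_
  · rw [Finset.card_univ, ← Nat.card_eq_fintype_card] at hmap
    calc _ ≤ _ := hmap
      _ ≤ Nat.card (Subgroup.centralizer ({g} : Set G)) * 2 := Nat.mul_le_mul_left _ hT
      _ = _ := mul_comm _ _
  · rcases Finset.eq_empty_or_nonempty ((Finset.univ : Finset N).filter
        fun x : N => (x : G) * g * (x : G)⁻¹ = y) with h | ⟨x₀, hx₀⟩
    · rw [h]; simp
    rw [← Fintype.card_coe, ← Nat.card_eq_fintype_card]
    refine Nat.card_le_card_of_injective (fun x => (⟨(x₀ : G)⁻¹ * ((x : N) : G), ?_⟩ :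
      Subgroup.centralizer ({g} : Set G))) fun x x' h => ?_
    · have e1 := (Finset.mem_filter.1 hx₀).2
      have e2 := (Finset.mem_filter.1 x.2).2
      rw [Subgroup.mem_centralizer_singleton_iff]
      calc (x₀ : G)⁻¹ * ((x : N) : G) * g = (x₀ : G)⁻¹ * (((x : N) : G) * g * ((x : N) : G)⁻¹) * ((x : N) : G) := by
            group
        _ = (x₀ : G)⁻¹ * ((x₀ : G) * g * (x₀ : G)⁻¹) * ((x : N) : G) := by rw [e1, e2]
        _ = g * ((x₀ : G)⁻¹ * ((x : N) : G)) := by group
    · exact Subtype.ext (Subtype.ext (mul_left_cancel (congrArg Subtype.val h)))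

/-- The configurations of a non-abelian group. -/
theorem configurations (hna : Subgroup.center G ≠ ⊤) :
    (∃ g : G, g ∉ Subgroup.center G ∧ 2 * Nat.card (Subgroup.centralizer ({g} : Set G)) = Nat.card G ∧
      2 * Nat.card (ConjClasses G) =
        Nat.card (Subgroup.centralizer ({g} : Set G)) + 3 * Nat.card (Subgroup.center G)) ∨
    ∃ n c : ℕ, ((n = 12 ∧ c = 7) ∨ (n = 24 ∧ c = 8) ∨ (n = 60 ∧ c = 9)) ∧
      Nat.card G = Nat.card (Subgroup.center G) * n ∧
      2 * Nat.card (ConjClasses G) = c * Nat.card (Subgroup.center G) :=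
  partition (centralizer_comm ρ hρ hd) (normalizer_le ρ hρ hd hchar) hna

theorem isSolvable_or_sixty : Group.IsSolvable G ∨ 60 ∣ Nat.card G := by
  by_cases hna : Subgroup.center G = ⊤
  · exact Or.inl (Group.isSolvable_of_comm fun a b => Subgroup.mem_center_iff.1 (hna ▸ trivial) a)
  rcases configurations ρ hρ hd hchar hna with ⟨g, hg, hA, -⟩ | ⟨n, c, hnc, hG, -⟩
  · left
    set A := Subgroup.centralizer ({g} : Set G)
    have hi : A.index = 2 := by
      have h := A.index_mul_card
      rw [← hA] at h
      exact Nat.eq_of_mul_eq_mul_right Nat.card_pos h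
    haveI := Subgroup.normal_of_index_eq_two hi
    have h1 : Group.IsSolvable A := Group.isSolvable_of_comm fun a b => Subtype.ext
      (centralizer_comm ρ hρ hd g hg a b (Eq.symm (Subgroup.mem_centralizer_singleton_iff.1 a.2))
        (Eq.symm (Subgroup.mem_centralizer_singleton_iff.1 b.2))).eq
    have h2 : Group.IsSolvable (G ⧸ A) :=
      Cfsg.Lib.Recog.Icosa.solvable_of_lt_sixty 2 _ (by rw [← Subgroup.index_eq_card, hi]) (by norm_num)
    exact solvable_ext A h1 h2
  · rcases hnc with ⟨rfl, -⟩ | ⟨rfl, -⟩ | ⟨rfl, -⟩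
    · left
      exact solvable_quot_center hG (by norm_num)
    · left
      exact solvable_quot_center hG (by norm_num)
    · exact Or.inr ⟨Nat.card (Subgroup.center G), by rw [hG, mul_comm]⟩

/-- The class number bound in the transitive case. -/
theorem two_dim_bound (hna : Subgroup.center G ≠ ⊤) {s : ℕ}
    (hcard : Nat.card G = s * (Nat.card F ^ 2 - 1))
    (hstab : ∀ v : V, v ≠ 0 → Nat.card {g : G // ρ g v = v} = s) :
    Nat.card (ConjClasses G) + s ≤ Nat.card F ^ 2 ∧
      (Nat.card (ConjClasses G) + s = Nat.card F ^ 2 → Nat.card F = 3 ∧ Nat.card G = 16) := by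
  classical
  haveI := Fintype.ofFinite F
  have hz := card_center_lt ρ hρ hd hna
  set q := Nat.card F with hq
  have hq2 : 2 ≤ q := Finite.one_lt_card
  have hqz : (q : F) = 0 := by rw [hq, Nat.card_eq_fintype_card, Nat.cast_card_eq_zero]
  rcases configurations ρ hρ hd hchar hna with ⟨g, hg, hA, hk⟩ | ⟨n, c, hnc, hG, hk⟩
  · set A := Subgroup.centralizer ({g} : Set G)
    obtain ⟨v, hv⟩ := exists_pair (nonscalar ρ hρ hd hg)
    have hv0 : v ≠ 0 := fun h => by
      have := hv.ne_zero 0
      simp [h] at this
    have hle : Nat.card A + 1 ≤ Nat.card V := by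
      have hinv : ∀ a : G, ρ a v ≠ 0 := fun a h => hv0 (by
        have : ρ a⁻¹ (ρ a v) = v := by rw [← Module.End.mul_apply, ← map_mul, inv_mul_cancel, map_one]; rfl
        rw [← this, h, map_zero])
      haveI : Finite V := Module.finite_of_finite F
      haveI : Fintype V := Fintype.ofFinite V
      have := Nat.card_le_card_of_injective (fun a : A => (⟨ρ a v, hinv a⟩ : {w : V // w ≠ 0})) fun a b h => by
        have h' : ρ (a : G) v = ρ (b : G) v := congrArg Subtype.val h
        refine Subtype.ext (hρ (eq_of_pair hd hv h' ?_))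
        have ha := congrArg (fun X : Module.End F V => X v)
          ((show Commute g a from Eq.symm (Subgroup.mem_centralizer_singleton_iff.1 a.2)).map ρ).eq
        have hb := congrArg (fun X : Module.End F V => X v)
          ((show Commute g b from Eq.symm (Subgroup.mem_centralizer_singleton_iff.1 b.2)).map ρ).eq
        simp only [Module.End.mul_apply] at ha hb
        rw [← ha, ← hb, h']
      rw [Nat.card_eq_fintype_card (α := {w : V // w ≠ 0}), Fintype.card_subtype_compl, Fintype.card_subtype_eq,
        ← Nat.card_eq_fintype_card] at this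
      have := Nat.card_pos (α := V)
      omega
    rw [Module.natCard_eq_pow_finrank (K := F) (V := V), hd, ← hq] at hle
    obtain ⟨M, hM⟩ : ∃ M, q ^ 2 = M + 1 := ⟨q ^ 2 - 1, by have := Nat.one_le_pow 2 q (by omega); omega⟩
    rw [hM, Nat.add_sub_cancel] at hcard
    have hs : s ≤ 2 := by
      by_contra h
      have := Nat.mul_le_mul_right M (show 3 ≤ s by omega)
      have hM3 : 3 ≤ M := by nlinarith
      omega
    have hq3 : 3 ≤ q := by
      by_contra h
      have hq' : q = 2 := by omega
      refine hchar ?_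
      rw [hq'] at hqz
      rw [← hA, Nat.cast_mul, hqz, zero_mul]
    have hmul : s * M ≤ 2 * M := Nat.mul_le_mul_right M hs
    have h8 : 6 * q ≤ 2 * q ^ 2 := by nlinarith
    refine ⟨by omega, fun he => ?_⟩
    have h9 : 2 * q ^ 2 = 6 * q := by omega
    have hq' : q = 3 := by nlinarith
    refine ⟨hq', ?_⟩
    have hM8 : M = 8 := by rw [hq'] at hM; norm_num at hM; omega
    rw [hM8] at hcard; rw [hq'] at hle
    rw [hq'] at he hz
    norm_num at he hle
    interval_cases s <;> omega
  · have hs1 : s * (q + 1) ≤ n := by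
      refine Nat.le_of_mul_le_mul_left ?_ (show 0 < q - 1 by omega)
      calc (q - 1) * (s * (q + 1)) = s * ((q + 1) * (q - 1)) := by ring
        _ = s * (q ^ 2 - 1) := by rw [← Nat.sq_sub_sq, one_pow]
        _ ≤ (q - 1) * n := by rw [← hcard, hG]; exact Nat.mul_le_mul_right n (by omega)
    have hne : ∀ p, p ∣ n → (p : F) = 0 → False := fun p hp h => hchar (by
      obtain ⟨r, hr⟩ := hp
      rw [hG, hr, Nat.cast_mul, Nat.cast_mul, h, zero_mul, mul_zero])
    have h2n : 2 ∣ n := by rcases hnc with h | h | h <;> rw [h.1] <;> norm_num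
    have h3n : 3 ∣ n := by rcases hnc with h | h | h <;> rw [h.1] <;> norm_num
    have hq5 : 5 ≤ q := by
      by_contra h
      interval_cases q
      · exact hne 2 h2n hqz
      · exact hne 3 h3n hqz
      · refine hne 2 h2n (mul_self_eq_zero.1 ?_)
        rw [← hqz]; norm_num
    have hfin : 2 * (Nat.card (ConjClasses G) + s) < 2 * q ^ 2 := by
      rcases hnc with ⟨rfl, rfl⟩ | ⟨rfl, rfl⟩ | ⟨rfl, rfl⟩
      · nlinarith
      · nlinarith
      · have : 7 ≤ q := by
          by_contra h
          interval_cases q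
          · exact hne 5 (by norm_num) hqz
          · rcases mul_eq_zero.1 (show ((2 : ℕ) : F) * ((3 : ℕ) : F) = 0 by rw [← hqz]; norm_num) with h | h
            · exact hne 2 h2n h
            · exact hne 3 h3n h
        nlinarith
    exact ⟨by omega, fun he => by omega⟩

end Cfsg.Lib.Linear.CoprimeTrans
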