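import Cfsg.Agent.Lib.Linear.CoprimeTrans.LemmaA
import Cfsg.Agent.Lib.Linear.CoprimeTrans.LemmaB
import Cfsg.Agent.Lib.Linear.CoprimeTrans.Lift
import Cfsg.Agent.Lib.Linear.CoprimeTrans.Numeric
import Cfsg.Agent.Lib.Linear.CoprimeTrans.TwoDim
import Cfsg.Agent.Lib.Recog.SolvTrans.Main
import Cfsg.Agent.S0205
import Cfsg.Agent.S0144

/-!
Transitive linear groups of order prime to the characteristic are solvable from dimension three on.
-/

set_option autoImplicit false
set_option linter.unusedSectionVars false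
open Cfsg Cfsg.Lib.Char Cfsg.Lib.Recog.SolvTrans

namespace Cfsg.Lib.Linear.CoprimeTrans

universe u

theorem solvable_of_normal_cyclic {H : Type u} [Group H] [Finite H] (Q : Subgroup H) [Q.Normal]
    (hQ : IsCyclic Q) (hC : Group.IsSolvable (Subgroup.centralizer (Q : Set H))) : Group.IsSolvable H := by
  letI : CommGroup (MulAut Q) := { (inferInstance : Group (MulAut Q)) with
    mul_comm := fun a b => (IsCyclic.mulAutMulEquiv Q).injective (by rw [map_mul, map_mul, mul_comm]) }
  refine Group.isSolvable_of_ker_le_range (Subgroup.centralizer (Q : Set H)).subtype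
    (MulAut.conjNormal : H →* MulAut Q) fun x hx => ?_
  rw [Subgroup.range_subtype]
  intro y hy
  have h1 := congrArg (fun f : MulAut Q => ((f ⟨y, hy⟩ : Q) : H)) hx
  simp only [MulAut.conjNormal_apply, MulAut.one_apply] at h1
  exact (mul_inv_eq_iff_eq_mul.1 h1).symm

theorem sylow_comm {G : Type u} [Group G] [Finite G] {n : ℕ} (ρ : Representation ℂ G (Fin n → ℂ))
    (hρ : Function.Injective ρ) {r : ℕ} [hr : Fact r.Prime] (hn : n < r) (P : Sylow r G) :
    ∀ a ∈ (P : Subgroup G), ∀ b ∈ (P : Subgroup G), a * b = b * a := by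
  classical
  intro a ha b hb
  haveI := Fintype.ofFinite (P : Subgroup G)
  have hχP : IsCharacter (P : Subgroup G)
      (Representation.character (ρ.comp (P : Subgroup G).subtype : Representation ℂ (P : Subgroup G) (Fin n → ℂ))) :=
    isCharacter_character _
  let a' : (P : Subgroup G) := ⟨a, ha⟩
  let b' : (P : Subgroup G) := ⟨b, hb⟩
  have h0 := Cfsg.Agent.S0899.eq_degree hχP (g := a' * b' * a'⁻¹ * b'⁻¹) fun τ hτ => ?_
  · rw [Representation.char_one, character_eq_finrank_iff] at h0
    have h1 : a * b * a⁻¹ * b⁻¹ = 1 := hρ (h0.trans (map_one ρ).symm)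
    rwa [mul_inv_eq_one, mul_inv_eq_iff_eq_mul] at h1
  obtain ⟨d, hd0, hd⟩ := τ.2.exists_degree
  have hdn := Cfsg.Agent.S0899.constituent_le hχP (by rw [Representation.char_one, Module.finrank_fin_fun]) τ hτ hd
  obtain ⟨k, hk⟩ := P.2.exists_card_eq
  obtain ⟨j, -, hj⟩ := (Nat.dvd_prime_pow hr.out).mp (hk ▸ degree_dvd_card τ.2 hd)
  have hd1 : d = 1 := by
    rcases j.eq_zero_or_pos with rfl | hj0
    · rwa [pow_zero] at hj
    · have := Nat.le_of_dvd hd0 (hj ▸ dvd_pow_self r hj0.ne')
      omega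
  obtain ⟨φ, hφ⟩ := exists_hom_of_degree_one τ.2.isCharacter (by rw [hd, hd1, Nat.cast_one])
  rw [hφ]
  show ((φ _ : ℂˣ) : ℂ) = (φ 1 : ℂ)
  simp only [map_mul, map_inv, map_one, mul_inv_cancel_comm, mul_inv_cancel]

variable {q : ℕ} [Fact q.Prime] {V : Type*} [AddCommGroup V] [Module (ZMod q) V] [Finite V] [Nontrivial V]
  {G : Type u} [Group G] [Finite G] {ι : G →* Module.End (ZMod q) V}
  (hι : Function.Injective ι)

include hι

theorem commute_of_irred {x : G} (hx : IrredElem ι x) {a b : G} (ha : Commute x a) (hb : Commute x b) :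
    Commute a b := by
  obtain ⟨v, hv⟩ := exists_ne (0 : V)
  let L : Polynomial (ZMod q) →ₗ[ZMod q] V :=
    { toFun := fun f => Polynomial.aeval (ι x) f v
      map_add' := fun f g => by simp
      map_smul' := fun c f => by simp }
  have hW : LinearMap.range L = ⊤ := by
    refine (hx (LinearMap.range L) ?_).resolve_left fun h => hv ?_
    · rintro _ ⟨f, rfl⟩
      exact ⟨Polynomial.X * f, by simp [L]⟩
    · have : L 1 ∈ LinearMap.range L := ⟨1, rfl⟩
      rw [h, Submodule.mem_bot] at this
      simpa [L] using this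
  have key : ∀ c : G, Commute x c → ∃ f : Polynomial (ZMod q), Polynomial.aeval (ι x) f = ι c := by
    intro c hc
    obtain ⟨f, hf⟩ := (hW.symm ▸ Submodule.mem_top : ι c v ∈ LinearMap.range L)
    refine ⟨f, LinearMap.ext fun w => ?_⟩
    obtain ⟨g, rfl⟩ := (hW.symm ▸ Submodule.mem_top : w ∈ LinearMap.range L)
    have hcg : Commute (ι c) (Polynomial.aeval (ι x) g) :=
      Algebra.commute_of_mem_adjoin_singleton_of_commute (Polynomial.aeval_mem_adjoin_singleton _ _) (hc.symm.map ι)
    change Polynomial.aeval (ι x) f (Polynomial.aeval (ι x) g v) = ι c (Polynomial.aeval (ι x) g v)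
    change Polynomial.aeval (ι x) f v = ι c v at hf
    rw [← Module.End.mul_apply, ← Module.End.mul_apply, hcg.eq, ← map_mul, mul_comm, map_mul,
      Module.End.mul_apply, Module.End.mul_apply]
    exact congrArg _ hf
  obtain ⟨f, hf⟩ := key a ha
  obtain ⟨g, hg⟩ := key b hb
  exact hι (by rw [map_mul, map_mul, ← hf, ← hg, ← map_mul, ← map_mul, mul_comm])

/-- An abelian group with field-like algebra is cyclic. -/
theorem isCyclic_of_fieldLike {A : Subgroup G} (hA : ∀ a ∈ A, ∀ b ∈ A, a * b = b * a)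
    (hf : FieldLike (alg ι A)) : IsCyclic A := by
  have hF := exists_field hA hf
  letI : Field (alg ι A) := hF.toField
  let φ : A →* alg ι A :=
    { toFun := fun a => ⟨ι a, mem_alg a.2⟩
      map_one' := Subtype.ext (map_one ι)
      map_mul' := fun a b => Subtype.ext (map_mul ι _ _) }
  exact isCyclic_of_subgroup_isDomain φ fun a b h => Subtype.ext (hι (congrArg Subtype.val h))

theorem isSolvable_of_normal_irred (Q : Subgroup G) [Q.Normal] (hQ : ∀ a ∈ Q, ∀ b ∈ Q, a * b = b * a)
    {x : G} (hxQ : x ∈ Q) (hx : IrredElem ι x) : Group.IsSolvable G := by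
  refine solvable_of_normal_cyclic Q (isCyclic_of_fieldLike hι hQ ?_) (Group.isSolvable_of_comm fun a b => Subtype.ext
    (commute_of_irred hι hx (a.2 x hxQ) (b.2 x hxQ)).eq)
  intro φ hφ hφ0
  have hc : Commute (ι x) φ := commute_alg (fun a ha => (show Commute x a from hQ x hxQ a ha).map ι) hφ
  rcases hx (LinearMap.ker φ) (fun v hv => by
    rw [LinearMap.mem_ker] at hv ⊢
    rw [← Module.End.mul_apply, ← hc.eq, Module.End.mul_apply, hv, map_zero]) with h | h
  · exact LinearMap.ker_eq_bot.1 h
  · exact absurd (LinearMap.ker_eq_top.1 h) hφ0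

variable (htrans : Trans ι) (hcop : ¬ q ∣ Nat.card G)

include htrans hcop

theorem exists_rep : ∃ σ : Representation ℂ G (Fin (Module.finrank (ZMod q) V) → ℂ), Function.Injective σ := by
  classical
  let e := (LinearMap.toMatrixAlgEquiv (Module.finBasis (ZMod q) V)).toMulEquiv.toMonoidHom.comp ι
  refine exists_complex_rep hcop e.toHomUnits fun a b h => hι ?_
  exact (LinearMap.toMatrixAlgEquiv (Module.finBasis (ZMod q) V)).injective (congrArg Units.val h)

/-- A normal Sylow subgroup for a prime larger than the dimension gives a field. -/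
theorem sylow_field {r : ℕ} [Fact r.Prime] (hdr : Module.finrank (ZMod q) V < r) (P : Sylow r G)
    [(P : Subgroup G).Normal] (hrG : r ∣ Nat.card G) :
    (∀ a ∈ (P : Subgroup G), ∀ b ∈ (P : Subgroup G), a * b = b * a) ∧
      FieldLike (alg ι (P : Subgroup G)) ∧
      r ∣ q ^ Module.finrank (ZMod q) (alg ι (P : Subgroup G)) - 1 := by
  classical
  obtain ⟨σ, hσ⟩ := exists_rep hι htrans hcop
  have hab := sylow_comm σ hσ hdr P
  have hf : FieldLike (alg ι (P : Subgroup G)) :=
    fieldLike_of_transitive htrans hab fun h => hcop (h.trans (Subgroup.card_subgroup_dvd_card _))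
  refine ⟨hab, hf, ?_⟩
  obtain ⟨y, hy⟩ := exists_prime_orderOf_dvd_card' r (P.dvd_card_of_dvd_card hrG)
  haveI : Finite (Module.End (ZMod q) V) := Finite.of_injective _ DFunLike.coe_injective
  letI : Field (alg ι (P : Subgroup G)) := (exists_field hab hf).toField
  haveI := Fintype.ofFinite (alg ι (P : Subgroup G))
  have hy0 : (⟨ι y, mem_alg y.2⟩ : alg ι (P : Subgroup G)) ≠ 0 := fun h => by
    have h1 : ι (y : G) = 0 := congrArg Subtype.val h
    have h2 : ι ((y : G) * (y : G)⁻¹) = 1 := by rw [mul_inv_cancel, map_one]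
    rw [map_mul, h1, zero_mul] at h2
    exact zero_ne_one h2
  have hp := congrArg Subtype.val (FiniteField.pow_card_sub_one_eq_one _ hy0)
  rw [SubmonoidClass.coe_pow, ← Nat.card_eq_fintype_card, Module.natCard_eq_pow_finrank (K := ZMod q),
    Nat.card_zmod, ← map_pow] at hp
  have hyo : orderOf (y : G) = r := (Subgroup.orderOf_coe y).trans hy
  exact hyo.symm.dvd.trans (orderOf_dvd_of_pow_eq_one (hι (hp.trans (map_one ι).symm)))

theorem isSolvable_six {r : ℕ} [Fact r.Prime] (hd : Module.finrank (ZMod q) V = 6) (hdr : 6 < r)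
    (hrG : r ∣ Nat.card G) (P : Sylow r G) [(P : Subgroup G).Normal]
    (h12 : ¬ r ∣ q ^ 1 - 1 ∧ ¬ r ∣ q ^ 2 - 1) (hq : q = 3 ∨ q = 5 ∨ q = 17) : Group.IsSolvable G := by
  classical
  obtain ⟨hab, hf, hrm⟩ := sylow_field hι htrans hcop (hd ▸ hdr) P hrG
  haveI : Finite (Module.End (ZMod q) V) := Finite.of_injective _ DFunLike.coe_injective
  set K := alg ι (P : Subgroup G) with hK
  letI : Field K := (exists_field hab hf).toField
  haveI : Finite K := inferInstance
  have htower : Module.finrank (ZMod q) K * Module.finrank K V = 6 := hd ▸ Module.finrank_mul_finrank (ZMod q) K V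
  refine solvable_of_normal_cyclic (P : Subgroup G) (isCyclic_of_fieldLike hι hab hf) ?_
  set C := Subgroup.centralizer ((P : Subgroup G) : Set G)
  have hcomm : ∀ (c : C) (k : K), Commute (ι c) (k : Module.End (ZMod q) V) := fun c k =>
    commute_alg (fun a ha => (show Commute (c : G) a from (c.2 a ha).symm).map ι) k.2
  let ρ : C →* Module.End K V :=
    { toFun := fun c =>
        { toFun := fun v => ι (c : G) v
          map_add' := map_add _
          map_smul' := fun k v => congrArg (fun f : Module.End (ZMod q) V => f v) (hcomm c k).eq }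
      map_one' := LinearMap.ext fun v => congrArg (fun f : Module.End (ZMod q) V => f v) (map_one ι)
      map_mul' := fun a b => LinearMap.ext fun v => congrArg (fun f : Module.End (ZMod q) V => f v) (map_mul ι (a : G) b) }
  have hρ : Function.Injective ρ := fun a b h => Subtype.ext (hι (LinearMap.ext fun v =>
    congrArg (fun f : Module.End K V => f v) h))
  have hm3 : Module.finrank (ZMod q) K = 3 ∨ Module.finrank (ZMod q) K = 6 := by
    obtain ⟨m, hm⟩ : ∃ m, Module.finrank (ZMod q) K = m := ⟨_, rfl⟩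
    rw [hm] at hrm htower ⊢
    have hle : m ≤ 6 := Nat.le_of_dvd (by norm_num) ⟨_, htower.symm⟩
    have hdvd : m ∣ 6 := ⟨_, htower.symm⟩
    interval_cases m <;> first | omega | exact absurd hrm h12.1 | exact absurd hrm h12.2
  rcases hm3 with hm | hm <;> rw [hm] at htower
  swap
  · have h1 : Module.finrank K V = 1 := by omega
    refine Group.isSolvable_of_comm fun a b => hρ ?_
    obtain ⟨v, hv, hspan⟩ := finrank_eq_one_iff'.1 h1
    refine LinearMap.ext fun w => ?_
    obtain ⟨k, rfl⟩ := hspan w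
    obtain ⟨ka, hka⟩ := hspan (ρ a v)
    obtain ⟨kb, hkb⟩ := hspan (ρ b v)
    simp only [map_mul, Module.End.mul_apply, map_smul, ← hka, ← hkb, smul_smul, mul_comm ka kb]
  have h2 : Module.finrank K V = 2 := by omega
  have hcard : Nat.card K = q ^ 3 := by rw [Module.natCard_eq_pow_finrank (K := ZMod q), hm, Nat.card_zmod]
  haveI : CharP K q := charP_of_injective_algebraMap (algebraMap (ZMod q) K).injective q
  have hCG : Nat.card C ∣ Nat.card G := Subgroup.card_subgroup_dvd_card _
  rcases isSolvable_or_sixty ρ hρ h2 (fun h => hcop (((CharP.cast_eq_zero_iff K q _).1 h).trans hCG)) with h | h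
  · exact h
  exfalso
  rcases hq with rfl | rfl | rfl
  · exact hcop ((Dvd.dvd.trans (by norm_num) h).trans hCG)
  · exact hcop ((Dvd.dvd.trans (by norm_num) h).trans hCG)
  · haveI : Fact (Nat.Prime 5) := ⟨by norm_num⟩
    obtain ⟨c, hc⟩ := exists_prime_orderOf_dvd_card' 5 ((Dvd.dvd.trans (by norm_num) h) : 5 ∣ Nat.card C)
    haveI : Fintype V := Fintype.ofFinite V
    let f : Function.End V := fun v => ρ c v
    have hfi : ∀ (i : ℕ) (v : V), (f ^ i) v = (ρ c ^ i) v := by
      intro i
      induction i with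
      | zero => intro v; rfl
      | succ i ih => intro v; rw [pow_succ', pow_succ']; exact congrArg (ρ c) (ih v)
    have hf5 : f ^ 5 ^ 1 = 1 := funext fun v => by
      rw [pow_one, hfi, ← map_pow, ← hc, pow_orderOf_eq_one, map_one]; rfl
    have hmod := Equiv.Perm.card_fixedPoints_modEq hf5
    rw [← Nat.card_eq_fintype_card, ← Nat.card_eq_fintype_card] at hmod
    set W : Submodule K V := LinearMap.eqLocus (ρ c) 1
    have hW : Nat.card (Function.fixedPoints f) = Nat.card W := Nat.card_congr (Equiv.subtypeEquivRight fun v =>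
      (LinearMap.mem_eqLocus (f := ρ c) (g := 1) (x := v)).symm)
    haveI : FiniteDimensional K V := Module.Finite.of_finite
    rw [hW, Module.natCard_eq_pow_finrank (K := K) (V := V), Module.natCard_eq_pow_finrank (K := K) (V := W),
      hcard, h2] at hmod
    have hle := Submodule.finrank_le W
    rw [h2] at hle
    obtain ⟨j, hj⟩ : ∃ j, Module.finrank K W = j := ⟨_, rfl⟩
    rw [hj] at hle hmod
    interval_cases j
    · exact absurd hmod (by decide)
    · exact absurd hmod (by decide)
    · have htop : W = ⊤ := Submodule.eq_top_of_finrank_eq (by rw [hj, h2])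
      have : c = 1 := hρ (by
        rw [map_one]; exact LinearMap.ext fun v => LinearMap.mem_eqLocus.1 (htop ▸ Submodule.mem_top : v ∈ W))
      rw [this, orderOf_one] at hc
      norm_num at hc

/-- The theorem. -/
theorem isSolvable_of_large (hd : 3 ≤ Module.finrank (ZMod q) V) : Group.IsSolvable G := by
  classical
  by_cases hq2 : q = 2
  · subst hq2
    exact Cfsg.Agent.S0205.result (Nat.odd_iff.2 (Nat.two_dvd_ne_zero.1 hcop))
  set d := Module.finrank (ZMod q) V with hdd
  obtain ⟨σ, hσ⟩ := exists_rep hι htrans hcop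
  have hdvdG : q ^ d - 1 ∣ Nat.card G := dvd_card htrans
  by_cases hsolv : ∃ (r : ℕ) (_ : Fact r.Prime) (P : Sylow r G), r ∣ q ^ d - 1 ∧
      (∀ k, 0 < k → k < d → ¬ r ∣ q ^ k - 1) ∧ (P : Subgroup G).Normal
  · obtain ⟨r, hr, P, hrd, hppd, hn⟩ := hsolv
    obtain ⟨hdr, -⟩ := lt_of_ppd hr.out (by omega) hrd hppd
    obtain ⟨hab, -, -⟩ := sylow_field hι htrans hcop hdr P (hrd.trans hdvdG)
    obtain ⟨y, hy⟩ := exists_prime_orderOf_dvd_card' r (P.dvd_card_of_dvd_card (hrd.trans hdvdG))
    exact isSolvable_of_normal_irred hι (P : Subgroup G) hab y.2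
      (irred_of_ppd hι hr.out (by rw [Subgroup.orderOf_coe]; exact hy) hrd hppd)
  push Not at hsolv
  have hcases := numeric (Fact.out : q.Prime) hq2 hd fun r hr hrd hppd => by
    haveI := Fact.mk hr
    obtain ⟨hdr, j, hj⟩ := lt_of_ppd hr (by omega) hrd hppd
    obtain ⟨P⟩ := (inferInstance : Nonempty (Sylow r G))
    have hnn := hsolv r ⟨hr⟩ P hrd hppd
    refine ⟨?_, fun hsq => hnn ?_⟩
    · by_contra h
      push Not at h
      have hj3 : 3 ≤ j := by
        by_contra hlt
        interval_cases j <;> omega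
      have := Nat.mul_le_mul_left d hj3
      exact hnn (sylow_normal σ hσ (by omega) (Or.inl (by omega)) P)
    · refine sylow_normal_of_TI σ hσ P ?_ fun x hx a b ha hb =>
        commute_of_irred hι (irred_of_ppd hι hr hx hrd hppd) ha hb
      exact (Nat.pow_le_pow_left (show d + 1 ≤ r by omega) 2).trans
        (Nat.le_of_dvd Nat.card_pos (P.pow_dvd_card_of_pow_dvd_card (hsq.trans hdvdG)))
  rcases hcases with ⟨rfl, h4⟩ | ⟨rfl, h6⟩ | ⟨rfl, h6⟩ | ⟨rfl, h6⟩ | ⟨rfl, h18⟩
  · -- `3 ^ 4`
    haveI : Fact (Nat.Prime 13) := ⟨by norm_num⟩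
    have h13 : ¬ 13 ∣ Nat.card G := by
      intro h13
      obtain ⟨P⟩ := (inferInstance : Nonempty (Sylow 13 G))
      haveI := sylow_normal σ hσ (r := 13) (by norm_num) (Or.inl (by omega)) P
      obtain ⟨hab, hf, hrm⟩ := sylow_field hι htrans hcop (r := 13) (by omega) P h13
      haveI : Finite (Module.End (ZMod 3) V) := Finite.of_injective _ DFunLike.coe_injective
      letI : Field (alg ι (P : Subgroup G)) := (exists_field hab hf).toField
      have htower := Module.finrank_mul_finrank (ZMod 3) (alg ι (P : Subgroup G)) V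
      obtain ⟨m, hm⟩ : ∃ m, Module.finrank (ZMod 3) (alg ι (P : Subgroup G)) = m := ⟨_, rfl⟩
      rw [← hdd, h4, hm] at htower
      rw [hm] at hrm
      have hdvd : m ∣ 4 := ⟨_, htower.symm⟩
      have := Nat.le_of_dvd (by norm_num) hdvd
      interval_cases m <;> first | omega | norm_num at hrm | norm_num at hdvd
    have hgl := card_dvd_gl hι (n := 4) h4
    norm_num [Fin.prod_univ_four] at hgl
    have hco : Nat.Coprime (Nat.card G) (3 ^ 6 * 13) :=
      Nat.Coprime.mul_right (((Nat.prime_three.coprime_iff_not_dvd).2 hcop).symm.pow_right 6)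
        ((Nat.Prime.coprime_iff_not_dvd (by norm_num : Nat.Prime 13)).2 h13).symm
    have h25 : Nat.card G ∣ 2 ^ 9 * 5 :=
      hco.dvd_of_dvd_mul_right (by norm_num; exact hgl)
    obtain ⟨a, b, ha, hb, hab⟩ := Nat.dvd_mul.1 h25
    obtain ⟨i, -, rfl⟩ := (Nat.dvd_prime_pow Nat.prime_two).1 ha
    obtain ⟨j, -, rfl⟩ := (Nat.dvd_prime_pow (Nat.prime_five)).1 (show b ∣ 5 ^ 1 by simpa using hb)
    exact Cfsg.Agent.S0144.result 2 5 i j Nat.prime_two Nat.prime_five hab.symm
  · haveI : Fact (Nat.Prime 13) := ⟨by norm_num⟩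
    obtain ⟨P⟩ := (inferInstance : Nonempty (Sylow 13 G))
    rw [h6] at hdvdG
    haveI := sylow_normal σ hσ (r := 13) (by norm_num) (Or.inr ⟨by omega, hcop⟩) P
    exact isSolvable_six hι htrans hcop (r := 13) h6 (by norm_num) (Dvd.dvd.trans (by norm_num) hdvdG) P
      ⟨by norm_num, by norm_num⟩ (Or.inl rfl)
  · haveI : Fact (Nat.Prime 31) := ⟨by norm_num⟩
    obtain ⟨P⟩ := (inferInstance : Nonempty (Sylow 31 G))
    rw [h6] at hdvdG
    haveI := sylow_normal σ hσ (r := 31) (by norm_num) (Or.inl (by omega)) P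
    exact isSolvable_six hι htrans hcop (r := 31) h6 (by norm_num) (Dvd.dvd.trans (by norm_num) hdvdG) P
      ⟨by norm_num, by norm_num⟩ (Or.inr (Or.inl rfl))
  · haveI : Fact (Nat.Prime 307) := ⟨by norm_num⟩
    obtain ⟨P⟩ := (inferInstance : Nonempty (Sylow 307 G))
    rw [h6] at hdvdG
    haveI := sylow_normal σ hσ (r := 307) (by norm_num) (Or.inl (by omega)) P
    exact isSolvable_six hι htrans hcop (r := 307) h6 (by norm_num) (Dvd.dvd.trans (by norm_num) hdvdG) P
      ⟨by norm_num, by norm_num⟩ (Or.inr (Or.inr rfl))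
  · exfalso
    haveI : Fact (Nat.Prime 37) := ⟨by norm_num⟩
    obtain ⟨P⟩ := (inferInstance : Nonempty (Sylow 37 G))
    refine hsolv 37 ⟨by norm_num⟩ P (by rw [h18]; norm_num) (fun k hk0 hk => ?_)
      (sylow_normal σ hσ (r := 37) (by norm_num) (Or.inr ⟨by omega, hcop⟩) P)
    rw [h18] at hk
    interval_cases k <;> norm_num

end Cfsg.Lib.Linear.CoprimeTrans
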