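import Cfsg.Agent.S0899
import Cfsg.Agent.S4704
import Cfsg.Agent.Lib.Char.Quotient
import Cfsg.Agent.Lib.Char.Constituents
import Cfsg.Agent.Lib.Linear.PSLSmall

/-!
Normal Sylow subgroups for large primes in small degree.
-/

set_option autoImplicit false
set_option linter.unusedSectionVars false
open Cfsg Cfsg.Lib.Char

namespace Cfsg.Lib.Linear.CoprimeTrans

universe u

theorem three_dvd_psl (F : Type*) [Field F] [Fintype F] :
    3 ∣ Nat.card (Matrix.ProjectiveSpecialLinearGroup (Fin 2) F) := by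
  have h := Cfsg.Lib.Linear.Two.card_PSL_two (F := F)
  have h3 : 3 ∣ Fintype.card F * (Fintype.card F ^ 2 - 1) := by
    rcases Nat.eq_zero_or_pos (Fintype.card F % 3) with h0 | h0
    · exact dvd_mul_of_dvd_left (Nat.dvd_of_mod_eq_zero h0) _
    · refine dvd_mul_of_dvd_right ?_ _
      have h1 : Fintype.card F ^ 2 % 3 = 1 := by
        have := Nat.mod_lt (Fintype.card F) (show 3 > 0 by norm_num)
        rw [Nat.pow_mod]
        rcases (show Fintype.card F % 3 = 1 ∨ Fintype.card F % 3 = 2 by omega) with e | e <;> rw [e] <;> rfl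
      omega
  rw [← h] at h3
  refine (Nat.prime_three.dvd_mul.1 h3).resolve_left fun h' => ?_
  have := Nat.le_of_dvd (by norm_num) (h'.trans (Nat.gcd_dvd_left _ _))
  omega

/-- A Sylow subgroup is normal when its image in the image of each constituent is. -/
theorem sylow_normal_of_constituents {K : Type u} [Group K] [Fintype K] {r : ℕ} [Fact r.Prime]
    {χ : K → ℂ} (hχ : IsCharacter K χ) (hf : ∀ g, χ g = χ 1 → g = 1) (Q : Sylow r K)
    (h : ∀ τ : IrrCharacter K, classInner χ (τ : K → ℂ) ≠ 0 →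
      ((Q : Subgroup K) ⊔ charKer τ.2.isCharacter).Normal) : (Q : Subgroup K).Normal := by
  classical
  let M : Subgroup K := ⨅ τ : {τ : IrrCharacter K // classInner χ (τ : K → ℂ) ≠ 0},
    (Q : Subgroup K) ⊔ charKer τ.1.2.isCharacter
  have hMn : M.Normal := ⟨fun a ha g => Subgroup.mem_iInf.2 fun τ =>
    (h τ.1 τ.2).conj_mem a (Subgroup.mem_iInf.1 ha τ) g⟩
  have hQM : (Q : Subgroup K) ≤ M := le_iInf fun _ => le_sup_left
  have hMp : IsPGroup r M := by
    intro a
    obtain ⟨k, hk⟩ := Q.2.exists_card_eq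
    refine ⟨k, Subtype.ext (hf _ ?_)⟩
    refine Cfsg.Agent.S0899.eq_degree hχ fun τ hτ => ?_
    haveI := charKer_normal τ.2.isCharacter
    obtain ⟨y, hy, z, hz, hyz⟩ :=
      Subgroup.mem_sup_of_normal_right.1 (Subgroup.mem_iInf.1 a.2 ⟨τ, hτ⟩)
    refine (mem_charKer τ.2.isCharacter).1 ?_
    rw [SubgroupClass.coe_pow, ← hyz, ← QuotientGroup.eq_one_iff, QuotientGroup.mk_pow, QuotientGroup.mk_mul,
      (QuotientGroup.eq_one_iff _).2 hz, mul_one, ← QuotientGroup.mk_pow, ← hk]
    have : y ^ Nat.card (Q : Subgroup K) = 1 := congrArg Subtype.val (pow_card_eq_one' (x := (⟨y, hy⟩ : (Q : Subgroup K))))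
    rw [this]; rfl
  rw [show (Q : Subgroup K) = M from (Q.3 hMp hQM).symm]
  exact hMn

theorem sylow_normal {G : Type u} [Group G] [Finite G] {n : ℕ} (ρ : Representation ℂ G (Fin n → ℂ))
    (hρ : Function.Injective ρ) {r : ℕ} [Fact r.Prime] (h7 : 7 < r)
    (h : 2 * n + 1 < r ∨ (r = 2 * n + 1 ∧ ¬ 3 ∣ Nat.card G)) (P : Sylow r G) : (P : Subgroup G).Normal := by
  classical
  have hr : r.Prime := Fact.out
  refine Cfsg.Agent.S0899.result n ρ hρ r (Or.inr ⟨by omega, fun K hK Q => ?_⟩) P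
  haveI := Fintype.ofFinite K
  by_cases hrK : r ∣ Nat.card K
  swap
  · obtain ⟨k, hk⟩ := Q.2.exists_card_eq
    rcases k with _ | k
    · rw [pow_zero, Subgroup.card_eq_one] at hk; rw [hk]; infer_instance
    · exact absurd ((dvd_pow_self r k.succ_ne_zero).trans (hk ▸ Subgroup.card_subgroup_dvd_card _)) hrK
  have hQc : Nat.card (Q : Subgroup K) = r := by
    obtain ⟨k, hk⟩ := Q.2.exists_card_eq
    rcases k with _ | _ | k
    · exact absurd (hk ▸ Q.dvd_card_of_dvd_card hrK : r ∣ r ^ 0) (by simpa using hr.ne_one)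
    · rw [hk]; simp
    · exact absurd ((pow_dvd_pow r (show 2 ≤ k + 1 + 1 by omega)).trans
        (hk ▸ Subgroup.card_subgroup_dvd_card _)) hK
  have hχ : IsCharacter K (Representation.character (ρ.comp K.subtype : Representation ℂ K (Fin n → ℂ))) :=
    isCharacter_character _
  refine sylow_normal_of_constituents hχ (fun g hg => ?_) Q fun τ hτ => ?_
  · rw [Representation.char_one, character_eq_finrank_iff] at hg
    exact Subtype.ext (hρ (hg.trans (map_one ρ).symm))
  obtain ⟨d, hd0, hd⟩ := τ.2.exists_degree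
  have hdn : d ≤ n := Cfsg.Agent.S0899.constituent_le hχ
    (by rw [Representation.char_one, Module.finrank_fin_fun]) τ hτ hd
  haveI := charKer_normal τ.2.isCharacter
  set N := charKer τ.2.isCharacter with hN
  obtain ⟨ψ, hψ, hψe⟩ := exists_deflate_irr N τ.2 fun a ha => ha
  let π := QuotientGroup.mk' N
  have hker : π.ker = N := QuotientGroup.ker_mk' N
  set P' : Sylow r (K ⧸ N) := Q.mapSurjective (f := π) (QuotientGroup.mk'_surjective N)
  have hP'c : Nat.card (P' : Subgroup (K ⧸ N)) ∣ r := by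
    exact (Subgroup.card_dvd_of_surjective (π.subgroupMap (Q : Subgroup K))
      (π.subgroupMap_surjective _)).trans hQc.dvd
  have hsup : ((Q : Subgroup K) ⊔ N) = (P' : Subgroup (K ⧸ N)).comap π := by
    rw [Sylow.coe_mapSurjective, Subgroup.comap_map_eq, hker]
  rw [hsup]
  suffices hP' : (P' : Subgroup (K ⧸ N)).Normal from hP'.comap π
  rcases (Nat.dvd_prime hr).1 hP'c with h1 | h1
  · rw [Subgroup.card_eq_one.1 h1]; infer_instance
  by_contra hnn
  have hfaith : ∀ g : K ⧸ N, ψ g = ψ 1 → g = 1 := by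
    intro g hg
    obtain ⟨a, rfl⟩ := QuotientGroup.mk_surjective g
    have h0 : ψ ((1 : K) : K ⧸ N) = (τ : K → ℂ) 1 := hψe 1
    rw [QuotientGroup.mk_one] at h0
    rw [hψe, h0] at hg
    exact (QuotientGroup.eq_one_iff a).2 hg
  have hψd : charDegree ψ = d := by
    obtain ⟨d', hd'0, hd'⟩ := hψ.exists_degree
    have h0 : ψ ((1 : K) : K ⧸ N) = (τ : K → ℂ) 1 := hψe 1
    rw [QuotientGroup.mk_one, hd', hd] at h0
    have h2 := Cfsg.Lib.Block.apply_one_eq_charDegree (G := K ⧸ N) ⟨ψ, hψ⟩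
    change ψ 1 = _ at h2
    rw [hd'] at h2
    have : d' = d := by exact_mod_cast h0
    rw [← this]; exact_mod_cast h2.symm
  rcases Cfsg.Agent.S4704.result r h7 P' h1 hnn ψ hψ hfaith _ rfl with
    ⟨⟨F, iF, iF', hF, ⟨e⟩⟩, hdeg, -⟩ | hbig | ⟨hle, -⟩
  · rw [hψd] at hdeg
    have hr2 : r = 2 * n + 1 := by rcases h with h | h <;> omega
    have h3 : ¬ 3 ∣ Nat.card G := (h.resolve_left (by omega)).2
    apply h3
    refine (three_dvd_psl F).trans ?_
    rw [← Nat.card_congr e.toEquiv]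
    exact (((Subgroup.center (K ⧸ N)).card_quotient_dvd_card).trans N.card_quotient_dvd_card).trans
      (Subgroup.card_subgroup_dvd_card K)
  · rw [hψd] at hbig; omega
  · rw [hψd] at hle
    have hsq : Real.sqrt ((r : ℝ) + 5 / 4) < (r : ℝ) / 2 + 2 := by
      rw [Real.sqrt_lt' (by positivity)]
      nlinarith [sq_nonneg (r : ℝ)]
    have h2n : 2 * (d : ℝ) + 1 ≤ r := by
      have : 2 * d + 1 ≤ r := by omega
      exact_mod_cast this
    linarith

end Cfsg.Lib.Linear.CoprimeTrans
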