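import Cfsg.Agent.Lib.Linear.CoprimeTrans.Main
import Cfsg.Agent.Lib.Recog.Icosahedral
import Cfsg.Agent.S0016

/-!
A lower bound for the class number of a transitive linear group of invertible order, and the
group of order 120 that falls below the characteristic.
-/

set_option autoImplicit false
set_option linter.unusedSectionVars false
open Cfsg.Lib.Recog.SolvTrans

namespace Cfsg.Lib.Linear.CoprimeTrans

universe u

/-- A conjugacy class meets an abelian subgroup in at most index many elements. -/
theorem card_le_conjClasses_mul {G : Type*} [Group G] [Finite G] (A : Subgroup G)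
    (hA : ∀ a ∈ A, ∀ b ∈ A, a * b = b * a) : Nat.card A ≤ Nat.card (ConjClasses G) * A.index := by
  classical
  let f : A → ConjClasses G := fun a => ConjClasses.mk (a : G)
  let r : A → A := fun a => Function.invFun f (f a)
  have hr : ∀ a : A, ∃ g : G, g * (r a : G) * g⁻¹ = a := fun a =>
    isConj_iff.1 (ConjClasses.mk_eq_mk_iff_isConj.1 (Function.invFun_eq (f := f) ⟨a, rfl⟩))
  choose g hg using hr
  rw [Subgroup.index, ← Nat.card_prod]
  refine Nat.card_le_card_of_injective (fun a => (f a, (QuotientGroup.mk (g a) : G ⧸ A))) fun a b e => ?_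
  have hrab : r a = r b := congrArg (fun p : ConjClasses G × (G ⧸ A) => Function.invFun f p.1) e
  have hm : (g a)⁻¹ * g b ∈ A := QuotientGroup.eq.1 (congrArg Prod.snd e)
  refine Subtype.ext ?_
  rw [← hg a, ← hg b, ← hrab]
  have hc := hA _ hm _ (r a).2
  calc g a * (r a : G) * (g a)⁻¹
      = g a * ((r a : G) * ((g a)⁻¹ * g b)) * (g b)⁻¹ := by group
    _ = g a * ((g a)⁻¹ * g b * (r a : G)) * (g b)⁻¹ := by rw [hc]
    _ = g b * (r a : G) * (g b)⁻¹ := by group

theorem three_le_card_conjClasses {G : Type*} [Group G] [Finite G] (hna : ¬ ∀ a b : G, a * b = b * a) :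
    3 ≤ Nat.card (ConjClasses G) := by
  classical
  by_contra hk
  have hconj : ∀ x y : G, x ≠ 1 → y ≠ 1 → IsConj x y := by
    intro x y hx hy
    by_contra h
    refine hk ?_
    let f : Fin 3 → ConjClasses G := ![1, ConjClasses.mk x, ConjClasses.mk y]
    have hf : Function.Injective f := by
      intro i j e
      have h1 : ∀ z : G, z ≠ 1 → (1 : ConjClasses G) ≠ ConjClasses.mk z := fun z hz e =>
        hz (isConj_one_right.1 (ConjClasses.mk_eq_mk_iff_isConj.1 e))
      have h2 : ConjClasses.mk x ≠ ConjClasses.mk y := fun e => h (ConjClasses.mk_eq_mk_iff_isConj.1 e)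
      fin_cases i <;> fin_cases j <;> simp_all [f, eq_comm]
    exact (Nat.card_fin 3).symm.le.trans (Nat.card_le_card_of_injective f hf)
  haveI : Nontrivial G := by
    by_contra h
    rw [not_nontrivial_iff_subsingleton] at h
    exact hna fun a b => Subsingleton.elim _ _
  by_cases hz : Subgroup.center G = ⊥
  · obtain ⟨x, hx⟩ := exists_ne (1 : G)
    obtain ⟨r, hr, hrd⟩ := Nat.exists_prime_and_dvd (show Nat.card G ≠ 1 from Finite.one_lt_card.ne')
    haveI := Fact.mk hr
    obtain ⟨t, ht⟩ := exists_prime_orderOf_dvd_card' r hrd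
    have hP : IsPGroup r G := fun g => ⟨1, by
      by_cases hg : g = 1
      · rw [hg, one_pow]
      obtain ⟨c, hc⟩ := isConj_iff.1 (hconj t g (fun e => hr.ne_one (by rw [← ht, e, orderOf_one])) hg)
      rw [← hc, pow_one, conj_pow, ← ht, pow_orderOf_eq_one, mul_one, mul_inv_cancel]⟩
    haveI := hP.center_nontrivial
    exact (Subgroup.nontrivial_iff_ne_bot _).1 this hz
  · obtain ⟨z, hz, hz1⟩ := (Subgroup.center G).bot_or_exists_ne_one.resolve_left hz
    have hall : ∀ g : G, g = 1 ∨ g = z := fun g => or_iff_not_imp_left.2 fun hg => by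
      obtain ⟨c, hc⟩ := isConj_iff.1 (hconj z g hz1 hg)
      rw [← hc, Subgroup.mem_center_iff.1 hz c, mul_inv_cancel_right]
    refine hna fun a b => ?_
    rcases hall a with rfl | rfl <;> rcases hall b with rfl | rfl <;> simp

theorem pow_bound {q : ℕ} (hq : 5 ≤ q) : ∀ d : ℕ, 3 ≤ d → (q - 1) * (d * d) < q ^ d - 1 := by
  intro d hd
  induction d, hd using Nat.le_induction with
  | base =>
    have h25 : 25 * q ≤ q ^ 3 := by
      have := Nat.pow_le_pow_left hq 2
      nlinarith
    omega
  | succ n hn ih =>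
    obtain ⟨m, rfl⟩ : ∃ m, q = m + 1 := ⟨q - 1, by omega⟩
    simp only [Nat.add_sub_cancel] at ih ⊢
    have h1 : 2 * (m + 1) ^ n ≤ (m + 1) ^ (n + 1) := by
      rw [pow_succ (m + 1) n]; nlinarith [Nat.one_le_pow n (m + 1) (by omega)]
    have h2 : (n + 1) * (n + 1) ≤ 2 * (n * n) := by nlinarith
    have h3 : m * ((n + 1) * (n + 1)) ≤ m * (2 * (n * n)) := Nat.mul_le_mul_left m h2
    have h4 : m * (2 * (n * n)) = 2 * (m * (n * n)) := by ring
    omega

theorem semilinear_lower {p : ℕ} [Fact p.Prime] {F : Type*} [Field F] [Finite F] [CharP F p]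
    {G : Type*} [Group G] [Finite G] (f : G → F → F) (h1 : ∀ x, f 1 x = x)
    (hmul : ∀ g h x, f (g * h) x = f g (f h x)) (hinj : ∀ g, (∀ x, f g x = x) → g = 1)
    (hsemi : ∀ g, ∃ (a : F) (σ : F ≃+* F), ∀ x, f g x = a * σ x) {d : ℕ} (hd : Nat.card F = p ^ d) :
    Nat.card G ≤ Nat.card (ConjClasses G) * (d * d) := by
  classical
  haveI : Finite (F ≃+* F) := Finite.of_injective (fun σ : F ≃+* F => (σ : F → F)) DFunLike.coe_injective
  choose a σ hf using hsemi
  have ha : ∀ g, a g = f g 1 := fun g => by rw [hf, map_one, mul_one]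
  have hf0 : ∀ g, f g 0 = 0 := fun g => by rw [hf, map_zero, mul_zero]
  have ha0 : ∀ g, a g ≠ 0 := fun g h => by
    have e1 : f g 1 = f g 0 := by rw [← ha, h, hf0]
    have := congrArg (f g⁻¹) e1
    rw [← hmul, ← hmul, inv_mul_cancel, h1, h1] at this
    exact one_ne_zero this
  have hmula : ∀ g h, a (g * h) = a g * σ g (a h) := fun g h => by rw [ha, hmul, ← ha h, hf]
  have hσ : ∀ g h, σ (g * h) = σ g * σ h := fun g h => RingEquiv.ext fun x => by
    have e1 : a (g * h) * σ (g * h) x = a g * σ g (a h * σ h x) := by rw [← hf, hmul, hf h, hf g]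
    rw [hmula, map_mul, ← mul_assoc] at e1
    exact mul_left_cancel₀ (mul_ne_zero (ha0 g) (fun h0 => ha0 h ((map_eq_zero_iff _ (σ g).injective).1 h0))) e1
  let π : G →* (F ≃+* F) := MonoidHom.mk' σ hσ
  have hab : ∀ g ∈ π.ker, ∀ h ∈ π.ker, g * h = h * g := by
    intro g hg h hh
    have eg : ∀ x, f g x = a g * x := fun x => by rw [hf, show σ g = 1 from hg]; rfl
    have eh : ∀ x, f h x = a h * x := fun x => by rw [hf, show σ h = 1 from hh]; rfl
    refine (inv_mul_eq_one.1 (hinj ((h * g)⁻¹ * (g * h)) fun x => ?_)).symm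
    have e : f (g * h) x = f (h * g) x := by
      rw [hmul, hmul]; simp only [eg, eh]; ring
    rw [hmul, e, ← hmul, inv_mul_cancel, h1]
  have hAut : Nat.card (F ≃+* F) = d := by
    letI : Algebra (ZMod p) F := ZMod.algebra F p
    have e : (F ≃+* F) ≃ (F ≃ₐ[ZMod p] F) :=
      { toFun := fun σ => AlgEquiv.ofRingEquiv (f := σ) fun x => RingHom.congr_fun (RingHom.ext_zmod
          ((σ : F →+* F).comp (algebraMap (ZMod p) F)) (algebraMap (ZMod p) F)) x
        invFun := fun σ => σ.toRingEquiv
        left_inv := fun σ => RingEquiv.ext fun _ => rfl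
        right_inv := fun σ => AlgEquiv.ext fun _ => rfl }
    rw [Nat.card_congr e, IsGalois.card_aut_eq_finrank (ZMod p) F]
    refine Nat.pow_right_injective (Fact.out : p.Prime).two_le ?_
    show p ^ Module.finrank (ZMod p) F = p ^ d
    rw [← hd, Module.natCard_eq_pow_finrank (K := ZMod p) (V := F), Nat.card_zmod]
  have hidx : π.ker.index ≤ d := by
    rw [Subgroup.index_ker, ← hAut]
    exact Nat.card_le_card_of_injective _ Subtype.val_injective
  calc Nat.card G = Nat.card π.ker * π.ker.index := (Subgroup.card_mul_index _).symm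
    _ ≤ Nat.card (ConjClasses G) * π.ker.index * π.ker.index :=
        Nat.mul_le_mul_right _ (card_le_conjClasses_mul _ hab)
    _ ≤ Nat.card (ConjClasses G) * (d * d) := by rw [mul_assoc]; exact Nat.mul_le_mul_left _ (Nat.mul_le_mul hidx hidx)

variable {q : ℕ} [Fact q.Prime] {V : Type*} [AddCommGroup V] [Module (ZMod q) V] [Finite V] [Nontrivial V]
  {G : Type u} [Group G] [Finite G] {ι : G →* Module.End (ZMod q) V}
  (hι : Function.Injective ι)

include hι in
theorem neg_one_of_involution (hfix : ∀ g : G, ∀ v : V, v ≠ 0 → ι g v = v → g = 1) {t : G}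
    (ht : orderOf t = 2) : ι t = -1 := by
  refine LinearMap.ext fun v => ?_
  show ι t v = -v
  by_contra h
  have h0 : ι t v + v ≠ 0 := fun e => h (eq_neg_of_add_eq_zero_left e)
  have htt : ι t (ι t v) = v := by
    rw [← Module.End.mul_apply, ← map_mul, ← pow_two, ← ht, pow_orderOf_eq_one, map_one]; rfl
  have h1 := hfix t _ h0 (by rw [map_add, htt, add_comm])
  rw [h1, orderOf_one] at ht
  omega

variable (htrans : Trans ι)

include hι htrans in
theorem class_lower {s : ℕ} (hs : ∀ v : V, v ≠ 0 → Nat.card {g : G // ι g v = v} = s)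
    (hcop : ¬ q ∣ Nat.card G) :
    q ≤ Nat.card (ConjClasses G) ∨
      (Nat.card V = q ∧ Nat.card G = q - 1 ∧ Nat.card (ConjClasses G) = q - 1 ∧ s = 1) ∨
      (q = 11 ∧ Module.finrank (ZMod q) V = 2 ∧ Nat.card G = 120 ∧ Nat.card (ConjClasses G) = 9 ∧ s = 1 ∧
        Nat.card (Subgroup.center G) = 2) := by
  classical
  have hq2 := (Fact.out : q.Prime).two_le
  have hc := card_eq hι htrans hs
  have hV : Nat.card V = q ^ Module.finrank (ZMod q) V := card_V
  have hGpos : 0 < Nat.card G := Nat.card_pos
  by_cases hab : ∀ a b : G, a * b = b * a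
  · obtain ⟨-, h2⟩ := abelian_case hι htrans hs hcop hab
    letI : CommGroup G := { (inferInstance : Group G) with mul_comm := hab }
    have hk : Nat.card (ConjClasses G) = Nat.card G := (Nat.card_congr (ConjClasses.mkEquiv (α := G))).symm
    have hd0 := finrank_pos' (q := q) (V := V)
    have hV1 : 1 < Nat.card V := Finite.one_lt_card
    have hs1 : s = 1 := by
      obtain ⟨m, hm⟩ : ∃ m, Nat.card V = m + 1 := ⟨Nat.card V - 1, by omega⟩
      rw [hm, Nat.add_sub_cancel] at hc
      rw [hk, hc, hm] at h2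
      have : s * (m + 1) = 1 * (m + 1) := by linarith
      exact Nat.eq_of_mul_eq_mul_right (by omega) this
    rcases Nat.lt_or_ge (Module.finrank (ZMod q) V) 2 with hd | hd
    · have hd1 : Module.finrank (ZMod q) V = 1 := by omega
      rw [hd1, pow_one] at hV
      exact Or.inr (Or.inl ⟨hV, by rw [hc, hs1, hV, one_mul], by omega, hs1⟩)
    · left
      have : q * q ≤ Nat.card V := by rw [hV, ← pow_two]; exact Nat.pow_le_pow_right (by omega) hd
      have : 2 * q ≤ q * q := Nat.mul_le_mul_right q hq2
      omega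
  have h3 := three_le_card_conjClasses hab
  by_cases hq3 : q ≤ 3
  · exact Or.inl (hq3.trans h3)
  have hq5 : 5 ≤ q := by
    rcases (Fact.out : q.Prime).eq_two_or_odd with h | h <;> omega
  have hna : Subgroup.center G ≠ ⊤ := fun h => hab fun a b => Subgroup.mem_center_iff.1 (h ▸ trivial) a
  have hspos : 0 < s := by
    rcases Nat.eq_zero_or_pos s with h | h
    · rw [h, zero_mul] at hc; omega
    · exact h
  rcases Nat.lt_or_ge (Module.finrank (ZMod q) V) 2 with h | h2
  · exfalso
    have hpos := finrank_pos' (q := q) (V := V)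
    obtain ⟨v, hv, hspan⟩ := finrank_eq_one_iff'.1 (show Module.finrank (ZMod q) V = 1 by omega)
    refine hab fun a b => hι (LinearMap.ext fun w => ?_)
    obtain ⟨k, rfl⟩ := hspan w
    obtain ⟨ka, hka⟩ := hspan (ι a v)
    obtain ⟨kb, hkb⟩ := hspan (ι b v)
    simp only [map_mul, Module.End.mul_apply, map_smul, ← hka, ← hkb, smul_smul, mul_comm ka kb]
  rcases eq_or_lt_of_le h2 with h | h3d
  · -- dimension two
    rw [← h] at hV
    rw [hV] at hc
    have hchar : (Nat.card G : ZMod q) ≠ 0 := fun h0 => hcop ((CharP.cast_eq_zero_iff (ZMod q) q _).1 h0)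
    have hzlt := card_center_lt ι hι h.symm hna
    rw [Nat.card_zmod] at hzlt
    have hzpos : 0 < Nat.card (Subgroup.center G) := Nat.card_pos
    obtain ⟨Q, hQ⟩ : ∃ Q, q ^ 2 = Q + 1 := ⟨q ^ 2 - 1, by have := Nat.pow_le_pow_left hq2 2; omega⟩
    rw [hQ, Nat.add_sub_cancel] at hc
    rw [pow_two] at hQ
    rcases configurations ι hι h.symm hchar hna with
      ⟨g, -, hg, hk⟩ | ⟨n, c, hnc, hn, hk⟩
    · left
      have hQs : Q ≤ Nat.card G := hc ▸ Nat.le_mul_of_pos_left Q hspos
      have h5 : 5 * q ≤ q * q := Nat.mul_le_mul_right q hq5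
      omega
    have htwo : s = 1 → 2 ∣ Nat.card (Subgroup.center G) := by
      intro h1
      have hfix : ∀ g : G, ∀ v : V, v ≠ 0 → ι g v = v → g = 1 := by
        intro g v hv hg
        haveI : Subsingleton {g : G // ι g v = v} := (Nat.card_eq_one_iff_unique.1 ((hs v hv).trans h1)).1
        exact congrArg Subtype.val
          (Subsingleton.elim (⟨g, hg⟩ : {g : G // ι g v = v}) ⟨1, by rw [map_one]; rfl⟩)
      obtain ⟨t, ht⟩ := exists_prime_orderOf_dvd_card' (G := G) 2 (by
        rw [hn]; rcases hnc with ⟨rfl, -⟩ | ⟨rfl, -⟩ | ⟨rfl, -⟩ <;> exact Dvd.dvd.mul_left (by norm_num) _)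
      have htz : t ∈ Subgroup.center G := Subgroup.mem_center_iff.2 fun g => hι (by
        rw [map_mul, map_mul, neg_one_of_involution hι hfix ht, mul_neg_one, neg_one_mul])
      rw [← ht, ← Subgroup.orderOf_mk t htz]
      exact orderOf_dvd_natCard _
    have hzn : Nat.card (Subgroup.center G) * n = s * Q := hn ▸ hc
    have hQle : Q ≤ s * Q := Nat.le_mul_of_pos_left Q hspos
    rcases hnc with ⟨rfl, rfl⟩ | ⟨rfl, rfl⟩ | ⟨rfl, rfl⟩
    · left
      have h5 : 5 * q ≤ q * q := Nat.mul_le_mul_right q hq5
      omega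
    · left
      by_cases h7 : 7 ≤ q
      · have h7' : 7 * q ≤ q * q := Nat.mul_le_mul_right q h7
        omega
      have : q = 5 := by
        rcases (Fact.out : q.Prime).eq_two_or_odd with h | h <;> omega
      subst this
      have hQ24 : Q = 24 := by omega
      subst hQ24
      by_cases h1 : s = 1
      · have := htwo h1; omega
      · omega
    · by_cases h14 : 14 ≤ q
      · left
        have h7' : 14 * q ≤ q * q := Nat.mul_le_mul_right q h14
        omega
      have hqcase : q = 5 ∨ q = 7 ∨ q = 11 ∨ q = 13 := by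
        have hp : q.Prime := Fact.out
        interval_cases q <;> first | omega | (norm_num at hp)
      rcases hqcase with rfl | rfl | rfl | rfl
      · exact absurd (hn ▸ Dvd.dvd.mul_left (by norm_num) _) hcop
      · left; omega
      · have hQ120 : Q = 120 := by omega
        subst hQ120
        by_cases h1 : s = 1
        · right; right
          exact ⟨rfl, h.symm, by omega, by omega, h1, by omega⟩
        · left; omega
      · omega
  · -- dimension at least three
    left
    haveI : Group.IsSolvable G := isSolvable_of_large hι htrans hcop h3d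
    by_cases hsl : ∃ A : Subgroup G, A.Normal ∧ (∀ a ∈ A, ∀ b ∈ A, a * b = b * a) ∧
        ∀ W : Submodule (ZMod q) V, (∀ a ∈ A, ∀ v ∈ W, ι a v ∈ W) → W = ⊥ ∨ W = ⊤
    · obtain ⟨A, hAn, hAc, hirr⟩ := hsl
      let ρ : G →* (V ≃ₗ[ZMod q] V) :=
        { toFun := fun g => LinearEquiv.ofLinear (ι g) (ι g⁻¹)
            (by rw [← Module.End.mul_eq_comp, ← map_mul, mul_inv_cancel, map_one]; rfl)
            (by rw [← Module.End.mul_eq_comp, ← map_mul, inv_mul_cancel, map_one]; rfl)
          map_one' := LinearEquiv.ext fun v => by show ι 1 v = v; rw [map_one]; rfl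
          map_mul' := fun a b => LinearEquiv.ext fun v => by show ι (a * b) v = ι a (ι b v); rw [map_mul]; rfl }
      haveI : (A.map ρ.rangeRestrict).Normal := Subgroup.Normal.map hAn _ ρ.rangeRestrict_surjective
      have hcm : IsMulCommutative (A.map ρ.rangeRestrict) := ⟨⟨by
        rintro ⟨_, a, ha, rfl⟩ ⟨_, b, hb, rfl⟩
        exact Subtype.ext (by
          show ρ.rangeRestrict a * ρ.rangeRestrict b = ρ.rangeRestrict b * ρ.rangeRestrict a
          rw [← map_mul, ← map_mul, hAc a ha b hb])⟩⟩
      obtain ⟨F, iF, iFt, e, he⟩ := Cfsg.Lib.Perm.Zas25.semilinear_of_irreducible (A.map ρ.rangeRestrict) hcm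
        (fun W hW => hirr W fun a ha v hv => hW (ρ.rangeRestrict a) ⟨a, ha, rfl⟩ v hv)
      have hVF : Nat.card V = Nat.card F := Nat.card_congr e.toEquiv
      haveI : CharP F q := by
        obtain ⟨c, hcF⟩ := CharP.exists F
        have hq0 : (q : F) = 0 := by
          have h1 : e ((q : ℕ) • e.symm 1) = 0 := by
            rw [← Nat.cast_smul_eq_nsmul (ZMod q), ZMod.natCast_self, zero_smul, map_zero]
          rwa [map_nsmul, e.apply_symm_apply, nsmul_eq_mul, mul_one] at h1
        rcases (Nat.dvd_prime Fact.out).1 ((CharP.cast_eq_zero_iff F c q).1 hq0) with rfl | rfl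
        · exact absurd rfl (CharP.char_ne_one F 1)
        · exact hcF
      have hle := semilinear_lower (F := F) (fun g x => e (ι g (e.symm x)))
        (fun x => by simp) (fun g h x => by simp)
        (fun g hg => hι (LinearMap.ext fun v => by
          have := hg (e v)
          simp only [e.symm_apply_apply, EmbeddingLike.apply_eq_iff_eq] at this
          rw [this, map_one]; rfl))
        (fun g => by
          obtain ⟨a, σ, hσ⟩ := he (ρ.rangeRestrict g)
          exact ⟨a, σ, fun x => (hσ (e.symm x)).trans (by rw [e.apply_symm_apply])⟩)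
        (hVF ▸ hV)
      by_contra hlt
      have hb := pow_bound hq5 _ h3d
      have hge : q ^ Module.finrank (ZMod q) V - 1 ≤ Nat.card G := by
        rw [hc, hV]; exact Nat.le_mul_of_pos_left _ hspos
      have hmul := Nat.mul_le_mul_right (Module.finrank (ZMod q) V * Module.finrank (ZMod q) V)
        (show Nat.card (ConjClasses G) ≤ q - 1 by omega)
      omega
    have hns : NotSL ι := by
      intro A hA hAc
      by_contra h
      push Not at h
      exact hsl ⟨A, hA, hAc, fun W hW => or_iff_not_imp_left.2 (h W hW)⟩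
    obtain ⟨hq3', -⟩ := dim_large hι htrans hns (by omega) (fun h => by omega)
    omega

include hι htrans in
/-- The exceptional group is `SL(2, 5)`. -/
theorem iso_sl_of_exception {s : ℕ} (hs : ∀ v : V, v ≠ 0 → Nat.card {g : G // ι g v = v} = s)
    (hcop : ¬ q ∣ Nat.card G) (hd : Module.finrank (ZMod q) V = 2) (h120 : Nat.card G = 120)
    (hk : Nat.card (ConjClasses G) = 9) (h1 : s = 1) (hz : Nat.card (Subgroup.center G) = 2) :
    ¬ Group.IsSolvable G ∧ Nonempty (G ≃* Cfsg.Lib.Recog.Icosa.SL25) := by
  classical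
  haveI : Fact (Nat.Prime 2) := ⟨Nat.prime_two⟩
  haveI : Fact (Nat.Prime 5) := ⟨Nat.prime_five⟩
  have hfix : ∀ g : G, ∀ v : V, v ≠ 0 → ι g v = v → g = 1 := by
    intro g v hv hg
    haveI : Subsingleton {g : G // ι g v = v} := (Nat.card_eq_one_iff_unique.1 ((hs v hv).trans h1)).1
    exact congrArg Subtype.val
      (Subsingleton.elim (⟨g, hg⟩ : {g : G // ι g v = v}) ⟨1, by rw [map_one]; rfl⟩)
  have huniq : ∀ x y : G, orderOf x = 2 → orderOf y = 2 → x = y := fun x y hx hy =>
    hι ((neg_one_of_involution hι hfix hx).trans (neg_one_of_involution hι hfix hy).symm)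
  have hna : Subgroup.center G ≠ ⊤ := fun e => by rw [e, Subgroup.card_top] at hz; omega
  have hchar : (Nat.card G : ZMod q) ≠ 0 := fun h0 => hcop ((CharP.cast_eq_zero_iff (ZMod q) q _).1 h0)
  have hCA := centralizer_comm ι hι hd
  have hnorm := normalizer_le ι hι hd hchar
  -- no abelian normal subgroup contains a noncentral element
  have hno : ∀ M : Subgroup G, M.Normal → (∀ a ∈ M, ∀ b ∈ M, a * b = b * a) → ∀ g ∈ M, g ∈ Subgroup.center G := by
    intro M hM hMc g hg
    by_contra hgz
    set C := Subgroup.centralizer ({g} : Set G) with hC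
    have hN : C.Normal := ⟨fun x hx y => by
      have hy : y⁻¹ * g * y ∈ M := by simpa using hM.conj_mem g hg y⁻¹
      have hyz : y⁻¹ * g * y ∉ Subgroup.center G := by simpa using not_mem_center_conj (x := y⁻¹) hgz
      have e := centralizer_eq_of_mem hCA hgz hyz (Subgroup.mem_centralizer_singleton_iff.2 (hMc _ hy _ hg))
      rw [hC, ← e, Subgroup.mem_centralizer_singleton_iff] at hx
      refine Subgroup.mem_centralizer_singleton_iff.2 ?_
      calc y * x * y⁻¹ * g = y * (x * (y⁻¹ * g * y)) * y⁻¹ := by group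
        _ = y * (y⁻¹ * g * y * x) * y⁻¹ := by rw [hx]
        _ = g * (y * x * y⁻¹) := by group⟩
    have h2 : Nat.card G ≤ 2 * Nat.card C := by
      have h := hnorm g hgz
      rw [← hC, Subgroup.normalizer_eq_top, Subgroup.card_top] at h
      exact h
    have hidx := Subgroup.card_mul_index C
    have hle := card_le_conjClasses_mul C fun a ha b hb =>
      hCA g hgz a b (Subgroup.mem_centralizer_singleton_iff.1 ha).symm (Subgroup.mem_centralizer_singleton_iff.1 hb).symm
    rw [hk] at hle
    rw [h120] at h2 hidx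
    have : C.index ≤ 2 := by nlinarith
    omega
  have hns : ¬ Group.IsSolvable G := by
    intro hsol
    haveI := hsol
    obtain ⟨n, hn⟩ := Group.IsSolvable.solvable (G := G)
    have hex : ∃ n, derivedSeries G n ≤ Subgroup.center G := ⟨n, hn ▸ bot_le⟩
    obtain ⟨j, hj⟩ : ∃ j, Nat.find hex = j + 1 := by
      refine Nat.exists_eq_succ_of_ne_zero fun h0 => hna ?_
      have := Nat.find_spec hex
      rw [h0, derivedSeries_zero] at this
      exact top_le_iff.1 this
    have hMnot : ¬ derivedSeries G j ≤ Subgroup.center G := Nat.find_min hex (by omega)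
    have hspec := Nat.find_spec hex
    rw [hj, derivedSeries_succ] at hspec
    set M := derivedSeries G j
    have hMn : M.Normal := derivedSeries_normal G j
    obtain ⟨g₀, hg₀M, hg₀⟩ := SetLike.not_le_iff_exists.1 hMnot
    have hMnab : ¬ ∀ a ∈ M, ∀ b ∈ M, a * b = b * a := fun h => hg₀ (hno M hMn h g₀ hg₀M)
    have hzsq : ∀ c ∈ Subgroup.center G, c * c = 1 := fun c hc => by
      have := pow_card_eq_one' (x := (⟨c, hc⟩ : Subgroup.center G))
      rw [hz, pow_two] at this
      exact congrArg Subtype.val this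
    have hnoncomm : ∀ g ∈ M, g ∉ Subgroup.center G → ∃ h ∈ M, g * h ≠ h * g := by
      intro g hg hgz
      by_contra h
      push Not at h
      exact hMnab fun a ha b hb => hCA g hgz a b (h a ha) (h b hb)
    have h4 : ∀ g ∈ M, g ^ 4 = 1 := by
      intro g hg
      have key : g * g ∈ Subgroup.center G := by
        by_contra hsq
        have hgz : g ∉ Subgroup.center G := fun h => hsq (mul_mem h h)
        obtain ⟨h, hh, hne⟩ := hnoncomm g hg hgz
        have hc : g * h * g⁻¹ * h⁻¹ ∈ Subgroup.center G := hspec (Subgroup.commutator_mem_commutator hg hh)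
        set c := g * h * g⁻¹ * h⁻¹ with hcdef
        have hcg := Subgroup.mem_center_iff.1 hc g
        have e1 : g * h = c * h * g := by rw [hcdef]; group
        have e2 : Commute (g * g) h := by
          show g * g * h = h * (g * g)
          calc g * g * h = g * (g * h) := mul_assoc _ _ _
            _ = g * c * h * g := by rw [e1]; group
            _ = c * (g * h) * g := by rw [hcg]; group
            _ = c * c * h * (g * g) := by rw [e1]; group
            _ = h * (g * g) := by rw [hzsq c hc, one_mul]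
        exact hne (hCA (g * g) hsq g h ((Commute.refl g).mul_left (Commute.refl g)) e2)
      rw [show (4 : ℕ) = 2 * 2 from rfl, pow_mul, pow_two g, pow_two]
      exact hzsq _ key
    have hMp : IsPGroup 2 M := fun g => ⟨2, Subtype.ext (by simpa using h4 g g.2)⟩
    obtain ⟨k, hk2⟩ := IsPGroup.iff_card.1 hMp
    have hk3 : k ≤ 3 := by
      by_contra h
      have h16 : 16 ∣ Nat.card G := ((pow_dvd_pow 2 (show 4 ≤ k by omega)).trans (hk2 ▸ dvd_rfl)).trans
        (Subgroup.card_subgroup_dvd_card M)
      rw [h120] at h16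
      omega
    obtain ⟨y, hy⟩ := exists_prime_orderOf_dvd_card' (G := G) 5 (by rw [h120]; norm_num)
    obtain ⟨i, hi, hicard, hmod⟩ := card_fixed hy M hk2
    have hik : i = k := by
      interval_cases k <;> interval_cases i <;> first | rfl | (exfalso; revert hmod; decide)
    have heq : M ⊓ Subgroup.centralizer ({y} : Set G) = M :=
      Subgroup.eq_of_le_of_card_ge inf_le_left (by rw [hicard, hik, hk2])
    have hyz : y ∉ Subgroup.center G := fun h => by
      have := orderOf_dvd_natCard (⟨y, h⟩ : Subgroup.center G)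
      rw [Subgroup.orderOf_mk, hy, hz] at this
      omega
    exact hMnab fun a ha b hb => hCA y hyz a b
      (Subgroup.mem_centralizer_singleton_iff.1 (heq.ge ha).2).symm
      (Subgroup.mem_centralizer_singleton_iff.1 (heq.ge hb).2).symm
  refine ⟨hns, Cfsg.Lib.Recog.Icosa.iso_sl_two_five h120 hns fun P => ?_⟩
  have hP8 : Nat.card (P : Subgroup G) = 8 := by
    obtain ⟨m, hm⟩ := IsPGroup.iff_card.1 P.isPGroup'
    have hdv := P.not_dvd_index
    have hmul := Subgroup.card_mul_index (P : Subgroup G)
    rw [h120, hm] at hmul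
    have hm7 : m ≤ 7 := by
      by_contra h
      have := Nat.pow_le_pow_right (show 0 < 2 by norm_num) (show 8 ≤ m by omega)
      have hpos : 0 < (P : Subgroup G).index := Nat.pos_of_ne_zero (P : Subgroup G).index_ne_zero_of_finite
      nlinarith
    rw [hm]
    interval_cases m <;> omega
  have huP : ∀ H K : Subgroup (P : Subgroup G), Nat.card H = 2 → Nat.card K = 2 → H = K := by
    intro H K hH hK
    have key : ∀ H : Subgroup (P : Subgroup G), Nat.card H = 2 → ∃ x : (P : Subgroup G), orderOf (x : G) = 2 ∧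
        H = Subgroup.zpowers x := fun H hH => by
      obtain ⟨x, hx⟩ := exists_prime_orderOf_dvd_card' (G := H) 2 (by rw [hH])
      refine ⟨x, by rw [Subgroup.orderOf_coe, Subgroup.orderOf_coe, hx], (Subgroup.eq_of_le_of_card_ge
        (Subgroup.zpowers_le.2 x.2) ?_).symm⟩
      rw [hH, Nat.card_zpowers, Subgroup.orderOf_coe, hx]
    obtain ⟨x, hx, rfl⟩ := key H hH
    obtain ⟨y, hy, rfl⟩ := key K hK
    rw [Subtype.ext (huniq _ _ hx hy)]
  rcases Cfsg.Agent.S0016.result 2 P.isPGroup' huP with hcyc | ⟨-, n, ⟨e⟩⟩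
  · exfalso
    have hmin : (Nat.card G).minFac = 2 := by rw [h120]; rfl
    have hPN : Subgroup.normalizer ((P : Subgroup G) : Set G) ≤
        Subgroup.centralizer ((P : Subgroup G) : Set G) := IsCyclic.normalizer_le_centralizer hmin hcyc
    have hc := MonoidHom.ker_transferSylow_isComplement' P hPN
    have hcm := hc.card_mul
    rw [hP8, h120] at hcm
    haveI : Group.IsSolvable (MonoidHom.transferSylow P hPN).ker :=
      Cfsg.Lib.Recog.Icosa.solvable_of_lt_sixty 15 _ (by omega) (by norm_num)
    haveI : Group.IsSolvable (P : Subgroup G) :=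
      Cfsg.Lib.Recog.Icosa.solvable_of_lt_sixty 8 _ hP8 (by norm_num)
    exact hns (Group.isSolvable_of_ker_le_range (MonoidHom.transferSylow P hPN).ker.subtype
      (MonoidHom.transferSylow P hPN) (by rw [Subgroup.range_subtype]))
  · have hcard := Nat.card_congr e.toEquiv
    rw [hP8, Nat.card_eq_fintype_card, QuaternionGroup.card] at hcard
    have h2n : 2 ^ n = 2 := by omega
    rw [h2n] at e
    exact ⟨e⟩

end Cfsg.Lib.Linear.CoprimeTrans
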