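import Mathlib

/-!
Class numbers of transitive semilinear groups of invertible order.
-/

set_option autoImplicit false
set_option linter.unusedSectionVars false

namespace Cfsg.Lib.Linear.CoprimeTrans

open Finset

theorem sq_lt_two_pow : ∀ d : ℕ, 6 ≤ d → (d + 1) ^ 2 < 2 ^ d := by
  intro d hd
  induction d, hd using Nat.le_induction with
  | base => norm_num
  | succ n hn ih =>
    rw [pow_succ 2 n]
    nlinarith

theorem semilinear_arith {p d e m j : ℕ} (hp : p.Prime) (hed : e ∣ d) (hd : 0 < d) (he : 2 ≤ e)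
    (hpe : ¬ p ∣ e) (hj : 2 ≤ j) (hm : m ^ j = p ^ d) :
    (e + 1) * m < p ^ d ∨ (p ^ d = 8 ∧ e = 3 ∧ m = 2) ∨ (p ^ d = 9 ∧ e = 2 ∧ m = 3) := by
  have hm2 : m ^ 2 ≤ p ^ d := by
    rcases Nat.eq_zero_or_pos m with rfl | h
    · simp
    · rw [← hm]; exact Nat.pow_le_pow_right h hj
  by_cases hbig : (e + 1) ^ 2 < p ^ d
  · left
    nlinarith
  push Not at hbig
  have hle := Nat.le_of_dvd hd hed
  have hp2 := hp.two_le
  have h1 : p ^ d ≤ (d + 1) ^ 2 := hbig.trans (Nat.pow_le_pow_left (by omega) 2)
  have hd5 : d ≤ 5 := by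
    by_contra h
    have := sq_lt_two_pow d (by omega)
    have := Nat.pow_le_pow_left hp2 d
    omega
  have hp3 : p ≤ 3 := by
    by_contra h
    have := Nat.pow_le_pow_left (show 4 ≤ p by omega) d
    interval_cases d <;> omega
  have hm0 : 2 ≤ m := by
    by_contra h
    interval_cases m
    · rw [zero_pow (by omega)] at hm; exact absurd hm.symm (pow_pos (by omega) d).ne'
    · rw [one_pow] at hm
      exact absurd hm.symm (Nat.one_lt_pow (by omega) (by omega)).ne'
  have hjle : 2 ^ j ≤ p ^ d := hm ▸ Nat.pow_le_pow_left hm0 j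
  have hj5 : j ≤ 5 := by
    by_contra h
    have := Nat.pow_le_pow_right (show 0 < 2 by norm_num) (show 6 ≤ j by omega)
    interval_cases p <;> interval_cases d <;> omega
  have hm6 : m ≤ 5 := by
    by_contra h
    have := Nat.pow_le_pow_left (show 6 ≤ m by omega) 2
    interval_cases p <;> interval_cases d <;> omega
  interval_cases p <;> interval_cases d <;> interval_cases e <;>
    first
      | omega
      | (exfalso; norm_num at hed; done)
      | (interval_cases m <;> interval_cases j <;> simp_all)

variable {p : ℕ} [Fact p.Prime] {F : Type*} [Field F] [Finite F] [CharP F p]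
  {G : Type*} [Group G] [Finite G] (f : G → F → F)
  (h1 : ∀ x, f 1 x = x) (hmul : ∀ g h x, f (g * h) x = f g (f h x))
  (hinj : ∀ g, (∀ x, f g x = x) → g = 1)
  (hsemi : ∀ g, ∃ (a : F) (σ : F ≃+* F), ∀ x, f g x = a * σ x)

include h1 hmul hinj hsemi in
theorem semilinear_bound (hcop : ¬ p ∣ Nat.card G) {s : ℕ} (hcard : Nat.card G = s * (Nat.card F - 1))
    (hs : Nat.card {g : G // f g 1 = 1} = s) :
    Nat.card (ConjClasses G) + s ≤ Nat.card F ∧
      (Nat.card (ConjClasses G) + s = Nat.card F →
        IsCyclic G ∨ (Nat.card F = 8 ∧ Nat.card G = 21) ∨ (Nat.card F = 9 ∧ Nat.card G = 16)) := by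
  classical
  haveI := Fintype.ofFinite F
  haveI := Fintype.ofFinite G
  haveI : Finite (F ≃+* F) := Finite.of_injective (fun σ : F ≃+* F => (σ : F → F)) DFunLike.coe_injective
  choose a σ hf using hsemi
  have ha : ∀ g, a g = f g 1 := fun g => by rw [hf, map_one, mul_one]
  have hf0 : ∀ g, f g 0 = 0 := fun g => by rw [hf, map_zero, mul_zero]
  have ha0 : ∀ g, a g ≠ 0 := fun g h => by
    have e1 : f g 1 = f g 0 := by rw [← ha, h, hf0]
    have := congrArg (f g⁻¹) e1
    rw [← hmul, ← hmul, inv_mul_cancel, h1, h1] at this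
    exact one_ne_zero this
  have hmula : ∀ g h, a (g * h) = a g * σ g (a h) := fun g h => by rw [ha, hmul, ← ha h, hf]
  have hσ : ∀ g h, σ (g * h) = σ g * σ h := fun g h => RingEquiv.ext fun x => by
    have e1 : a (g * h) * σ (g * h) x = a g * σ g (a h * σ h x) := by rw [← hf, hmul, hf h, hf g]
    rw [hmula, map_mul, ← mul_assoc] at e1
    exact mul_left_cancel₀ (mul_ne_zero (ha0 g) (fun h0 => ha0 h ((map_eq_zero_iff _ (σ g).injective).1 h0))) e1
  let π : G →* (F ≃+* F) := MonoidHom.mk' σ hσ
  set A := π.ker with hA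
  have hAσ : ∀ {g}, g ∈ A → ∀ x, σ g x = x := fun {g} hg x => by
    have : σ g = 1 := hg
    rw [this]; rfl
  let α : A →* F :=
    { toFun := fun g => a g
      map_one' := by show a 1 = 1; rw [ha, h1]
      map_mul' := fun g h => by show a ((g : G) * h) = _; rw [hmula, hAσ g.2] }
  have hα : Function.Injective α := fun g h e => by
    refine Subtype.ext (inv_mul_eq_one.1 (hinj _ fun x => ?_))
    have hgh : (g : G)⁻¹ * (h : G) ∈ A := mul_mem (inv_mem g.2) h.2
    rw [hf, hAσ hgh]
    have e2 : α (g⁻¹ * h) = 1 := by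
      rw [map_mul, show α h = α g from e.symm, ← map_mul, inv_mul_cancel, map_one]
    rw [show a ((g : G)⁻¹ * (h : G)) = 1 from e2, one_mul]
  haveI : IsCyclic A := isCyclic_of_subgroup_isDomain α hα
  obtain ⟨n, hp, hq⟩ := FiniteField.card F p
  rw [← Nat.card_eq_fintype_card] at hq
  set q := Nat.card F with hqdef
  have hq2 : 2 ≤ q := Finite.one_lt_card
  have hAle : Nat.card A + 1 ≤ q := by
    have := Nat.card_le_card_of_injective (fun g : A => (⟨α g, ha0 g⟩ : {x : F // x ≠ 0}))
      fun g h e => hα (congrArg Subtype.val e)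
    rw [Nat.card_eq_fintype_card (α := {x : F // x ≠ 0}), Fintype.card_subtype_compl, Fintype.card_subtype_eq,
      ← Nat.card_eq_fintype_card] at this
    omega
  -- the image in the Galois group
  letI : Algebra (ZMod p) F := ZMod.algebra F p
  obtain ⟨d, hd⟩ : ∃ d : ℕ, q = p ^ d := ⟨(n : ℕ), hq⟩
  have hAut : Nat.card (F ≃+* F) = d := by
    have e : (F ≃+* F) ≃ (F ≃ₐ[ZMod p] F) :=
      { toFun := fun σ => AlgEquiv.ofRingEquiv (f := σ) fun x => RingHom.congr_fun (RingHom.ext_zmod
          ((σ : F →+* F).comp (algebraMap (ZMod p) F)) (algebraMap (ZMod p) F)) x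
        invFun := fun σ => σ.toRingEquiv
        left_inv := fun σ => RingEquiv.ext fun _ => rfl
        right_inv := fun σ => AlgEquiv.ext fun _ => rfl }
    rw [Nat.card_congr e, IsGalois.card_aut_eq_finrank (ZMod p) F]
    refine Nat.pow_right_injective (Fact.out : p.Prime).two_le ?_
    show p ^ Module.finrank (ZMod p) F = p ^ d
    rw [← hd, hqdef, Module.natCard_eq_pow_finrank (K := ZMod p) (V := F), Nat.card_zmod]
  set e := Nat.card π.range with he
  have hed : e ∣ d := hAut ▸ Subgroup.card_subgroup_dvd_card _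
  have hGe : Nat.card G = Nat.card A * e := by
    rw [he, ← Subgroup.index_ker, Subgroup.card_mul_index]
  have hse : s ≤ e := by
    rw [← hs]
    refine Nat.card_le_card_of_injective (fun g => (⟨π g.1, g.1, rfl⟩ : π.range)) fun g h e1 => ?_
    have e2 : σ g.1 = σ h.1 := congrArg Subtype.val e1
    refine Subtype.ext (inv_mul_eq_one.1 (hinj _ fun x => ?_))
    have : f h.1 x = f g.1 x := by rw [hf, hf, ha, ha, g.2, h.2, e2]
    rw [hmul, this, ← hmul, inv_mul_cancel, h1]
  have he0 : 0 < e := Nat.card_pos
  rcases Nat.lt_or_ge e 2 with he1 | he2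
  · have e1 : e = 1 := by omega
    rw [e1, mul_one] at hGe
    have htop : A = ⊤ := Subgroup.eq_top_of_card_eq _ hGe.symm
    haveI : IsCyclic G := isCyclic_of_surjective A.subtype (by
      rw [← MonoidHom.range_eq_top, Subgroup.range_subtype]; exact htop)
    refine ⟨?_, fun _ => Or.inl inferInstance⟩
    letI : CommGroup G := IsCyclic.commGroup
    rw [Nat.card_congr (ConjClasses.mkEquiv (α := G)).symm]
    omega
  -- the class equation
  have hM : ∃ M, (∀ g, g ∉ A → Nat.card {x : A // (g : G) * x = (x : G) * g} ≤ M) ∧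
      ∃ j, 2 ≤ j ∧ (M + 1) ^ j = q := by
    have hfix : ∀ g, g ∉ A → ∃ j m, 2 ≤ j ∧ m ^ j = q ∧ 2 ≤ m ∧
        Nat.card {x : A // (g : G) * x = (x : G) * g} + 1 ≤ m := by
      intro g hg
      set K : Subfield F := RingHom.eqLocusField (σ g : F →+* F) (RingHom.id F) with hK
      haveI := Fintype.ofFinite K
      have hKcard : q = Nat.card K ^ Module.finrank K F := Module.natCard_eq_pow_finrank
      refine ⟨Module.finrank K F, Nat.card K, ?_, hKcard.symm, Finite.one_lt_card, ?_⟩
      · by_contra h
        have h1' : Module.finrank K F = 1 := by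
          have := Module.finrank_pos (R := K) (M := F)
          omega
        rw [h1', pow_one] at hKcard
        refine hg (RingEquiv.ext fun x => ?_)
        have hx : x ∈ K := by
          have htop : (K : Set F) = Set.univ := Set.eq_of_subset_of_ncard_le (Set.subset_univ _) (by
            rw [Set.ncard_univ, ← hqdef, hKcard, ← Nat.card_coe_set_eq]; exact le_rfl) (Set.toFinite _)
          show x ∈ (K : Set F)
          rw [htop]; exact Set.mem_univ x
        exact hx
      · have hmem : ∀ x : {x : A // (g : G) * x = (x : G) * g}, a ((x.1 : A) : G) ∈ K := fun x => by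
          show σ g (a (x.1 : G)) = a (x.1 : G)
          have e1 := congrArg a x.2
          rw [hmula, hmula, hAσ x.1.2, mul_comm (a (x.1 : G))] at e1
          exact mul_left_cancel₀ (ha0 g) e1
        have := Nat.card_le_card_of_injective (fun x => (⟨⟨_, hmem x⟩, fun h => ha0 _ (congrArg Subtype.val h)⟩ :
          {y : K // y ≠ 0})) fun x y h => Subtype.ext (hα (congrArg (fun z : {y : K // y ≠ 0} => ((z.1 : K) : F)) h))
        rw [Nat.card_eq_fintype_card (α := {y : K // y ≠ 0}), Fintype.card_subtype_compl, Fintype.card_subtype_eq,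
          ← Nat.card_eq_fintype_card] at this
        have := Nat.card_pos (α := K)
        omega
    obtain ⟨g₀, hg₀⟩ : ∃ g, g ∉ A := by
      by_contra h
      push Not at h
      have : A = ⊤ := (Subgroup.eq_top_iff' _).2 h
      rw [this, Subgroup.card_top] at hGe
      have := Nat.card_pos (α := G)
      nlinarith
    obtain ⟨gmax, hgmax, hmax⟩ := Finset.exists_max_image (univ.filter fun g => g ∉ A)
      (fun g => if h : g ∉ A then (hfix g h).choose_spec.choose else 0) ⟨g₀, by simp [hg₀]⟩
    have hgm : gmax ∉ A := (Finset.mem_filter.1 hgmax).2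
    obtain ⟨hj, hmj, hm2, -⟩ := (hfix gmax hgm).choose_spec.choose_spec
    refine ⟨(hfix gmax hgm).choose_spec.choose - 1, fun g hg => ?_, (hfix gmax hgm).choose, hj, ?_⟩
    · have h3 := hmax g (Finset.mem_filter.2 ⟨Finset.mem_univ _, hg⟩)
      rw [dif_pos hg, dif_pos hgm] at h3
      have h4 := (hfix g hg).choose_spec.choose_spec.2.2.2
      omega
    · rw [Nat.sub_add_cancel (by omega)]; exact hmj
  obtain ⟨M, hMg, j, hj, hMj⟩ := hM
  have hk : Nat.card (ConjClasses G) * e ≤ Nat.card A + (e * e - 1) * M := by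
    refine Nat.le_of_mul_le_mul_left ?_ (Nat.card_pos (α := A))
    have hsum : Nat.card (ConjClasses G) * Nat.card G =
        ∑ g : G, Nat.card (Subgroup.centralizer ({g} : Set G)) := by
      rw [← card_comm_eq_card_conjClasses_mul_card,
        Nat.card_congr (Equiv.subtypeProdEquivSigmaSubtype fun a b : G => Commute a b), Nat.card_sigma]
      refine Finset.sum_congr rfl fun a _ => Nat.card_congr (Equiv.subtypeEquivRight fun b => ?_)
      rw [Subgroup.mem_centralizer_singleton_iff]
      exact ⟨Eq.symm, Eq.symm⟩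
    have hcut : ∀ g : G, Nat.card (Subgroup.centralizer ({g} : Set G)) ≤
        Nat.card {x : A // g * (x : G) = (x : G) * g} * e := by
      intro g
      set C := Subgroup.centralizer ({g} : Set G) with hC
      have hmi : Nat.card (A.subgroupOf C) * (A.subgroupOf C).index = Nat.card C := Subgroup.card_mul_index _
      rw [← hmi]
      refine Nat.mul_le_mul ?_ ?_
      · exact Nat.card_le_card_of_injective (fun x => ⟨⟨((x.1 : C) : G), x.2⟩,
          (Subgroup.mem_centralizer_singleton_iff.1 (x.1 : C).2).symm⟩)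
          fun x y h => Subtype.ext (Subtype.ext (congrArg
            (fun z : {x : A // g * (x : G) = (x : G) * g} => ((z.1 : A) : G)) h))
      · rw [he, ← Subgroup.index_ker, ← hA]
        exact Nat.le_of_dvd (Nat.pos_of_ne_zero A.index_ne_zero_of_finite) (Subgroup.relIndex_dvd_index_of_normal A C)
    have hpairs : ∑ g : A, Nat.card (Subgroup.centralizer ({(g : G)} : Set G)) =
        ∑ h : G, Nat.card {x : A // h * (x : G) = (x : G) * h} := by
      rw [← Nat.card_sigma, ← Nat.card_sigma]
      refine Nat.card_congr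
        { toFun := fun z => ⟨(z.2 : G), ⟨z.1, Subgroup.mem_centralizer_singleton_iff.1 z.2.2⟩⟩
          invFun := fun z => ⟨z.2.1, ⟨z.1, Subgroup.mem_centralizer_singleton_iff.2 z.2.2⟩⟩
          left_inv := fun _ => rfl
          right_inv := fun _ => rfl }
    set S := (univ : Finset G).filter fun g => g ∉ A with hS
    have hScard : S.card = Nat.card A * (e - 1) := by
      have h0 := Finset.card_filter_add_card_filter_not (s := (univ : Finset G)) (fun g => g ∉ A)
      have h00 : (univ.filter fun g => ¬ g ∉ A).card = Nat.card A := by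
        rw [Nat.card_eq_fintype_card, Fintype.card_subtype]; simp only [not_not]
      rw [← hS, h00, Finset.card_univ, ← Nat.card_eq_fintype_card, hGe] at h0
      rw [Nat.mul_sub, mul_one]
      omega
    have hAsum : ∑ g : A, Nat.card (Subgroup.centralizer ({(g : G)} : Set G)) ≤
        Nat.card A * Nat.card A + S.card * M := by
      rw [hpairs, ← Finset.sum_filter_add_sum_filter_not univ (fun g => g ∉ A), ← hS, add_comm]
      refine add_le_add ((Finset.sum_le_card_nsmul _ _ (Nat.card A) fun g _ =>
        Nat.card_le_card_of_injective Subtype.val Subtype.val_injective).trans_eq ?_) ?_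
      · rw [smul_eq_mul]; congr 1
        rw [Nat.card_eq_fintype_card, Fintype.card_subtype]; simp only [not_not]
      · refine (Finset.sum_le_card_nsmul _ _ M fun g hg => hMg g (Finset.mem_filter.1 hg).2).trans_eq ?_
        rw [smul_eq_mul]
    have hout : ∑ g ∈ S, Nat.card (Subgroup.centralizer ({g} : Set G)) ≤ S.card * (M * e) :=
      (Finset.sum_le_card_nsmul _ _ (M * e) fun g hg => (hcut g).trans
        (Nat.mul_le_mul_right e (hMg g (Finset.mem_filter.1 hg).2))).trans_eq (smul_eq_mul _ _)
    have hsplit : ∑ g : G, Nat.card (Subgroup.centralizer ({g} : Set G)) =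
        (∑ g ∈ S, Nat.card (Subgroup.centralizer ({g} : Set G))) +
          ∑ g : A, Nat.card (Subgroup.centralizer ({(g : G)} : Set G)) := by
      rw [← Finset.sum_filter_add_sum_filter_not univ (fun g => g ∉ A), ← hS]
      congr 1
      exact Finset.sum_subtype _ (fun x => by simp) _
    calc Nat.card A * (Nat.card (ConjClasses G) * e) = Nat.card (ConjClasses G) * Nat.card G := by rw [hGe]; ring
      _ ≤ S.card * (M * e) + (Nat.card A * Nat.card A + S.card * M) := by rw [hsum, hsplit]; exact add_le_add hout hAsum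
      _ = _ := by
        rw [hScard]
        obtain ⟨e', he'⟩ : ∃ e', e = e' + 1 := ⟨e - 1, by omega⟩
        rw [he', Nat.add_sub_cancel, show (e' + 1) * (e' + 1) - 1 = e' * e' + 2 * e' by
          rw [show (e' + 1) * (e' + 1) = e' * e' + 2 * e' + 1 by ring, Nat.add_sub_cancel]]
        ring
  have hd0 : 0 < d := by
    rcases Nat.eq_zero_or_pos d with h | h
    · rw [h, pow_zero] at hd; omega
    · exact h
  have hpe : ¬ p ∣ e := fun h => hcop (h.trans ⟨Nat.card A, by rw [hGe, mul_comm]⟩)
  have hseE : s * e ≤ e * e := Nat.mul_le_mul_right e hse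
  have hee : 1 ≤ e * e := Nat.mul_pos he0 he0
  rcases semilinear_arith hp hed hd0 he2 hpe hj (hMj.trans hd) with h | ⟨h8, he3, hm⟩ | ⟨h9, he2', hm⟩
  · have hlt : Nat.card (ConjClasses G) + s < q := by
      refine Nat.lt_of_mul_lt_mul_right (a := e) ?_
      rw [add_mul]
      calc _ ≤ Nat.card A + (e * e - 1) * M + e * e := add_le_add hk hseE
        _ < q * e := by
          obtain ⟨e', he'⟩ : ∃ e', e = e' + 1 := ⟨e - 1, by omega⟩
          rw [he'] at he2 h ⊢
          rw [show (e' + 1) * (e' + 1) - 1 = e' * (e' + 2) by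
            rw [show (e' + 1) * (e' + 1) = e' * (e' + 2) + 1 by ring, Nat.add_sub_cancel]]
          rw [← hd] at h
          have := Nat.mul_lt_mul_of_pos_left h (show 0 < e' by omega)
          nlinarith
    exact ⟨hlt.le, fun h => absurd h hlt.ne⟩
  · have hM1 : M = 1 := by omega
    rw [← hd] at h8
    rw [he3, hM1] at hk
    rw [he3] at hse hGe
    have hA7 : Nat.card A ≤ 7 := by omega
    refine ⟨by omega, fun hE => Or.inr (Or.inl ⟨h8, ?_⟩)⟩
    omega
  · have hM2 : M = 2 := by omega
    rw [← hd] at h9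
    rw [he2', hM2] at hk
    rw [he2'] at hse hGe
    refine ⟨by omega, fun hE => Or.inr (Or.inr ⟨h9, ?_⟩)⟩
    omega

end Cfsg.Lib.Linear.CoprimeTrans
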