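import Cfsg.Agent.Lib.Linear.CoprimeTrans.EightyOne
import Cfsg.Agent.Lib.Linear.CoprimeTrans.Semilinear

/-!
The class number of a transitive linear group of invertible order.
-/

set_option autoImplicit false
set_option linter.unusedSectionVars false
open Cfsg.Lib.Recog.SolvTrans

namespace Cfsg.Lib.Linear.CoprimeTrans

universe u

variable {q : ℕ} [Fact q.Prime] {V : Type*} [AddCommGroup V] [Module (ZMod q) V] [Finite V] [Nontrivial V]
  {G : Type u} [Group G] [Finite G] {ι : G →* Module.End (ZMod q) V}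
  (hι : Function.Injective ι) (htrans : Trans ι) {s : ℕ}
  (hs : ∀ v : V, v ≠ 0 → Nat.card {g : G // ι g v = v} = s)

include hι htrans hs

theorem card_eq : Nat.card G = s * (Nat.card V - 1) := by
  classical
  obtain ⟨v, hv⟩ := exists_ne (0 : V)
  haveI := Fintype.ofFinite G
  haveI := Fintype.ofFinite V
  have hne : ∀ g, ι g v ≠ 0 := fun g h => hv (by rw [← ι_inv_apply (ι := ι) g v, h, map_zero])
  rw [Nat.card_congr (Equiv.sigmaFiberEquiv fun g => (⟨ι g v, hne g⟩ : {w : V // w ≠ 0})).symm, Nat.card_sigma]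
  rw [Finset.sum_congr rfl (g := fun _ => s) fun w _ => ?_]
  · rw [Finset.sum_const, smul_eq_mul, Finset.card_univ, Fintype.card_subtype_compl, Fintype.card_subtype_eq,
      ← Nat.card_eq_fintype_card, mul_comm]
  obtain ⟨g₀, hg₀⟩ := htrans v w.1 hv w.2
  rw [← hs v hv]
  refine Nat.card_congr
    { toFun := fun g => ⟨g₀⁻¹ * g.1, ?_⟩
      invFun := fun g => ⟨g₀ * g.1, Subtype.ext ?_⟩
      left_inv := fun g => Subtype.ext (mul_inv_cancel_left _ _)
      right_inv := fun g => Subtype.ext (inv_mul_cancel_left _ _) }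
  · have e : ι g.1 v = w.1 := congrArg Subtype.val g.2
    rw [map_mul, Module.End.mul_apply, e, ← hg₀, ι_inv_apply]
  · show ι (g₀ * g.1) v = w.1
    rw [map_mul, Module.End.mul_apply, g.2, hg₀]

theorem abelian_case (hcop : ¬ q ∣ Nat.card G) (hab : ∀ a b : G, a * b = b * a) :
    IsCyclic G ∧ Nat.card (ConjClasses G) + s = Nat.card V := by
  classical
  have hc := card_eq hι htrans hs
  have hf : FieldLike (alg ι (⊤ : Subgroup G)) :=
    fieldLike_of_transitive htrans (fun a _ b _ => hab a b) (by rwa [Subgroup.card_top])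
  haveI : IsCyclic (⊤ : Subgroup G) := isCyclic_of_fieldLike hι (fun a _ b _ => hab a b) hf
  refine ⟨isCyclic_of_surjective (⊤ : Subgroup G).subtype fun g => ⟨⟨g, trivial⟩, rfl⟩, ?_⟩
  obtain ⟨v, hv⟩ := exists_ne (0 : V)
  have hs1 : s = 1 := by
    rw [← hs v hv]
    haveI : Subsingleton {g : G // ι g v = v} := by
      refine ⟨fun g h => Subtype.ext (hι (LinearMap.ext fun w => ?_))⟩
      by_cases hw : w = 0
      · rw [hw, map_zero, map_zero]
      obtain ⟨k, hk⟩ := htrans v w hv hw
      rw [← hk, ← Module.End.mul_apply, ← Module.End.mul_apply, ← map_mul, ← map_mul, hab, hab h.1, map_mul,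
        map_mul, Module.End.mul_apply, Module.End.mul_apply, g.2, h.2]
    haveI : Nonempty {g : G // ι g v = v} := ⟨⟨1, by rw [map_one]; rfl⟩⟩
    exact Nat.card_unique
  letI : CommGroup G := { (inferInstance : Group G) with mul_comm := hab }
  rw [Nat.card_congr (ConjClasses.mkEquiv (α := G)).symm, hc, hs1, one_mul]
  have := Nat.card_pos (α := V)
  omega

theorem linear_bound (hcop : ¬ q ∣ Nat.card G) :
    Nat.card (ConjClasses G) + s ≤ Nat.card V ∧
      (Nat.card (ConjClasses G) + s = Nat.card V →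
        IsCyclic G ∨ (Nat.card V = 8 ∧ Nat.card G = 21) ∨ (Nat.card V = 9 ∧ Nat.card G = 16)) := by
  classical
  by_cases hab : ∀ a b : G, a * b = b * a
  · obtain ⟨h1, h2⟩ := abelian_case hι htrans hs hcop hab
    exact ⟨h2.le, fun _ => Or.inl h1⟩
  have hna : Subgroup.center G ≠ ⊤ := fun h => hab fun a b => Subgroup.mem_center_iff.1 (h ▸ trivial) a
  have hc := card_eq hι htrans hs
  have hV : Nat.card V = q ^ Module.finrank (ZMod q) V := card_V
  rcases Nat.lt_or_ge (Module.finrank (ZMod q) V) 2 with h | h2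
  · exfalso
    have hpos := finrank_pos' (q := q) (V := V)
    obtain ⟨v, hv, hspan⟩ := finrank_eq_one_iff'.1 (show Module.finrank (ZMod q) V = 1 by omega)
    refine hab fun a b => hι (LinearMap.ext fun w => ?_)
    obtain ⟨k, rfl⟩ := hspan w
    obtain ⟨ka, hka⟩ := hspan (ι a v)
    obtain ⟨kb, hkb⟩ := hspan (ι b v)
    simp only [map_mul, Module.End.mul_apply, map_smul, ← hka, ← hkb, smul_smul, mul_comm ka kb]
  rcases eq_or_lt_of_le h2 with h | h3
  · rw [← h] at hV
    rw [hV] at hc
    obtain ⟨hle, heq⟩ := two_dim_bound ι hι h.symm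
      (fun h0 => hcop ((CharP.cast_eq_zero_iff (ZMod q) q _).1 h0)) hna (s := s)
      (by rw [Nat.card_zmod]; exact hc) hs
    rw [Nat.card_zmod] at hle heq
    rw [hV]
    refine ⟨hle, fun he => Or.inr (Or.inr ?_)⟩
    obtain ⟨hq, hG⟩ := heq he
    exact ⟨by rw [hq]; norm_num, hG⟩
  haveI : Group.IsSolvable G := isSolvable_of_large hι htrans hcop h3
  by_cases hsl : ∃ A : Subgroup G, A.Normal ∧ (∀ a ∈ A, ∀ b ∈ A, a * b = b * a) ∧
      ∀ W : Submodule (ZMod q) V, (∀ a ∈ A, ∀ v ∈ W, ι a v ∈ W) → W = ⊥ ∨ W = ⊤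
  · obtain ⟨A, hAn, hAc, hirr⟩ := hsl
    let ρ : G →* (V ≃ₗ[ZMod q] V) :=
      { toFun := fun g => LinearEquiv.ofLinear (ι g) (ι g⁻¹)
          (by rw [← Module.End.mul_eq_comp, ← map_mul, mul_inv_cancel, map_one]; rfl)
          (by rw [← Module.End.mul_eq_comp, ← map_mul, inv_mul_cancel, map_one]; rfl)
        map_one' := LinearEquiv.ext fun v => by show ι 1 v = v; rw [map_one]; rfl
        map_mul' := fun a b => LinearEquiv.ext fun v => by show ι (a * b) v = ι a (ι b v); rw [map_mul]; rfl }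
    haveI : (A.map ρ.rangeRestrict).Normal := Subgroup.Normal.map hAn _ ρ.rangeRestrict_surjective
    have hcm : IsMulCommutative (A.map ρ.rangeRestrict) := ⟨⟨by
      rintro ⟨_, a, ha, rfl⟩ ⟨_, b, hb, rfl⟩
      exact Subtype.ext (by
        show ρ.rangeRestrict a * ρ.rangeRestrict b = ρ.rangeRestrict b * ρ.rangeRestrict a
        rw [← map_mul, ← map_mul, hAc a ha b hb])⟩⟩
    obtain ⟨F, iF, iFt, e, he⟩ := Cfsg.Lib.Perm.Zas25.semilinear_of_irreducible (A.map ρ.rangeRestrict) hcm
      (fun W hW => hirr W fun a ha v hv => hW (ρ.rangeRestrict a) ⟨a, ha, rfl⟩ v hv)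
    have hVF : Nat.card V = Nat.card F := Nat.card_congr e.toEquiv
    haveI : CharP F q := by
      obtain ⟨c, hcF⟩ := CharP.exists F
      have hq0 : (q : F) = 0 := by
        have h1 : e ((q : ℕ) • e.symm 1) = 0 := by
          rw [← Nat.cast_smul_eq_nsmul (ZMod q), ZMod.natCast_self, zero_smul, map_zero]
        rwa [map_nsmul, e.apply_symm_apply, nsmul_eq_mul, mul_one] at h1
      rcases (Nat.dvd_prime Fact.out).1 ((CharP.cast_eq_zero_iff F c q).1 hq0) with rfl | rfl
      · exact absurd rfl (CharP.char_ne_one F 1)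
      · exact hcF
    obtain ⟨hle, heq⟩ := semilinear_bound (F := F) (fun g x => e (ι g (e.symm x)))
      (fun x => by simp) (fun g h x => by simp)
      (fun g hg => hι (LinearMap.ext fun v => by
        have := hg (e v)
        simp only [e.symm_apply_apply, EmbeddingLike.apply_eq_iff_eq] at this
        rw [this, map_one]; rfl))
      (fun g => by
        obtain ⟨a, σ, hσ⟩ := he (ρ.rangeRestrict g)
        exact ⟨a, σ, fun x => (hσ (e.symm x)).trans (by rw [e.apply_symm_apply])⟩)
      hcop (s := s) (hVF ▸ hc)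
      (by
        rw [← hs (e.symm 1) (fun h0 => one_ne_zero (e.symm.injective (h0.trans e.symm.map_zero.symm) : (1 : F) = 0))]
        exact Nat.card_congr (Equiv.subtypeEquivRight fun g =>
          ⟨fun h => e.injective (h.trans (e.apply_symm_apply 1).symm), fun h => by rw [h, e.apply_symm_apply]⟩))
    exact ⟨hVF ▸ hle, fun h => hVF ▸ heq (hVF ▸ h)⟩
  have hns : NotSL ι := by
    intro A hA hAc
    by_contra h
    push Not at h
    exact hsl ⟨A, hA, hAc, fun W hW => or_iff_not_imp_left.2 (h W hW)⟩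
  have h26 : ¬ (q = 2 ∧ Module.finrank (ZMod q) V = 6) := fun h =>
    dim_six hι htrans hns h.2 h.1
  obtain ⟨hq3, hn4⟩ := dim_large hι htrans hns (by omega) h26
  subst hq3
  have h81 : Nat.card V = 81 := by rw [hV, hn4]; norm_num
  rw [h81] at hc ⊢
  have hlt := eighty_one_bound hι htrans hcop hn4 hns (s := s) hc
  exact ⟨hlt.le, fun h => absurd h hlt.ne⟩

end Cfsg.Lib.Linear.CoprimeTrans
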