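import Mathlib

/-!
Finite groups in which centralisers of non-central elements are abelian with normalisers of relative
index at most two: the class number.
-/

set_option autoImplicit false
set_option linter.unusedSectionVars false

namespace Cfsg.Lib.Linear.CoprimeTrans

open Finset

theorem arith_two {n m₁ m₂ d₁ d₂ : ℕ} (h₁ : m₁ * (d₁ + 1) = n) (h₂ : 2 * (m₂ * (d₂ + 1)) = n)
    (hd₁ : 1 ≤ d₁) (hd₂ : 1 ≤ d₂) (hsum : m₁ * d₁ + m₂ * d₂ + 1 = n) :
    (d₁ = 1 ∧ 2 * (d₂ + 1) = n) ∨ (n = 12 ∧ d₁ = 2 ∧ d₂ = 1) := by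
  have h3 : 2 * m₁ + 2 * m₂ = n + 2 := by
    rw [mul_add, mul_one] at h₁ h₂; omega
  rcases Nat.lt_or_ge d₁ 3 with hd | hd
  · interval_cases d₁
    · left
      have : m₂ = 1 := by omega
      subst this
      exact ⟨rfl, by omega⟩
    · right
      have hd2 : d₂ = 1 := by
        by_contra h
        have := Nat.mul_le_mul_left m₂ (show 3 ≤ d₂ + 1 by omega)
        omega
      subst hd2
      omega
  · have := Nat.mul_le_mul_left m₁ (show 4 ≤ d₁ + 1 by omega)
    have := Nat.mul_le_mul_left m₂ (show 2 ≤ d₂ + 1 by omega)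
    omega

theorem arith_three {n a b c d₁ d₂ d₃ : ℕ} (h₁ : 2 * (a * (d₁ + 1)) = n) (h₂ : 2 * (b * (d₂ + 1)) = n)
    (h₃ : 2 * (c * (d₃ + 1)) = n) (hd₁ : 1 ≤ d₁) (hd₂ : 1 ≤ d₂) (hd₃ : 1 ≤ d₃)
    (hsum : a * d₁ + b * d₂ + c * d₃ + 1 = n) (hba : b ≤ a) (hcb : c ≤ b) :
    (2 * (d₃ + 1) = n ∧ d₁ = 1 ∧ d₂ = 1) ∨ (n = 12 ∧ d₁ + d₂ + d₃ = 5) ∨ (n = 24 ∧ d₁ + d₂ + d₃ = 6) ∨
      (n = 60 ∧ d₁ + d₂ + d₃ = 7) := by
  have h4 : 2 * (a + b + c) = n + 2 := by
    rw [mul_add, mul_one] at h₁ h₂ h₃; omega
  have e1 : d₁ = 1 := by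
    by_contra h
    have := Nat.mul_le_mul_left a (show 3 ≤ d₁ + 1 by omega)
    omega
  subst e1
  have e2 : d₂ = 1 ∨ d₂ = 2 := by
    by_contra h
    have := Nat.mul_le_mul_left b (show 4 ≤ d₂ + 1 by omega)
    omega
  rcases e2 with rfl | rfl
  · left
    have : c = 1 := by omega
    subst this
    exact ⟨by omega, rfl, rfl⟩
  · right
    rcases Nat.lt_or_ge d₃ 5 with h | h
    · interval_cases d₃ <;> omega
    · have := Nat.mul_le_mul_left c (show 6 ≤ d₃ + 1 by omega)
      omega

variable (G : Type*) [Group G]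

/-- The type of centralisers of non-central elements. -/
abbrev Cent : Type _ :=
  {A : Subgroup G // ∃ g, g ∉ Subgroup.center G ∧ Subgroup.centralizer ({g} : Set G) = A}

variable {G}

theorem map_conj_centralizer (x g : G) :
    (Subgroup.centralizer ({g} : Set G)).map (MulAut.conj x).toMonoidHom =
      Subgroup.centralizer ({x * g * x⁻¹} : Set G) := by
  ext y
  simp only [Subgroup.mem_map, MulEquiv.coe_toMonoidHom, MulAut.conj_apply, Subgroup.mem_centralizer_singleton_iff]
  constructor
  · rintro ⟨a, ha, rfl⟩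
    rw [show x * a * x⁻¹ * (x * g * x⁻¹) = x * (a * g) * x⁻¹ by group, ha]
    group
  · intro hy
    refine ⟨x⁻¹ * y * x, ?_, by group⟩
    calc x⁻¹ * y * x * g = x⁻¹ * (y * (x * g * x⁻¹)) * x := by group
      _ = x⁻¹ * ((x * g * x⁻¹) * y) * x := by rw [hy]
      _ = g * (x⁻¹ * y * x) := by group

theorem not_mem_center_conj {x g : G} (hg : g ∉ Subgroup.center G) : x * g * x⁻¹ ∉ Subgroup.center G :=
  fun h => hg (by
    have := (inferInstance : (Subgroup.center G).Normal).conj_mem _ h x⁻¹
    rwa [show x⁻¹ * (x * g * x⁻¹) * x⁻¹⁻¹ = g by group] at this)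

instance : MulAction G (Cent G) where
  smul x A := ⟨A.1.map (MulAut.conj x).toMonoidHom, by
    obtain ⟨g, hg, hA⟩ := A.2
    exact ⟨x * g * x⁻¹, not_mem_center_conj hg, by rw [← hA, map_conj_centralizer]⟩⟩
  one_smul A := Subtype.ext (by
    show A.1.map (MulAut.conj (1 : G)).toMonoidHom = A.1
    rw [map_one]; exact Subgroup.map_id _)
  mul_smul x y A := Subtype.ext (by
    show A.1.map (MulAut.conj (x * y)).toMonoidHom =
      (A.1.map (MulAut.conj y).toMonoidHom).map (MulAut.conj x).toMonoidHom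
    rw [Subgroup.map_map, map_mul]; rfl)

theorem smul_cent_coe (x : G) (A : Cent G) : (x • A).1 = A.1.map (MulAut.conj x).toMonoidHom := rfl

theorem stabilizer_cent (A : Cent G) :
    MulAction.stabilizer G A = Subgroup.normalizer (A.1 : Set G) := by
  ext x
  rw [MulAction.mem_stabilizer_iff, Subtype.ext_iff, smul_cent_coe, Subgroup.mem_normalizer_iff, SetLike.ext_iff]
  simp only [Subgroup.mem_map, MulEquiv.coe_toMonoidHom, MulAut.conj_apply]
  constructor
  · intro h a
    constructor
    · exact fun ha => (h _).1 ⟨a, ha, rfl⟩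
    · intro ha
      obtain ⟨b, hb, hbe⟩ := (h _).2 ha
      rwa [mul_left_cancel (mul_right_cancel hbe)] at hb
  · intro h y
    constructor
    · rintro ⟨a, ha, rfl⟩
      exact (h a).1 ha
    · intro hy
      exact ⟨x⁻¹ * y * x, (h _).2 (by rwa [show x * (x⁻¹ * y * x) * x⁻¹ = y by group]), by group⟩

variable [Finite G]
  (hCA : ∀ g : G, g ∉ Subgroup.center G → ∀ a b : G, Commute g a → Commute g b → Commute a b)
  (h2 : ∀ g : G, g ∉ Subgroup.center G →
    Nat.card (Subgroup.normalizer ((Subgroup.centralizer ({g} : Set G) : Subgroup G) : Set G)) ≤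
      2 * Nat.card (Subgroup.centralizer ({g} : Set G)))

include hCA in
theorem centralizer_eq_of_mem {g h : G} (hg : g ∉ Subgroup.center G) (hh : h ∉ Subgroup.center G)
    (hmem : h ∈ Subgroup.centralizer ({g} : Set G)) :
    Subgroup.centralizer ({h} : Set G) = Subgroup.centralizer ({g} : Set G) := by
  have hgh : Commute g h := (Subgroup.mem_centralizer_singleton_iff.1 hmem).symm
  ext x
  rw [Subgroup.mem_centralizer_singleton_iff, Subgroup.mem_centralizer_singleton_iff]
  exact ⟨fun hx => (hCA h hh x g (Eq.symm hx) hgh.symm).eq,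
    fun hx => (hCA g hg x h (Eq.symm hx) hgh).eq⟩

theorem center_le_centralizer (g : G) : Subgroup.center G ≤ Subgroup.centralizer ({g} : Set G) :=
  fun z hz => Subgroup.mem_centralizer_singleton_iff.2 ((Subgroup.mem_center_iff.1 hz g).symm)

include hCA h2 in
/-- The three configurations and their class numbers. -/
theorem partition (hna : Subgroup.center G ≠ ⊤) :
    (∃ g : G, g ∉ Subgroup.center G ∧ 2 * Nat.card (Subgroup.centralizer ({g} : Set G)) = Nat.card G ∧
      2 * Nat.card (ConjClasses G) =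
        Nat.card (Subgroup.centralizer ({g} : Set G)) + 3 * Nat.card (Subgroup.center G)) ∨
    ∃ n c : ℕ, ((n = 12 ∧ c = 7) ∨ (n = 24 ∧ c = 8) ∨ (n = 60 ∧ c = 9)) ∧
      Nat.card G = Nat.card (Subgroup.center G) * n ∧
      2 * Nat.card (ConjClasses G) = c * Nat.card (Subgroup.center G) := by
  classical
  haveI := Fintype.ofFinite G
  haveI : Fintype (Cent G) := Fintype.ofFinite _
  set z := Nat.card (Subgroup.center G) with hz
  have hzpos : 0 < z := Nat.card_pos
  set S := (univ : Finset G).filter (fun g => g ∉ Subgroup.center G) with hS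
  have hSc : S.card + z = Nat.card G := by
    have h0 := Finset.card_filter_add_card_filter_not (s := (univ : Finset G))
      (fun g => g ∉ Subgroup.center G)
    rw [hz, Nat.card_eq_fintype_card, Nat.card_eq_fintype_card, Fintype.card_subtype,
      ← Finset.card_univ (α := G), hS]
    simpa only [not_not] using h0
  -- counting along the partition
  let φ : {g // g ∈ S} → Cent G := fun g =>
    ⟨Subgroup.centralizer ({g.1} : Set G), g.1, (Finset.mem_filter.1 g.2).2, rfl⟩
  have hsum : ∀ F : Subgroup G → ℕ, ∑ g ∈ S, F (Subgroup.centralizer ({g} : Set G)) =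
      ∑ A : Cent G, (Nat.card A.1 - z) * F A.1 := by
    intro F
    rw [← Finset.sum_attach, ← Finset.sum_fiberwise S.attach φ]
    refine Finset.sum_congr rfl fun A _ => ?_
    rw [Finset.sum_congr rfl (g := fun _ => F A.1) fun g hg => by
      rw [← (Finset.mem_filter.1 hg).2], Finset.sum_const, smul_eq_mul]
    congr 1
    obtain ⟨g₀, hg₀, hA⟩ := A.2
    have hZA : Subgroup.center G ≤ A.1 := hA ▸ center_le_centralizer g₀
    have e1 : (S.attach.filter fun g => φ g = A).card = (S.filter (· ∈ A.1)).card := by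
      refine Finset.card_bij (fun g _ => g.1) ?_ (fun _ _ _ _ e => Subtype.ext e) ?_
      · intro g hg
        have : Subgroup.centralizer ({g.1} : Set G) = A.1 := congrArg Subtype.val (Finset.mem_filter.1 hg).2
        exact Finset.mem_filter.2 ⟨g.2, this ▸ Subgroup.mem_centralizer_singleton_iff.2 rfl⟩
      · intro g hg
        obtain ⟨hgS, hgA⟩ := Finset.mem_filter.1 hg
        refine ⟨⟨g, hgS⟩, Finset.mem_filter.2 ⟨Finset.mem_attach _ _, Subtype.ext ?_⟩, rfl⟩
        show Subgroup.centralizer ({g} : Set G) = A.1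
        rw [← hA]
        exact centralizer_eq_of_mem hCA hg₀ (Finset.mem_filter.1 hgS).2 (hA.symm ▸ hgA)
    have e2 : (S.filter (· ∈ A.1)).card + z = Nat.card A.1 := by
      rw [hz, Nat.card_eq_fintype_card, Nat.card_eq_fintype_card, Fintype.card_subtype, Fintype.card_subtype,
        ← Finset.card_union_of_disjoint]
      · congr 1
        ext g
        simp only [hS, Finset.mem_union, Finset.mem_filter, Finset.mem_univ, true_and]
        exact ⟨fun h => h.elim (fun h => h.2) (fun h => hZA h), fun h =>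
          (em (g ∈ Subgroup.center G)).symm.imp (fun hc => ⟨hc, h⟩) id⟩
      · rw [Finset.disjoint_left]
        intro g h1 h2
        simp only [hS, Finset.mem_filter, Finset.mem_univ, true_and] at h1 h2
        exact h1.1 h2
    omega
  -- group the orbits
  set Ω := Quotient (MulAction.orbitRel G (Cent G))
  haveI : Fintype Ω := Fintype.ofFinite _
  have horb : ∀ F : Cent G → ℕ, (∀ (x : G) (A : Cent G), F (x • A) = F A) →
      ∑ A, F A = ∑ ω : Ω, Nat.card (MulAction.orbit G ω.out) * F ω.out := by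
    intro F hF
    rw [← (MulAction.selfEquivSigmaOrbits G (Cent G)).symm.sum_comp, Fintype.sum_sigma]
    refine Finset.sum_congr rfl fun ω _ => ?_
    rw [Finset.sum_congr rfl (g := fun _ => F ω.out) fun A _ => by
      obtain ⟨x, hx⟩ := A.2
      show F A.1 = _
      rw [← hx]; exact hF x _, Finset.sum_const, smul_eq_mul, Finset.card_univ, Nat.card_eq_fintype_card]
  have hcardsmul : ∀ (x : G) (A : Cent G), Nat.card (x • A).1 = Nat.card A.1 := fun x A => by
    rw [smul_cent_coe]
    exact (Subgroup.card_map_of_injective (MulAut.conj x).injective)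
  obtain ⟨n, hn⟩ : z ∣ Nat.card G := Subgroup.card_subgroup_dvd_card _
  -- parameters of an orbit
  have hpar : ∀ ω : Ω, ∃ m d f : ℕ, Nat.card (MulAction.orbit G ω.out) = m ∧
      Nat.card ω.out.1 = z * (d + 1) ∧ 1 ≤ d ∧ (f = 1 ∨ f = 2) ∧ f * (m * (d + 1)) = n ∧
      m * (d + 1) ≠ 1 ∧ ¬ (f = 1 ∧ m = 1) := by
    intro ω
    obtain ⟨g, hg, hA⟩ := ω.out.2
    have hZA : Subgroup.center G ≤ ω.out.1 := hA ▸ center_le_centralizer g
    obtain ⟨e, he⟩ := Subgroup.card_dvd_of_le hZA
    have hlt : z < Nat.card ω.out.1 := by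
      refine lt_of_le_of_ne (Subgroup.card_le_of_le hZA) fun h => hg ?_
      rw [Subgroup.eq_of_le_of_card_ge hZA h.ge, ← hA]
      exact Subgroup.mem_centralizer_singleton_iff.2 rfl
    have he2 : 2 ≤ e := by
      by_contra h
      rw [he] at hlt
      nlinarith
    obtain ⟨f, hf⟩ := Subgroup.card_dvd_of_le (Subgroup.le_normalizer (H := ω.out.1))
    have hfle : f ≤ 2 := by
      have h1 := h2 g hg
      rw [hA, hf] at h1
      exact Nat.le_of_mul_le_mul_left (h1.trans_eq (mul_comm _ _)) Nat.card_pos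
    have hf0 : f ≠ 0 := fun h => Nat.card_pos.ne' (hf.trans (by rw [h, mul_zero]))
    have hN : Nat.card (MulAction.orbit G ω.out) * Nat.card (Subgroup.normalizer (ω.out.1 : Set G)) = Nat.card G := by
      rw [← stabilizer_cent, Nat.card_coe_set_eq, ← MulAction.index_stabilizer, Subgroup.index_mul_card]
    have key : f * (Nat.card (MulAction.orbit G ω.out) * e) = n := by
      refine Nat.eq_of_mul_eq_mul_left hzpos ?_
      rw [← hn, ← hN, hf, he]; ring
    have hm0 : 0 < Nat.card (MulAction.orbit G ω.out) :=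
      Nat.pos_of_ne_zero fun h => Nat.card_pos.ne' (hN.symm.trans (by rw [h, zero_mul]))
    refine ⟨_, e - 1, f, rfl, ?_, by omega, by omega, ?_, ?_, ?_⟩
    · rw [show e - 1 + 1 = e by omega]; exact he
    · rw [show e - 1 + 1 = e by omega]; exact key
    · rw [show e - 1 + 1 = e by omega]
      intro h
      have := Nat.eq_one_of_mul_eq_one_left h
      omega
    · rintro ⟨rfl, hm⟩
      rw [hm, one_mul, one_mul] at key
      have hAtop : ω.out.1 = ⊤ := Subgroup.eq_top_of_card_eq _ (by rw [he, key, hn])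
      refine hg (Subgroup.mem_center_iff.2 fun x => ?_)
      have hx : x ∈ Subgroup.centralizer ({g} : Set G) := by rw [hA, hAtop]; trivial
      exact Subgroup.mem_centralizer_singleton_iff.1 hx
  choose m d f hm hd hd1 hf hkey hne1 hf1 using hpar
  have hcount : ∑ ω : Ω, m ω * d ω + 1 = n := by
    refine Nat.eq_of_mul_eq_mul_left hzpos ?_
    rw [← hn, ← hSc, mul_add, mul_one, Finset.card_eq_sum_ones, hsum (fun _ => 1),
      horb (fun A => (Nat.card A.1 - z) * 1) (fun x A => by rw [hcardsmul]), Finset.mul_sum]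
    congr 1
    refine Finset.sum_congr rfl fun ω _ => ?_
    rw [hm, hd, mul_add, mul_one, mul_one, Nat.add_sub_cancel]; ring
  have hclass : 2 * Nat.card (ConjClasses G) = z * (2 + ∑ ω : Ω, (3 - f ω) * d ω) := by
    refine Nat.eq_of_mul_eq_mul_right (Nat.card_pos (α := G)) ?_
    have hk : Nat.card (ConjClasses G) * Nat.card G = ∑ g : G, Nat.card (Subgroup.centralizer ({g} : Set G)) := by
      rw [← card_comm_eq_card_conjClasses_mul_card,
        Nat.card_congr (Equiv.subtypeProdEquivSigmaSubtype fun a b : G => Commute a b), Nat.card_sigma]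
      refine Finset.sum_congr rfl fun a _ => Nat.card_congr (Equiv.subtypeEquivRight fun b => ?_)
      rw [Subgroup.mem_centralizer_singleton_iff]
      exact ⟨Eq.symm, Eq.symm⟩
    rw [mul_assoc, hk, ← Finset.sum_filter_add_sum_filter_not univ (fun g => g ∉ Subgroup.center G), ← hS,
      hsum (fun A => Nat.card A), horb (fun A => (Nat.card A.1 - z) * Nat.card A.1) (fun x A => by rw [hcardsmul])]
    have hcen : ∑ g ∈ univ.filter (fun g => ¬ g ∉ Subgroup.center G),
        Nat.card (Subgroup.centralizer ({g} : Set G)) = z * Nat.card G := by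
      rw [Finset.sum_congr rfl (g := fun _ => Nat.card G) fun g hg => by
        have hgc : g ∈ Subgroup.center G := not_not.1 (Finset.mem_filter.1 hg).2
        rw [← Subgroup.card_top (G := G), (Subgroup.eq_top_iff' _).2 fun x =>
          Subgroup.mem_centralizer_singleton_iff.2 (Subgroup.mem_center_iff.1 hgc x)],
        Finset.sum_const, smul_eq_mul, hz, Nat.card_eq_fintype_card (α := Subgroup.center G), Fintype.card_subtype]
      simp only [not_not]
    rw [hcen, mul_add, mul_add, add_mul, hn, Finset.mul_sum, Finset.mul_sum, Finset.sum_mul]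
    rw [add_comm]
    congr 1
    · ring
    refine Finset.sum_congr rfl fun ω _ => ?_
    rw [hm, hd, mul_add, mul_one, Nat.add_sub_cancel, ← hkey ω]
    rcases hf ω with e | e <;> rw [e] <;> ring
  have hnG : ∀ ω, 2 * Nat.card ω.out.1 = Nat.card G ↔ 2 * (d ω + 1) = n := fun ω => by
    rw [hd, hn, ← mul_assoc, mul_comm 2 z, mul_assoc]
    exact ⟨fun h => Nat.eq_of_mul_eq_mul_left hzpos h, fun h => by rw [h]⟩
  -- finish the dihedral configuration
  have hdih : ∀ ω : Ω, 2 * (d ω + 1) = n → (∑ ω : Ω, (3 - f ω) * d ω) = 2 + d ω →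
      ∃ g : G, g ∉ Subgroup.center G ∧ 2 * Nat.card (Subgroup.centralizer ({g} : Set G)) = Nat.card G ∧
        2 * Nat.card (ConjClasses G) =
          Nat.card (Subgroup.centralizer ({g} : Set G)) + 3 * z := by
    intro ω h1 h3
    obtain ⟨g, hg, hA⟩ := ω.out.2
    refine ⟨g, hg, by rw [hA]; exact (hnG ω).2 h1, ?_⟩
    rw [hA, hclass, h3, hd]; ring
  have hbig : ∀ ω, n ≤ 4 * (m ω * d ω) ∧ (f ω = 1 → n ≤ 2 * (m ω * d ω)) := fun ω => by
    have h3 := Nat.mul_le_mul_left (m ω) (show d ω + 1 ≤ 2 * d ω by have := hd1 ω; omega)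
    rw [mul_left_comm] at h3
    have := hkey ω
    rcases hf ω with e | e <;> rw [e] at this ⊢ <;> omega
  have hn1 : 0 < n := by
    rcases Nat.eq_zero_or_pos n with h | h
    · exact absurd (hn.trans (by rw [h, mul_zero])) Nat.card_pos.ne'
    · exact h
  have hΩ : Fintype.card Ω ≤ 3 := by
    by_contra h
    have h3 := Finset.card_nsmul_le_sum (univ : Finset Ω) (fun ω => 4 * (m ω * d ω)) n fun ω _ => (hbig ω).1
    rw [smul_eq_mul, ← Finset.mul_sum, Finset.card_univ] at h3
    have := Nat.mul_le_mul_right n (show 4 ≤ Fintype.card Ω by omega)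
    omega
  obtain ⟨K, hK⟩ : ∃ K, Fintype.card Ω = K := ⟨_, rfl⟩
  rw [hK] at hΩ
  interval_cases K
  · exfalso
    rw [← Finset.card_univ, Finset.card_eq_zero] at hK
    rw [hK, Finset.sum_empty, zero_add] at hcount
    refine hna (Subgroup.eq_top_of_card_eq _ ?_)
    rw [hn, ← hcount, mul_one]
  · exfalso
    obtain ⟨w, hw⟩ := Fintype.card_eq_one_iff.1 hK
    have huniv : (univ : Finset Ω) = {w} := Finset.eq_singleton_iff_unique_mem.2 ⟨mem_univ _, fun x _ => hw x⟩
    rw [huniv, Finset.sum_singleton] at hcount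
    have := hkey w
    rw [mul_add, mul_one] at this
    rcases hf w with e | e <;> rw [e] at this
    · exact hf1 w ⟨e, by omega⟩
    · have := hd1 w
      rcases Nat.eq_zero_or_pos (m w) with h | h
      · simp only [h, zero_mul] at hcount this; omega
      · omega
  · rw [← Finset.card_univ] at hK
    obtain ⟨a, b, hab, huniv⟩ := Finset.card_eq_two.1 hK
    simp only [huniv, Finset.sum_pair hab] at hcount hclass hdih
    have go : ∀ a b, f a = 1 → f b = 2 → m a * d a + m b * d b + 1 = n →
        2 * Nat.card (ConjClasses G) = z * (2 + ((3 - f a) * d a + (3 - f b) * d b)) →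
        (2 * (d b + 1) = n ∧ (3 - f a) * d a + (3 - f b) * d b = 2 + d b) ∨
        (n = 12 ∧ 2 * Nat.card (ConjClasses G) = 7 * z) := by
      intro a b ea eb hs hc
      have ha := hkey a
      have hb := hkey b
      rw [ea, one_mul] at ha
      rw [eb] at hb
      rcases arith_two ha hb (hd1 a) (hd1 b) hs with ⟨h1, h3⟩ | ⟨h1, h3, h4⟩
      · exact Or.inl ⟨h3, by rw [ea, eb, h1]; ring⟩
      · exact Or.inr ⟨h1, by rw [hc, ea, eb, h3, h4]; ring⟩
    have ha := hbig a
    have hb := hbig b
    have ka := hkey a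
    have kb := hkey b
    rcases hf a with ea | ea <;> rcases hf b with eb | eb
    · exact absurd hcount (by have := ha.2 ea; have := hb.2 eb; omega)
    · rcases go a b ea eb hcount hclass with ⟨h1, h3⟩ | ⟨h1, h3⟩
      · exact Or.inl (hdih b h1 h3)
      · exact Or.inr ⟨12, 7, Or.inl ⟨rfl, rfl⟩, by rw [hn, h1], h3⟩
    · rcases go b a eb ea (by omega) (by rw [hclass]; ring) with ⟨h1, h3⟩ | ⟨h1, h3⟩
      · exact Or.inl (hdih a h1 (by omega))
      · exact Or.inr ⟨12, 7, Or.inl ⟨rfl, rfl⟩, by rw [hn, h1], h3⟩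
    · exfalso
      rw [ea, mul_add, mul_one] at ka
      rw [eb, mul_add, mul_one] at kb
      have := Nat.one_le_iff_ne_zero.2 (fun h : m a = 0 => by rw [h] at ka; simp at ka; omega)
      have := Nat.one_le_iff_ne_zero.2 (fun h : m b = 0 => by rw [h] at kb; simp at kb; omega)
      omega
  · rw [← Finset.card_univ] at hK
    obtain ⟨a, b, c, hab, hac, hbc, huniv⟩ := Finset.card_eq_three.1 hK
    have hs3 : ∀ F : Ω → ℕ, ∑ ω, F ω = F a + F b + F c := fun F => by
      rw [huniv, Finset.sum_insert (by simp [hab, hac]), Finset.sum_pair hbc, add_assoc]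
    simp only [hs3] at hcount hclass hdih
    have h2f : f a = 2 ∧ f b = 2 ∧ f c = 2 := by
      have := (hbig a).1
      have := (hbig b).1
      have := (hbig c).1
      refine ⟨?_, ?_, ?_⟩
      · rcases hf a with e | e
        · have := (hbig a).2 e; omega
        · exact e
      · rcases hf b with e | e
        · have := (hbig b).2 e; omega
        · exact e
      · rcases hf c with e | e
        · have := (hbig c).2 e; omega
        · exact e
    obtain ⟨ea, eb, ec⟩ := h2f
    have ka := hkey a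
    have kb := hkey b
    have kc := hkey c
    rw [ea] at ka
    rw [eb] at kb
    rw [ec] at kc
    simp only [ea, eb, ec, show (3 : ℕ) - 2 = 1 from rfl, one_mul] at hclass hdih
    have key : ∀ u v w : Ω, 2 * (m u * (d u + 1)) = n → 2 * (m v * (d v + 1)) = n →
        2 * (m w * (d w + 1)) = n → m u * d u + m v * d v + m w * d w + 1 = n →
        d u + d v + d w = d a + d b + d c → m v ≤ m u → m w ≤ m v →
        (∃ g : G, g ∉ Subgroup.center G ∧ 2 * Nat.card (Subgroup.centralizer ({g} : Set G)) = Nat.card G ∧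
          2 * Nat.card (ConjClasses G) = Nat.card (Subgroup.centralizer ({g} : Set G)) + 3 * z) ∨
        ∃ n' k : ℕ, ((n' = 12 ∧ k = 7) ∨ (n' = 24 ∧ k = 8) ∨ (n' = 60 ∧ k = 9)) ∧
          Nat.card G = z * n' ∧ 2 * Nat.card (ConjClasses G) = k * z := by
      intro u v w hu hv hw hs hsd h1 h3
      rcases arith_three hu hv hw (hd1 u) (hd1 v) (hd1 w) hs h1 h3 with
        ⟨e1, e2, e3⟩ | ⟨e1, e2⟩ | ⟨e1, e2⟩ | ⟨e1, e2⟩
      · exact Or.inl (hdih w e1 (by omega))
      · exact Or.inr ⟨12, 7, Or.inl ⟨rfl, rfl⟩, by rw [hn, e1], by rw [hclass, ← hsd, e2]; ring⟩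
      · exact Or.inr ⟨24, 8, Or.inr (Or.inl ⟨rfl, rfl⟩), by rw [hn, e1], by rw [hclass, ← hsd, e2]; ring⟩
      · exact Or.inr ⟨60, 9, Or.inr (Or.inr ⟨rfl, rfl⟩), by rw [hn, e1], by rw [hclass, ← hsd, e2]; ring⟩
    rcases le_total (m b) (m a) with h1 | h1 <;> rcases le_total (m c) (m b) with h3 | h3 <;>
      rcases le_total (m c) (m a) with h4 | h4
    all_goals first
      | exact key a b c ka kb kc (by omega) (by omega) (by omega) (by omega)
      | exact key a c b ka kc kb (by omega) (by omega) (by omega) (by omega)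
      | exact key b a c kb ka kc (by omega) (by omega) (by omega) (by omega)
      | exact key b c a kb kc ka (by omega) (by omega) (by omega) (by omega)
      | exact key c a b kc ka kb (by omega) (by omega) (by omega) (by omega)
      | exact key c b a kc kb ka (by omega) (by omega) (by omega) (by omega)

end Cfsg.Lib.Linear.CoprimeTrans
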