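import Cfsg.Agent.Lib.Linear.CoprimeTrans.Lower
import Cfsg.Agent.Lib.Core.PSolvable
import Cfsg.Agent.Lib.Core.Cores
import Cfsg.Prelude.Def_Perm

/-!
The `p`-regular classes of a `p`-solvable group with one class of nontrivial `p`-elements.
-/

set_option autoImplicit false
set_option linter.unusedSectionVars false

namespace Cfsg.Lib.Linear.CoprimeTrans

universe u

/-- The `p`-regular conjugacy classes. -/
abbrev RegClass (p : ℕ) (G : Type*) [Group G] : Type _ :=
  {c : ConjClasses G // ∃ g : G, ConjClasses.mk g = c ∧ ¬ p ∣ orderOf g}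

variable {p : ℕ} [Fact p.Prime] {G : Type u} [Group G] [Finite G]

/-- The hypothesis that the nontrivial `p`-elements are conjugate. -/
def OnePClass (p : ℕ) (G : Type u) [Group G] : Prop :=
  ∀ x y : G, x ≠ 1 → y ≠ 1 → (∃ k : ℕ, orderOf x = p ^ k) → (∃ k : ℕ, orderOf y = p ^ k) → IsConj x y

theorem onePClass_quotient (h : OnePClass p G) (K : Subgroup G) [K.Normal] : OnePClass p (G ⧸ K) := by
  have key : ∀ x : G ⧸ K, (∃ k : ℕ, orderOf x = p ^ k) →
      ∃ y : G, (QuotientGroup.mk' K) y = x ∧ ∃ k : ℕ, orderOf y = p ^ k := by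
    rintro x ⟨k, hk⟩
    obtain ⟨R, hR⟩ := (IsPGroup.of_card (G := Subgroup.zpowers x) (n := k) (by rw [Nat.card_zpowers, hk])).exists_le_sylow
    obtain ⟨P, rfl⟩ := Sylow.mapSurjective_surjective (QuotientGroup.mk'_surjective K) p R
    obtain ⟨y, hy, hyx⟩ := hR (Subgroup.mem_zpowers x)
    obtain ⟨m, hm⟩ := IsPGroup.iff_orderOf.1 P.isPGroup' ⟨y, hy⟩
    exact ⟨y, hyx, m, by rw [← hm, Subgroup.orderOf_mk]⟩
  intro x y hx hy hxp hyp
  obtain ⟨a, rfl, ha⟩ := key x hxp
  obtain ⟨b, rfl, hb⟩ := key y hyp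
  exact MonoidHom.map_isConj _ (h a b (fun e => hx (by rw [e, map_one])) (fun e => hy (by rw [e, map_one])) ha hb)

/-- A `p`-solvable group with trivial `p'`-core and one class of nontrivial `p`-elements is a
split extension of an elementary abelian Sylow subgroup by a transitive group. -/
theorem setup (hsolv : Cfsg.IsPSolvable p G) (hdiv : p ∣ Nat.card G) (h : OnePClass p G)
    (hO : Cfsg.pPrimeCore p G = ⊥) :
    ∃ V H : Subgroup G, V.Normal ∧ Subgroup.IsComplement' V H ∧ V ≠ ⊥ ∧ (∀ v ∈ V, v ^ p = 1) ∧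
      ¬ p ∣ Nat.card H ∧ Subgroup.centralizer (V : Set G) = V ∧
      ∀ v ∈ V, ∀ w ∈ V, v ≠ 1 → w ≠ 1 → ∃ g ∈ H, g * v * g⁻¹ = w := by
  classical
  have hp : p.Prime := Fact.out
  haveI : Nontrivial G := Finite.one_lt_card_iff_nontrivial.1
    (lt_of_lt_of_le hp.one_lt (Nat.le_of_dvd Nat.card_pos hdiv))
  set V := Cfsg.pCore p G with hVdef
  have hVp : IsPGroup p V := Cfsg.Lib.Core.pCore_isPGroup p G
  haveI hVn : V.Normal := inferInstanceAs (Cfsg.pCore p G).Normal
  have hVne : V ≠ ⊥ := Cfsg.Lib.Core.pCore_ne_bot_of_isPSolvable hsolv hO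
  have hCle : Subgroup.centralizer (V : Set G) ≤ V := Cfsg.Lib.Core.centralizer_pCore_le_of_isPSolvable hsolv hO
  obtain ⟨v₀, hv₀, hv₀1⟩ := V.bot_or_exists_ne_one.resolve_left hVne
  have hpel : ∀ v ∈ V, ∃ k : ℕ, orderOf v = p ^ k := fun v hv => by
    obtain ⟨m, hm⟩ := IsPGroup.iff_orderOf.1 hVp ⟨v, hv⟩
    exact ⟨m, by rw [← hm, Subgroup.orderOf_mk]⟩
  have hin : ∀ x : G, (∃ k : ℕ, orderOf x = p ^ k) → x ∈ V := by
    intro x hx
    by_cases hx1 : x = 1
    · exact hx1 ▸ V.one_mem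
    obtain ⟨c, hc⟩ := isConj_iff.1 (h v₀ x hv₀1 hx1 (hpel v₀ hv₀) hx)
    exact hc ▸ hVn.conj_mem v₀ hv₀ c
  have hconjV : ∀ v ∈ V, ∀ w ∈ V, v ≠ 1 → w ≠ 1 → ∃ g : G, g * v * g⁻¹ = w := fun v hv w hw hv1 hw1 =>
    isConj_iff.1 (h v w hv1 hw1 (hpel v hv) (hpel w hw))
  -- `V` is elementary abelian
  haveI : Nontrivial V := (Subgroup.nontrivial_iff_ne_bot V).2 hVne
  haveI := hVp.center_nontrivial
  obtain ⟨⟨z, hz⟩, hz1⟩ := exists_ne (1 : Subgroup.center V)
  have hzc : ∀ b ∈ V, b * (z : G) = (z : G) * b := fun b hb =>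
    congrArg Subtype.val (Subgroup.mem_center_iff.1 hz ⟨b, hb⟩)
  have hzne : (z : G) ≠ 1 := fun e => hz1 (Subtype.ext (Subtype.ext e))
  have hab : ∀ a ∈ V, ∀ b ∈ V, a * b = b * a := by
    intro a ha b hb
    by_cases ha1 : a = 1
    · rw [ha1, one_mul, mul_one]
    obtain ⟨g, rfl⟩ := hconjV z z.2 a ha hzne ha1
    have e := hzc (g⁻¹ * b * g) (by simpa using hVn.conj_mem b hb g⁻¹)
    calc g * z * g⁻¹ * b = g * ((z : G) * (g⁻¹ * b * g)) * g⁻¹ := by group
      _ = g * (g⁻¹ * b * g * (z : G)) * g⁻¹ := by rw [e]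
      _ = b * (g * z * g⁻¹) := by group
  have hexp : ∀ v ∈ V, v ^ p = 1 := by
    obtain ⟨u, hu⟩ := exists_prime_orderOf_dvd_card' (G := G) p hdiv
    intro v hv
    by_cases hv1 : v = 1
    · rw [hv1, one_pow]
    have hu1 : u ≠ 1 := fun e => hp.ne_one (by rw [← hu, e, orderOf_one])
    obtain ⟨g, rfl⟩ := isConj_iff.1 (h u v hu1 hv1 ⟨1, by rw [hu, pow_one]⟩ (hpel v hv))
    rw [conj_pow, ← hu, pow_orderOf_eq_one, mul_one, mul_inv_cancel]
  -- `V` is a Sylow subgroup
  have hidx : ¬ p ∣ V.index := by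
    obtain ⟨P, hP⟩ := hVp.exists_le_sylow
    have : (P : Subgroup G) = V := le_antisymm (fun x hx => hin x (by
      obtain ⟨m, hm⟩ := IsPGroup.iff_orderOf.1 P.isPGroup' ⟨x, hx⟩
      exact ⟨m, by rw [← hm, Subgroup.orderOf_mk]⟩)) hP
    rw [← this]
    exact P.not_dvd_index
  obtain ⟨n, hn⟩ := IsPGroup.iff_card.1 hVp
  obtain ⟨H, hH⟩ := Subgroup.exists_right_complement'_of_coprime (N := V)
    (by rw [hn]; exact ((hp.coprime_iff_not_dvd).2 hidx).pow_left n)
  refine ⟨V, H, hVn, hH, hVne, hexp, hH.symm.index_eq_card ▸ hidx,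
    le_antisymm hCle (fun a ha b hb => (hab a ha b hb).symm), ?_⟩
  intro v hv w hw hv1 hw1
  obtain ⟨g, hg⟩ := hconjV v hv w hw hv1 hw1
  obtain ⟨⟨a, b⟩, rfl : (a : G) * (b : G) = g⟩ := hH.2 g
  refine ⟨b, b.2, ?_⟩
  rw [← hg]
  have e := hab _ a.2 _ (hVn.conj_mem v hv b)
  calc (b : G) * v * (b : G)⁻¹ = ((b : G) * v * (b : G)⁻¹) * (a : G) * (a : G)⁻¹ := (mul_inv_cancel_right _ _).symm
    _ = (a : G) * ((b : G) * v * (b : G)⁻¹) * (a : G)⁻¹ := by rw [e]
    _ = (a : G) * b * v * ((a : G) * b)⁻¹ := by group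

/-- Conjugation fixes no nonidentity element of `V`. -/
def Free (V H : Subgroup G) : Prop := ∀ h ∈ H, ∀ v ∈ V, v ≠ 1 → h * v * h⁻¹ = v → h = 1

theorem exists_retraction {V H : Subgroup G} [V.Normal] (hc : Subgroup.IsComplement' V H) :
    ∃ r : G →* H, (∀ h : H, r (h : G) = h) ∧ (∀ v ∈ V, r v = 1) ∧ ∀ g : G, g * (r g : G)⁻¹ ∈ V := by
  let φ : H →* G ⧸ V := (QuotientGroup.mk' V).comp H.subtype
  have hker : ∀ h : H, φ h = 1 → h = 1 := fun h e =>
    Subtype.ext (Subgroup.mem_bot.1 (hc.disjoint.le_bot ⟨(QuotientGroup.eq_one_iff (h : G)).1 e, h.2⟩))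
  have hbij : Function.Bijective φ := by
    refine ⟨(injective_iff_map_eq_one φ).2 hker, fun x => ?_⟩
    obtain ⟨g, rfl⟩ := QuotientGroup.mk'_surjective V x
    obtain ⟨⟨a, b⟩, rfl : (a : G) * (b : G) = g⟩ := hc.2 g
    refine ⟨b, ?_⟩
    rw [map_mul, show (QuotientGroup.mk' V) (a : G) = 1 from (QuotientGroup.eq_one_iff _).2 a.2, one_mul]
    rfl
  let e := MulEquiv.ofBijective φ hbij
  refine ⟨e.symm.toMonoidHom.comp (QuotientGroup.mk' V), fun h => e.symm_apply_apply h, fun v hv => ?_, fun g => ?_⟩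
  · show e.symm (QuotientGroup.mk' V v) = 1
    rw [show QuotientGroup.mk' V v = 1 from (QuotientGroup.eq_one_iff _).2 hv, map_one]
  · refine (QuotientGroup.eq_one_iff _).1 ?_
    show QuotientGroup.mk' V (g * (e.symm (QuotientGroup.mk' V g) : G)⁻¹) = 1
    rw [map_mul, map_inv]
    exact mul_inv_eq_one.2 (e.apply_symm_apply _).symm

theorem complement_cases {V H : Subgroup G} [hVn : V.Normal] (hc : Subgroup.IsComplement' V H) (hne : V ≠ ⊥)
    (hexp : ∀ v ∈ V, v ^ p = 1) (hcopH : ¬ p ∣ Nat.card H) (hself : Subgroup.centralizer (V : Set G) = V)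
    (htrans : ∀ v ∈ V, ∀ w ∈ V, v ≠ 1 → w ≠ 1 → ∃ g ∈ H, g * v * g⁻¹ = w) :
    p ≤ Nat.card (ConjClasses H) ∨
      (Nat.card V = p ∧ Nat.card H = p - 1 ∧ Nat.card (ConjClasses H) = p - 1 ∧ Free V H) ∨
      (p = 11 ∧ Nat.card V = p ^ 2 ∧ Nat.card H = 120 ∧ Nat.card (ConjClasses H) = 9 ∧ Free V H ∧
        ¬ Group.IsSolvable H ∧ (∀ x y : H, orderOf x = 2 → orderOf y = 2 → x = y) ∧
        Nonempty (H ≃* Cfsg.Lib.Recog.Icosa.SL25)) := by
  classical
  have hab : ∀ a ∈ V, ∀ b ∈ V, a * b = b * a := fun a ha b hb =>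
    ((hself.symm ▸ ha : a ∈ Subgroup.centralizer (V : Set G)) b hb).symm
  letI : CommGroup V := { (inferInstance : Group V) with
    mul_comm := fun a b => Subtype.ext (hab a a.2 b b.2) }
  letI : Module (ZMod p) (Additive V) := AddCommGroup.zmodModule (n := p) fun a =>
    Subtype.ext (hexp _ (Additive.toMul a).2)
  haveI : Nontrivial V := (Subgroup.nontrivial_iff_ne_bot V).2 hne
  haveI : Nontrivial (Additive V) := inferInstanceAs (Nontrivial V)
  haveI : Finite (Additive V) := inferInstanceAs (Finite V)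
  let act : H → Additive V →+ Additive V := fun g =>
    MonoidHom.toAdditive
      { toFun := fun v => (⟨(g : G) * v * (g : G)⁻¹, hVn.conj_mem v v.2 g⟩ : V)
        map_one' := Subtype.ext (by simp)
        map_mul' := fun a b => Subtype.ext (by simp [mul_assoc]) }
  have hact : ∀ (g : H) (v : Additive V),
      ((Additive.toMul (act g v) : V) : G) = (g : G) * (Additive.toMul v : V) * (g : G)⁻¹ := fun g v => rfl
  let ι : H →* Module.End (ZMod p) (Additive V) :=
    { toFun := fun g => (act g).toZModLinearMap p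
      map_one' := LinearMap.ext fun v => Subtype.ext (by
        show ((Additive.toMul (act 1 v) : V) : G) = _
        rw [hact]; simp; rfl)
      map_mul' := fun a b => LinearMap.ext fun v => Subtype.ext (by
        show ((Additive.toMul (act (a * b) v) : V) : G) = ((Additive.toMul (act a (act b v)) : V) : G)
        rw [hact, hact, hact]; push_cast; group) }
  have hval : ∀ (g : H) (v : Additive V), ι g v = v ↔
      (g : G) * (Additive.toMul v : V) * (g : G)⁻¹ = (Additive.toMul v : V) := fun g v =>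
    ⟨fun h => congrArg (fun w : Additive V => ((Additive.toMul w : V) : G)) h, fun h => Subtype.ext h⟩
  have hι : Function.Injective ι := by
    intro g h e
    have hz : ((g : G)⁻¹ * (h : G)) ∈ V := by
      rw [← hself]
      intro v hv
      have e1 := congrArg (fun f : Module.End (ZMod p) (Additive V) =>
        ((Additive.toMul (f (Additive.ofMul ⟨v, hv⟩)) : V) : G)) e
      change (g : G) * v * (g : G)⁻¹ = (h : G) * v * (h : G)⁻¹ at e1
      calc v * ((g : G)⁻¹ * h) = (g : G)⁻¹ * ((g : G) * v * (g : G)⁻¹) * h := by group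
        _ = (g : G)⁻¹ * h * v := by rw [e1]; group
    have hd := hc.disjoint.le_bot ⟨hz, H.mul_mem (H.inv_mem g.2) h.2⟩
    exact Subtype.ext (inv_mul_eq_one.1 (Subgroup.mem_bot.1 hd))
  have htr : Cfsg.Lib.Recog.SolvTrans.Trans ι := by
    intro v w hv hw
    obtain ⟨g, hg, e⟩ := htrans (Additive.toMul v : V) (Additive.toMul v).2 (Additive.toMul w : V)
      (Additive.toMul w).2 (fun h => hv (Subtype.ext h)) (fun h => hw (Subtype.ext h))
    exact ⟨⟨g, hg⟩, Subtype.ext e⟩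
  obtain ⟨v₀, hv₀⟩ := exists_ne (0 : Additive V)
  have hstab : ∀ v : Additive V, v ≠ 0 →
      Nat.card {g : H // ι g v = v} = Nat.card {g : H // ι g v₀ = v₀} := by
    intro v hv
    obtain ⟨k, rfl⟩ := htr v₀ v hv₀ hv
    refine Nat.card_congr
      { toFun := fun g => ⟨k⁻¹ * g.1 * k, ?_⟩
        invFun := fun g => ⟨k * g.1 * k⁻¹, ?_⟩
        left_inv := fun g => Subtype.ext (by simp [mul_assoc])
        right_inv := fun g => Subtype.ext (by simp [mul_assoc]) }
    · rw [map_mul, map_mul, Module.End.mul_apply, Module.End.mul_apply, g.2, Cfsg.Lib.Recog.SolvTrans.ι_inv_apply]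
    · rw [map_mul, map_mul, Module.End.mul_apply, Module.End.mul_apply, Cfsg.Lib.Recog.SolvTrans.ι_inv_apply, g.2]
  have hfree : Nat.card {g : H // ι g v₀ = v₀} = 1 → Free V H := by
    intro h1 g hg v hv hv1 e
    set w : Additive V := Additive.ofMul ⟨v, hv⟩
    have hw : w ≠ 0 := fun h => hv1 (congrArg (fun w : Additive V => ((Additive.toMul w : V) : G)) h)
    haveI : Subsingleton {g : H // ι g w = w} := (Nat.card_eq_one_iff_unique.1 ((hstab w hw).trans h1)).1
    exact congrArg (fun z : {g : H // ι g w = w} => ((z.1 : H) : G))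
      (Subsingleton.elim (⟨⟨g, hg⟩, (hval ⟨g, hg⟩ w).2 e⟩ : {g : H // ι g w = w}) ⟨1, by rw [map_one]; rfl⟩)
  have hcardV : Nat.card (Additive V) = Nat.card V := Nat.card_congr Additive.toMul
  rcases class_lower hι htr hstab hcopH with hle | ⟨hV, hH, hk, h1⟩ | ⟨hp11, hd, hH, hk, h1, hz⟩
  · exact Or.inl hle
  · exact Or.inr (Or.inl ⟨hcardV ▸ hV, hH, hk, hfree h1⟩)
  · obtain ⟨hns, hiso⟩ := iso_sl_of_exception hι htr hstab hcopH hd hH hk h1 hz
    refine Or.inr (Or.inr ⟨hp11, ?_, hH, hk, hfree h1, hns, fun x y hx hy => ?_, hiso⟩)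
    · rw [← hcardV, Cfsg.Lib.Recog.SolvTrans.card_V (q := p), hd]
    · have hfix : ∀ g : H, ∀ v : Additive V, v ≠ 0 → ι g v = v → g = 1 := fun g v hv e =>
        Subtype.ext (hfree h1 g g.2 _ (Additive.toMul v).2 (fun h => hv (Subtype.ext h)) ((hval g v).1 e))
      exact hι ((neg_one_of_involution hι hfix hx).trans (neg_one_of_involution hι hfix hy).symm)

theorem isConj_of_mem {V H : Subgroup G} [V.Normal] (hc : Subgroup.IsComplement' V H) {a b : H}
    (h : IsConj (a : G) (b : G)) : IsConj a b := by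
  obtain ⟨r, hr, -, -⟩ := exists_retraction hc
  simpa only [hr] using MonoidHom.map_isConj r h

omit [Fact p.Prime] in
theorem card_le_reg {V H : Subgroup G} [V.Normal] (hc : Subgroup.IsComplement' V H)
    (hcopH : ¬ p ∣ Nat.card H) : Nat.card (ConjClasses H) ≤ Nat.card (RegClass p G) := by
  classical
  have hreg : ∀ h : H, ¬ p ∣ orderOf (h : G) := fun h hd =>
    hcopH (hd.trans (Subgroup.orderOf_coe h ▸ orderOf_dvd_natCard h))
  choose r hr using (ConjClasses.mk_surjective : Function.Surjective (ConjClasses.mk (α := H)))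
  refine Nat.card_le_card_of_injective
    (fun c => (⟨ConjClasses.mk ((r c : H) : G), _, rfl, hreg _⟩ : RegClass p G)) fun a b e => ?_
  rw [← hr a, ← hr b]
  exact ConjClasses.mk_eq_mk_iff_isConj.2
    (isConj_of_mem hc (ConjClasses.mk_eq_mk_iff_isConj.1 (congrArg Subtype.val e)))

theorem reg_le_of_free {V H : Subgroup G} [hVn : V.Normal] (hc : Subgroup.IsComplement' V H)
    (hexp : ∀ v ∈ V, v ^ p = 1) (hfree : Free V H) :
    Nat.card (RegClass p G) ≤ Nat.card (ConjClasses H) := by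
  classical
  have hmem : ∀ g : G, ¬ p ∣ orderOf g → ∃ h : H, IsConj (h : G) g := by
    intro g hg
    obtain ⟨⟨v, h⟩, hvh : (v : G) * (h : G) = g⟩ := hc.2 g
    by_cases h1 : (h : G) = 1
    · rw [h1, mul_one] at hvh
      rcases (Nat.dvd_prime Fact.out).1 (orderOf_dvd_of_pow_eq_one (hexp _ v.2)) with e | e
      · refine ⟨1, ?_⟩
        rw [orderOf_eq_one_iff, hvh] at e
        rw [e]; exact IsConj.refl _
      · rw [hvh] at e; exact absurd (e ▸ dvd_rfl) hg
    let f : V → V := fun u => ⟨(u : G) * ((h : G) * (u : G)⁻¹ * (h : G)⁻¹),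
      V.mul_mem u.2 (hVn.conj_mem _ (V.inv_mem u.2) h)⟩
    have hf : Function.Injective f := by
      intro a b e
      have e1 : (a : G) * ((h : G) * (a : G)⁻¹ * (h : G)⁻¹) = (b : G) * ((h : G) * (b : G)⁻¹ * (h : G)⁻¹) :=
        congrArg Subtype.val e
      have e2 : (h : G) * ((a : G)⁻¹ * b) * (h : G)⁻¹ = (a : G)⁻¹ * b := by
        calc (h : G) * ((a : G)⁻¹ * b) * (h : G)⁻¹
            = (a : G)⁻¹ * ((a : G) * ((h : G) * (a : G)⁻¹ * (h : G)⁻¹)) * ((h : G) * b * (h : G)⁻¹) := by group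
          _ = (a : G)⁻¹ * b := by rw [e1]; group
      by_contra hne
      exact h1 (hfree _ h.2 _ (V.mul_mem (V.inv_mem a.2) b.2)
        (fun e => hne (Subtype.ext (inv_mul_eq_one.1 e))) e2)
    obtain ⟨u, hu⟩ := (Finite.injective_iff_surjective.1 hf) v
    refine ⟨h, isConj_iff.2 ⟨u, ?_⟩⟩
    rw [← hvh, ← congrArg Subtype.val hu]
    show _ = (u : G) * ((h : G) * (u : G)⁻¹ * (h : G)⁻¹) * (h : G)
    group
  have key : ∀ c : RegClass p G, ∃ h : H, ConjClasses.mk (h : G) = c.1 := by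
    rintro ⟨c, g, rfl, hg⟩
    obtain ⟨h, hh⟩ := hmem g hg
    exact ⟨h, ConjClasses.mk_eq_mk_iff_isConj.2 hh⟩
  choose f hf using key
  refine Nat.card_le_card_of_injective (fun c => ConjClasses.mk (f c)) fun a b e => Subtype.ext ?_
  rw [← hf a, ← hf b]
  exact ConjClasses.mk_eq_mk_iff_isConj.2
    (MonoidHom.map_isConj H.subtype (ConjClasses.mk_eq_mk_iff_isConj.1 e))

theorem frobenius_of_free {V H : Subgroup G} [V.Normal] (hc : Subgroup.IsComplement' V H) (hne : V ≠ ⊥)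
    (hH : H ≠ ⊥) (hfree : Free V H) : Cfsg.IsFrobeniusComplement H := by
  obtain ⟨r, hr, hrV, hrm⟩ := exists_retraction hc
  refine ⟨hH, fun e => hne (Subgroup.eq_bot_iff_forall _ |>.2 fun v hv =>
    Subgroup.mem_bot.1 (hc.disjoint.le_bot ⟨hv, e ▸ trivial⟩)), fun g hg => eq_bot_iff.2 fun x hx => ?_⟩
  obtain ⟨hxH, hxg⟩ := Subgroup.mem_inf.1 hx
  rw [Subgroup.mem_pointwise_smul_iff_inv_smul_mem, ← map_inv, MulAut.smul_def, MulAut.conj_apply, inv_inv] at hxg
  -- `y` is the element of `H` conjugate to `x`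
  obtain ⟨v, hv, h, hh, rfl⟩ : ∃ v ∈ V, ∃ h ∈ H, g = v * h :=
    ⟨_, hrm g, _, (r g).2, (inv_mul_cancel_right g (r g : G)).symm⟩
  have hv1 : v ≠ 1 := fun e => hg (by rw [e, one_mul]; exact hh)
  set y := v⁻¹ * x * v with hy
  have hyH : y ∈ H := by
    have := H.mul_mem (H.mul_mem hh hxg) (H.inv_mem hh)
    rw [hy]; convert this using 1; group
  have hxy : y = x := by
    have e : r y = r x := by rw [hy, map_mul, map_mul, map_inv, hrV v hv]; group
    exact ((congrArg Subtype.val (hr ⟨y, hyH⟩)).symm.trans (congrArg Subtype.val e)).trans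
      (congrArg Subtype.val (hr ⟨x, hxH⟩))
  refine Subgroup.mem_bot.2 (hfree x hxH v hv hv1 ?_)
  rw [hy] at hxy
  calc x * v * x⁻¹ = v * (v⁻¹ * x * v) * x⁻¹ := by group
    _ = v := by rw [hxy, mul_inv_cancel_right]

theorem iso_affine {V H : Subgroup G} [hVn : V.Normal] (hc : Subgroup.IsComplement' V H)
    (hV : Nat.card V = p) (hH : Nat.card H = p - 1) (hfree : Free V H)
    (hself : Subgroup.centralizer (V : Set G) = V) :
    Nonempty (G ≃* ↥(Cfsg.affineGroup (ZMod p))) := by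
  classical
  have hp : p.Prime := Fact.out
  obtain ⟨r, hr, hrV, hrm⟩ := exists_retraction hc
  haveI : IsCyclic V := isCyclic_of_prime_card hV
  let e : Multiplicative (ZMod p) ≃* V := mulEquivOfCyclicCardEq (by
    rw [Nat.card_congr Multiplicative.toAdd, Nat.card_zmod, hV])
  let φ : ZMod p → G := fun x => (e (Multiplicative.ofAdd x) : G)
  have hφmem : ∀ x, φ x ∈ V := fun x => (e _).2
  have hφinj : Function.Injective φ := fun x y h =>
    Multiplicative.ofAdd.injective (e.injective (Subtype.ext h))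
  have hφadd : ∀ x y, φ (x + y) = φ x * φ y := fun x y => by simp [φ]
  have hφsurj : ∀ v ∈ V, ∃ x, φ x = v := fun v hv => ⟨Multiplicative.toAdd (e.symm ⟨v, hv⟩), by simp [φ]⟩
  have hφ0 : φ 0 = 1 := by simp [φ]
  have hmemA : ∀ (g : G) (x : ZMod p), g * φ x * (r g : G)⁻¹ ∈ V := by
    intro g x
    have e1 : g * φ x * (r g : G)⁻¹ = g * φ x * g⁻¹ * (g * (r g : G)⁻¹) := by group
    rw [e1]; exact V.mul_mem (hVn.conj_mem _ (hφmem x) g) (hrm g)
  choose A hA using fun g x => hφsurj _ (hmemA g x)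
  have hA1 : ∀ x, A 1 x = x := fun x => hφinj (by rw [hA, map_one, one_mul]; simp)
  have hAmul : ∀ g g' x, A (g * g') x = A g (A g' x) := fun g g' x => hφinj (by
    rw [hA, hA, hA, map_mul, Subgroup.coe_mul]; group)
  let ψ : G →* Equiv.Perm (ZMod p) :=
    { toFun := fun g => ⟨A g, A g⁻¹, fun x => by rw [← hAmul, inv_mul_cancel, hA1],
        fun x => by rw [← hAmul, mul_inv_cancel, hA1]⟩
      map_one' := Equiv.ext hA1
      map_mul' := fun g g' => Equiv.ext (hAmul g g') }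
  -- the linear part
  have hlin : ∀ g : G, ∃ (a : ZMod p) (b : ZMod p), a ≠ 0 ∧ ∀ x, ψ g x = a * x + b := by
    intro g
    obtain ⟨b, hb⟩ := hφsurj _ (hrm g)
    choose L hL using fun x => hφsurj _ (hVn.conj_mem _ (hφmem x) (r g : G))
    let Lh : ZMod p →+ ZMod p := AddMonoidHom.mk' L fun x y => hφinj (by
      rw [hL, hφadd, hφadd, hL, hL]; group)
    refine ⟨L 1, b, fun h0 => ?_, fun x => ?_⟩
    · have e1 := hL 1
      rw [h0, hφ0] at e1
      have e2 : φ 1 = φ 0 := by rw [hφ0]; exact conj_eq_one_iff.1 e1.symm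
      exact one_ne_zero (hφinj e2)
    · have hLx : L x = L 1 * x := by
        have h1 : Lh (x.val • (1 : ZMod p)) = x.val • Lh 1 := map_nsmul Lh _ _
        rw [nsmul_eq_mul, nsmul_eq_mul, mul_one, ZMod.natCast_zmod_val] at h1
        rw [show L x = Lh x from rfl, h1, mul_comm]; rfl
      refine hφinj ?_
      show φ (A g x) = _
      rw [hA, ← hLx, add_comm, hφadd, hb, hL]; group
  have hmem : ∀ g, ψ g ∈ Cfsg.affineGroup (ZMod p) := fun g => by
    obtain ⟨a, b, ha, hab⟩ := hlin g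
    exact ⟨Units.mk0 a ha, b, hab⟩
  let ψ' : G →* Cfsg.affineGroup (ZMod p) := ψ.codRestrict _ hmem
  have hinj : Function.Injective ψ' := by
    refine (injective_iff_map_eq_one ψ').2 fun g hg => ?_
    have hgx : ∀ x, g * φ x * (r g : G)⁻¹ = φ x := fun x => by
      have : ψ g x = x := by rw [show ψ g = 1 from congrArg Subtype.val hg]; rfl
      rw [← hA g x, show A g x = x from this]
    have hgr : g = (r g : G) := by
      have := hgx 0
      rw [hφ0, mul_one, mul_inv_eq_one] at this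
      exact this
    have hgC : g ∈ Subgroup.centralizer (V : Set G) := fun v hv => by
      obtain ⟨x, rfl⟩ := hφsurj v hv
      have := hgx x
      rw [← hgr] at this
      exact (mul_inv_eq_iff_eq_mul.1 this).symm
    rw [hself] at hgC
    exact Subgroup.mem_bot.1 (hc.disjoint.le_bot ⟨hgC, hgr ▸ (r g).2⟩)
  refine ⟨MulEquiv.ofBijective ψ' ((Nat.bijective_iff_injective_and_card _).2 ⟨hinj,
    le_antisymm (Nat.card_le_card_of_injective _ hinj) ?_⟩)⟩
  rw [← hc.card_mul_card, hV, hH]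
  choose a b hab using fun σ : Cfsg.affineGroup (ZMod p) => σ.2
  refine (Nat.card_le_card_of_injective (fun σ => (a σ, b σ)) fun σ τ h => Subtype.ext (Equiv.ext fun x => ?_)).trans ?_
  · rw [hab, hab, (Prod.mk.inj h).1, (Prod.mk.inj h).2]
  · rw [Nat.card_prod, Nat.card_zmod, Nat.card_eq_fintype_card, ZMod.card_units, mul_comm]

end Cfsg.Lib.Linear.CoprimeTrans
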